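import Mathlib.Data.Fin.VecNotation

/-!
M12 generated by an amalgam: the images of the letters and words for the transversals. Generated file.
-/

set_option autoImplicit false

namespace CfsgLib.M12Counts

/-- Images of the six letters. -/
def amCodes : List ℕ := [
  0x1113070a160c17060b0504120f14080915100e0d01000302,
  0x170a0e130f0c160815140304110702090b10050d12060100,
  0x17110f0e14030b0613150412071608100a02050c0d090100,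
  0x1114070a130c05100f0e040615160d080b12170900020301,
  0x50a0b16130617100f0e091207140408150c110d01020003,
  0x5140b160a060e0c0711091015130d040f12170802030001]

/-- Words for the transversals. -/
def transWords : List (List (List ℕ)) := [
  [[],
   [4, 1, 4, 2, 2, 3, 1, 3],
   [3, 0],
   [1, 5, 3, 2, 2, 4, 1],
   [1, 4, 2, 4, 1, 4, 1, 3, 1, 3],
   [0, 4, 1, 4, 2, 3, 1, 0, 3],
   [3, 2, 4, 2, 0, 2, 3, 1],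
   [2, 0, 4, 1, 4, 1, 3, 2, 0],
   [3, 1, 4, 1, 4, 1, 0, 4, 2],
   [1, 0, 2, 4, 2, 3, 1, 0, 3, 2, 4],
   [4, 1, 3, 2, 3, 2, 0, 1, 1, 3],
   [0, 2, 2, 4, 1, 4, 1, 0, 2, 2]],
  [[],
   [0, 1, 4, 0, 2, 2, 3, 1, 3],
   [0, 4, 1, 0, 2, 2, 0, 1],
   [0, 2, 0, 2, 3, 2, 4, 2, 0, 3],
   [0, 1, 4, 1, 0, 2, 0, 3, 1],
   [2, 4, 2, 3, 1],
   [0, 1, 0, 2, 2, 0, 4, 2, 3, 1],
   [0, 1, 4, 1, 4, 2, 4, 0, 1],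
   [2, 3, 2, 3, 1, 3, 0, 2, 2],
   [2, 3, 0, 1, 0, 3, 2, 2, 3],
   [1, 0, 3, 2, 4, 2, 3, 1, 4]],
  [[],
   [4, 1, 3, 2, 2, 4, 1, 3],
   [3, 2, 3, 1, 0, 3, 1, 3, 2, 0],
   [0, 4, 1, 4, 2, 0, 3, 1],
   [3, 2, 4, 2, 0, 2, 3, 1, 0, 4],
   [1, 0, 3, 1, 3, 2, 2, 4, 2],
   [0, 2, 0, 1, 4, 2, 3, 1, 3, 2, 3],
   [1, 0, 2, 4, 2, 3, 1, 3, 2, 3],
   [2, 3, 2, 0, 2, 3, 2, 3, 2, 3],
   [4, 1, 4, 2, 2, 0, 1, 0, 3, 1]],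
  [[],
   [0, 1, 4, 2, 4, 2, 4, 2, 2, 3, 2],
   [1, 0, 2, 4, 2, 0, 2, 3, 1, 0, 3],
   [3, 1, 0, 3, 1, 4, 2, 0, 2],
   [0, 1, 3, 1, 4, 1, 0, 1, 5, 3],
   [2, 0, 1, 1, 3, 2, 3, 1, 3, 1, 4],
   [4, 1, 5, 3, 1, 4, 1, 0, 1, 4],
   [0, 2, 0, 4, 1, 4, 2, 4, 1, 0],
   [2, 3, 1, 0, 3, 1, 4, 2, 0]],
  [[],
   [3, 0, 1, 0, 2, 2, 0, 1, 4],
   [4, 1, 0, 2, 2, 0, 1, 0, 3],
   [3, 1, 0, 2, 2, 0, 1, 0, 4],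
   [0, 1, 0, 1, 1, 0, 1, 1, 0, 1],
   [0, 1, 0, 2, 2, 0, 1],
   [4, 0, 1, 0, 2, 2, 0, 1, 3],
   [1, 0, 2, 2, 0, 1, 0]]]

end CfsgLib.M12Counts
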