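import Cfsg.Agent.Lib.CosetEnum.LetterCert

/-!
Relators of the amalgam of `2 × Sym 5` with a cycling element of order 3.

Letters: `0` = a, `1` = b, `2` = b⁻¹, `3` = g, `4` = g⁻¹, `5` = s; for the subgroup, `3` = s.
-/

set_option autoImplicit false
set_option maxRecDepth 100000
set_option linter.all false

namespace CfsgLib.M12Counts

/-- The relators. -/
def amRels : List (List ℕ) :=
  [[0, 0],
   [1, 1, 1, 1, 1],
   [0, 1, 0, 1, 0, 1, 0, 1],
   [0, 1, 0, 2, 0, 1, 0, 2, 0, 1, 0, 2],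
   [5, 5],
   [5, 0, 5, 0],
   [5, 1, 5, 2],
   [3, 3, 3],
   [3, 5, 4, 0],
   [3, 0, 4, 0, 5],
   [3, 1, 0, 2, 0, 1, 4, 2, 0, 1, 0, 2],
   [3, 0, 1, 1, 0, 2, 2, 4, 1, 1, 0, 2, 2, 0],
   [3, 2, 0, 1, 0, 1, 1, 3, 2, 0, 1, 0, 1, 1, 3, 2, 0, 1, 0, 1, 1]]

/-- The relators of the subgroup. -/
def amRelsH : List (List ℕ) :=
  [[0, 0],
   [1, 1, 1, 1, 1],
   [0, 1, 0, 1, 0, 1, 0, 1],
   [0, 1, 0, 2, 0, 1, 0, 2, 0, 1, 0, 2],
   [3, 3],
   [3, 0, 3, 0],
   [3, 1, 3, 2]]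

/-- The subgroup. -/
def amSub : List (List ℕ) := [[5], [0], [1]]

/-- The inverse table. -/
def amIp : ℕ := 18364758544493003040

/-- The inverse table of the subgroup. -/
def amIpH : ℕ := 18364758544493064480

/-- The letters. -/
def amLet {X : Type*} [Group X] (a b g s : X) : ℕ → X
  | 0 => a
  | 1 => b
  | 2 => b⁻¹
  | 3 => g
  | 4 => g⁻¹
  | 5 => s
  | _ => 1

theorem amLet_map {X Y : Type*} [Group X] [Group Y] (φ : X →* Y) (a b g s : X) (x : ℕ) :
    φ (amLet a b g s x) = amLet (φ a) (φ b) (φ g) (φ s) x := by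
  unfold amLet
  split <;> simp

theorem amLet_prod_map {X Y : Type*} [Group X] [Group Y] (φ : X →* Y) (a b g s : X) (l : List ℕ) :
    φ (l.map (amLet a b g s)).prod = (l.map (amLet (φ a) (φ b) (φ g) (φ s))).prod := by
  rw [map_list_prod, List.map_map]
  exact congrArg List.prod (List.map_congr_left fun x _ => amLet_map φ a b g s x)

end CfsgLib.M12Counts
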