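import Cfsg.Agent.Lib.M12Counts.Model
import Cfsg.Agent.Lib.M12Counts.AmalgamData
import Cfsg.Agent.Lib.M12Counts.AmalgamPres
import Mathlib.GroupTheory.SpecificGroups.Alternating

/-!
The two quotients of the amalgam presentation: `M12` and `Alt 4`, each generated by elements
satisfying the relators.
-/

set_option autoImplicit false
set_option maxRecDepth 100000
set_option linter.style.haveILetI false

namespace CfsgLib.M12Counts

open Cfsg CfsgLib.Comp CfsgLib.Golay CfsgLib.M24Elt CfsgLib.M12Recog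

/-- The code of a letter. -/
noncomputable def amCode (i : ℕ) : ℕ := amCodes.getD i (PermCode.one 24)

/-- The code of a word. -/
noncomputable def amWordCode : List ℕ → ℕ
  | [] => PermCode.one 24
  | i :: l => PermCode.mul 24 (amCode i) (amWordCode l)

/-- Letters in M12, inverse letters, relators and words for the transversals. -/
noncomputable def amCheck : Bool :=
  PermCode.allLt 6 (fun i => inM12 (amCode i)) &&
  isOne (PermCode.mul 24 (amCode 1) (amCode 2)) && isOne (PermCode.mul 24 (amCode 3) (amCode 4)) &&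
  amRels.all (fun r => r.all (fun i => Nat.blt i 6) && isOne (amWordCode r)) &&
  PermCode.allLt 5 fun k =>
    Nat.beq (transWords.getD k []).length (trans.getD k []).length &&
      (List.zipWith (fun w c => w.all (fun i => Nat.blt i 6) && eqc (amWordCode w) c)
        (transWords.getD k []) (trans.getD k [])).all id

theorem am_ok : amCheck = true := by decide +kernel

theorem am_letters : ∀ i < 6, inM12 (amCode i) = true := by
  have h := am_ok
  simp only [amCheck, Bool.and_eq_true] at h
  exact PermCode.allLt_spec h.1.1.1.1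

theorem am_inv : isOne (PermCode.mul 24 (amCode 1) (amCode 2)) = true ∧
    isOne (PermCode.mul 24 (amCode 3) (amCode 4)) = true := by
  have h := am_ok
  simp only [amCheck, Bool.and_eq_true] at h
  exact ⟨h.1.1.1.2, h.1.1.2⟩

theorem am_rels : ∀ r ∈ amRels, (∀ i ∈ r, i < 6) ∧ isOne (amWordCode r) = true := by
  have h := am_ok
  simp only [amCheck, Bool.and_eq_true, List.all_eq_true, Nat.blt_eq] at h
  exact h.1.2

theorem am_trans {k : ℕ} (hk : k < 5) {c : ℕ} (hc : c ∈ trans.getD k []) :
    ∃ w : List ℕ, (∀ i ∈ w, i < 6) ∧ eqc (amWordCode w) c = true := by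
  have h := am_ok
  simp only [amCheck, Bool.and_eq_true] at h
  have h' := PermCode.allLt_spec h.2 k hk
  simp only [Bool.and_eq_true, List.all_eq_true] at h'
  obtain ⟨hlen, hz⟩ := h'
  have hlen' := Nat.eq_of_beq_eq_true hlen
  obtain ⟨n, hn, rfl⟩ := List.mem_iff_getElem.1 hc
  have hn' : n < (transWords.getD k []).length := by omega
  have := hz _ (List.mem_iff_getElem.2 ⟨n, by rw [List.length_zipWith]; omega, rfl⟩)
  simp only [List.getElem_zipWith, id_eq, Bool.and_eq_true, List.all_eq_true, Nat.blt_eq] at this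
  exact ⟨_, this.1, this.2⟩

/-- The images of the letters. -/
noncomputable def amEl (i : Fin 6) : ↥Spor.M12 := ⟨pm (amCode i), pm_mem_M12 (am_letters i i.2)⟩

/-- The letter function of the model. -/
noncomputable def amImg : ℕ → ↥Spor.M12 := amLet (amEl 0) (amEl 1) (amEl 3) (amEl 5)

theorem amImg_coe {i : ℕ} (hi : i < 6) :
    ((amImg i : ↥Spor.M12) : Equiv.Perm GolayPt) = pm (amCode i) := by
  have hinv : ∀ u v : Fin 6, isOne (PermCode.mul 24 (amCode u) (amCode v)) = true →
      (((amEl u)⁻¹ : ↥Spor.M12) : Equiv.Perm GolayPt) = pm (amCode v) := by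
    intro u v h
    have hu := ok_of_inM12 (am_letters u u.2)
    have hv := ok_of_inM12 (am_letters v v.2)
    have := pm_eq_one (ok_pm_mul hu hv) h
    rw [pm_mul hu hv] at this
    rw [Subgroup.coe_inv]
    exact inv_eq_of_mul_eq_one_right this
  interval_cases i
  · rfl
  · rfl
  · exact hinv 1 2 am_inv.1
  · rfl
  · exact hinv 3 4 am_inv.2
  · rfl

theorem amWord_spec : ∀ w : List ℕ, (∀ i ∈ w, i < 6) →
    PermCode.Ok 24 (amWordCode w) ∧
      (((w.map amImg).prod : ↥Spor.M12) : Equiv.Perm GolayPt) = pm (amWordCode w)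
  | [], _ => ⟨ok_code_one, pm_one.symm⟩
  | i :: l, h => by
    obtain ⟨h1, h2⟩ := amWord_spec l fun j hj => h j (List.mem_cons_of_mem i hj)
    have hi := h i List.mem_cons_self
    have hok := ok_of_inM12 (am_letters i hi)
    refine ⟨ok_pm_mul hok h1, ?_⟩
    rw [List.map_cons, List.prod_cons, Subgroup.coe_mul, h2, amImg_coe hi, amWordCode, pm_mul hok h1]

theorem amImg_mem (i : ℕ) :
    amImg i ∈ Subgroup.closure ({amEl 0, amEl 1, amEl 3, amEl 5} : Set ↥Spor.M12) := by
  have hm : ∀ x ∈ ({amEl 0, amEl 1, amEl 3, amEl 5} : Set ↥Spor.M12),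
      x ∈ Subgroup.closure ({amEl 0, amEl 1, amEl 3, amEl 5} : Set ↥Spor.M12) :=
    fun x hx => Subgroup.subset_closure hx
  unfold amImg amLet
  split
  · exact hm _ (by simp)
  · exact hm _ (by simp)
  · exact inv_mem (hm _ (by simp))
  · exact hm _ (by simp)
  · exact inv_mem (hm _ (by simp))
  · exact hm _ (by simp)
  · exact one_mem _

/-- M12 is generated by the images of the letters. -/
theorem closure_amEl :
    Subgroup.closure ({amEl 0, amEl 1, amEl 3, amEl 5} : Set ↥Spor.M12) = ⊤ := by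
  set H := Subgroup.closure ({amEl 0, amEl 1, amEl 3, amEl 5} : Set ↥Spor.M12) with hH
  rw [Subgroup.eq_top_iff']
  intro g
  have step : ∀ k ≤ 5, ∃ h ∈ H, ∀ i < k,
      (g : Equiv.Perm GolayPt) (Golay.pt i) = (h : Equiv.Perm GolayPt) (Golay.pt i) := by
    intro k
    induction k with
    | zero => exact fun _ => ⟨1, one_mem _, fun i hi => absurd hi (by omega)⟩
    | succ k ih =>
      intro hk
      obtain ⟨h, hh, hfix⟩ := ih (by omega)
      have hk24 : k < 24 := by omega
      set w : Equiv.Perm GolayPt := ((h⁻¹ * g : ↥Spor.M12) : Equiv.Perm GolayPt) with hw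
      have hgw : (g : Equiv.Perm GolayPt) = (h : Equiv.Perm GolayPt) * w := by
        rw [hw, ← Subgroup.coe_mul, mul_inv_cancel_left]
      have hwfix : ∀ i < k, w (Golay.pt i) = Golay.pt i := fun i hi => by
        rw [hw, Subgroup.coe_mul, Subgroup.coe_inv, Equiv.Perm.mul_apply, hfix i hi]
        exact (h : Equiv.Perm GolayPt).symm_apply_apply _
      have hbase : Golay.pt k ∈ Spor.squareDodecad := by
        rw [dod_spec, bit_pt hk24]
        exact (by decide : ∀ j < 5, j ∈ dod) k (by omega)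
      have hxD : bit (w (Golay.pt k)) ∈ dod :=
        (dod_spec _).1 ((M12_apply_mem (h⁻¹ * g).2 _).2 hbase)
      have hxk : k ≤ bit (w (Golay.pt k)) := by
        by_contra hlt
        have e := hwfix _ (Nat.lt_of_not_le hlt)
        have hpt : Golay.pt (bit (w (Golay.pt k))) = w (Golay.pt k) := pt_bit _
        rw [hpt] at e
        have := congrArg bit (w.injective e)
        rw [bit_pt hk24] at this
        omega
      obtain ⟨hT, hT'⟩ := trans_spec (k := k) (by omega)
      obtain ⟨c, hc, hck⟩ := hT' _ hxD hxk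
      obtain ⟨hcM, hcfix⟩ := hT c hc
      have hcok := ok_of_inM12 hcM
      obtain ⟨u, hu, hue⟩ := am_trans (k := k) (by omega) hc
      obtain ⟨huok, huv⟩ := amWord_spec u hu
      have hpm : (((u.map amImg).prod : ↥Spor.M12) : Equiv.Perm GolayPt) = pm c :=
        huv.trans (pm_eq_of_eqc huok hcok hue)
      refine ⟨h * (u.map amImg).prod, mul_mem hh (list_prod_mem fun x hx => ?_), fun i hi => ?_⟩
      · obtain ⟨j, -, rfl⟩ := List.mem_map.1 hx
        exact amImg_mem j
      · have : w (Golay.pt i) = pm c (Golay.pt i) := by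
          apply bit_injective
          rw [bit_pm_pt hcok (by omega)]
          rcases lt_or_eq_of_le (Nat.lt_succ_iff.1 hi) with h' | rfl
          · rw [hwfix i h', bit_pt (by omega), hcfix i h']
          · exact hck.symm
        rw [Subgroup.coe_mul, hpm, hgw, Equiv.Perm.mul_apply, Equiv.Perm.mul_apply, this]
  obtain ⟨h, hh, hfix⟩ := step 5 le_rfl
  have hbot : ((h⁻¹ * g : ↥Spor.M12) : Equiv.Perm GolayPt) ∈
      fixPts Spor.M12 [some 4, some 3, some 2, some 1, some 0] := by
    refine mem_fixPts.2 ⟨(h⁻¹ * g).2, fun z hz => ?_⟩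
    obtain ⟨i, hi, rfl⟩ : ∃ i < 5, Golay.pt i = z :=
      (by decide +kernel : ∀ z : GolayPt, z ∈ [(some 4 : GolayPt), some 3, some 2, some 1, some 0] →
        ∃ i < 5, Golay.pt i = z) z hz
    rw [Subgroup.coe_mul, Subgroup.coe_inv, Equiv.Perm.mul_apply, hfix i hi]
    exact (h : Equiv.Perm GolayPt).symm_apply_apply _
  rw [fixPts_base12, Subgroup.mem_bot, ← Subgroup.coe_one] at hbot
  rw [← inv_mul_eq_one.1 (Subtype.ext hbot)]
  exact hh

/-- M12 satisfies the relators. -/
theorem exists_model : ∃ a b g s : ↥Spor.M12,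
    (∀ r ∈ amRels, (r.map (amLet a b g s)).prod = 1) ∧
      Subgroup.closure ({a, b, g, s} : Set ↥Spor.M12) = ⊤ := by
  refine ⟨amEl 0, amEl 1, amEl 3, amEl 5, fun r hr => ?_, closure_amEl⟩
  obtain ⟨hr6, h1⟩ := am_rels r hr
  obtain ⟨hok, hv⟩ := amWord_spec r hr6
  apply Subtype.ext
  show (((r.map amImg).prod : ↥Spor.M12) : Equiv.Perm GolayPt) = ((1 : ↥Spor.M12) : Equiv.Perm GolayPt)
  rw [hv, pm_eq_one hok h1, Subgroup.coe_one]

/-- `Alt 4` satisfies the relators. -/
theorem exists_model_alt : ∃ a b g s : ↥(alternatingGroup (Fin 4)),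
    (∀ r ∈ amRels, (r.map (amLet a b g s)).prod = 1) ∧
      Subgroup.closure ({a, b, g, s} : Set ↥(alternatingGroup (Fin 4))) = ⊤ := by
  let a : ↥(alternatingGroup (Fin 4)) :=
    ⟨Equiv.swap 0 2 * Equiv.swap 1 3, by rw [Equiv.Perm.mem_alternatingGroup]; decide⟩
  let g : ↥(alternatingGroup (Fin 4)) :=
    ⟨Equiv.swap 1 2 * Equiv.swap 2 3, by rw [Equiv.Perm.mem_alternatingGroup]; decide⟩
  let s : ↥(alternatingGroup (Fin 4)) :=
    ⟨Equiv.swap 0 1 * Equiv.swap 2 3, by rw [Equiv.Perm.mem_alternatingGroup]; decide⟩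
  refine ⟨a, 1, g, s, by decide +kernel, ?_⟩
  rw [Subgroup.eq_top_iff']
  intro x
  have key : ∀ x : ↥(alternatingGroup (Fin 4)), ∃ (i j : Fin 2) (k : Fin 3),
      x = a ^ (i : ℕ) * s ^ (j : ℕ) * g ^ (k : ℕ) := by decide +kernel
  obtain ⟨i, j, k, rfl⟩ := key x
  have hm : ∀ y ∈ ({a, 1, g, s} : Set ↥(alternatingGroup (Fin 4))),
      y ∈ Subgroup.closure ({a, 1, g, s} : Set ↥(alternatingGroup (Fin 4))) :=
    fun y hy => Subgroup.subset_closure hy
  exact mul_mem (mul_mem (pow_mem (hm a (by simp)) _) (pow_mem (hm s (by simp)) _))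
    (pow_mem (hm g (by simp)) _)

end CfsgLib.M12Counts
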