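import Mathlib.GroupTheory.Perm.Basic
import Mathlib.GroupTheory.OrderOfElement
import Mathlib.GroupTheory.Subgroup.Centralizer
import Mathlib.Logic.Equiv.Fin.Basic

/-!
An involution with centraliser `2 × Sym 5`, by a map from `Sym 5`.
-/

set_option autoImplicit false

namespace CfsgLib.M12Counts

/-- `C(s) = ⟨s⟩ × f(Sym 5)`. -/
structure Frame (G : Type*) [Group G] where
  /-- the involution -/
  s : G
  /-- the complement -/
  f : Equiv.Perm (Fin 5) →* G
  inj : Function.Injective f
  s_sq : s * s = 1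
  s_ne : s ≠ 1
  comm : ∀ p, s * f p = f p * s
  ne_s : ∀ p, f p ≠ s
  cent : ∀ g : G, g * s = s * g → ∃ p, g = f p ∨ g = s * f p

/-- The double transposition `(0 1)(2 3)`. -/
def pe : Equiv.Perm (Fin 5) := Equiv.swap 0 1 * Equiv.swap 2 3

/-- The transposition `(0 1)`. -/
def pd : Equiv.Perm (Fin 5) := Equiv.swap 0 1

/-- The element of order 3 on `2, 3, 4`. -/
def pu : Equiv.Perm (Fin 5) := Equiv.swap 2 3 * Equiv.swap 3 4

/-- The double transposition `(0 2)(1 3)`. -/
def px : Equiv.Perm (Fin 5) := Equiv.swap 0 2 * Equiv.swap 1 3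

end CfsgLib.M12Counts
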