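import Cfsg.Agent.Lib.M12Counts.AmalgamBound
import Cfsg.Agent.Lib.M12Counts.AmalgamModel
import Cfsg.Agent.Lib.M12Counts.Frame
import Cfsg.Agent.Lib.Golay.Simple

/-!
A group of order 95040 with the amalgam of `2 × Sym 5` and an element of order 3 is M12.
-/

set_option autoImplicit false
set_option linter.style.haveILetI false

namespace CfsgLib.M12Counts

open Subgroup Equiv

/-- The five-cycle. -/
def pb : Perm (Fin 5) := finRotate 5

theorem nonempty_equiv_of_amalgam {G : Type*} [Group G] [Finite G] (hcard : Nat.card G = 95040)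
    (s g : G) (f : Perm (Fin 5) →* G) (hf : Function.Injective f)
    (hs : s * s = 1) (hsf : ∀ p, s * f p = f p * s)
    (hg : g ^ 3 = 1) (hgs : g * s * g⁻¹ = f pd) (hgd : g * f pd * g⁻¹ = s * f pd)
    (hgu : g * f pu = f pu * g) (hge : g * f pe = f pe * g) (hx : (g * f px) ^ 3 = 1) :
    Nonempty (G ≃* ↥Cfsg.Spor.M12) := by
  classical
  let a := f pd
  let b := f pb
  let L := amLet a b g s
  -- words in the letters of the symmetric group
  have hword : ∀ w : List ℕ, (∀ x ∈ w, x < 3) → (w.map L).prod = f (w.map (amLet pd pb 1 1)).prod := by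
    intro w hw
    rw [amLet_prod_map]
    refine congrArg List.prod (List.map_congr_left fun x hx => ?_)
    have := hw x hx
    interval_cases x <;> rfl
  have hwds : ([1, 0, 2, 0, 1].map (amLet pd pb 1 1)).prod = pu ∧
      ([0, 1, 1, 0, 2, 2].map (amLet pd pb 1 1)).prod = pe ∧
      ([2, 0, 1, 0, 1, 1].map (amLet pd pb 1 1)).prod = px := by decide +kernel
  have hrel : ∀ l ∈ amRels, (l.map L).prod = 1 := by
    have hu : (([1, 0, 2, 0, 1] : List ℕ).map L).prod = f pu ∧ (([2, 0, 1, 0, 2] : List ℕ).map L).prod = f pu⁻¹ := by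
      constructor <;> rw [hword _ (by decide)]
      · rw [hwds.1]
      · exact congrArg f (by decide +kernel)
    have he : (([0, 1, 1, 0, 2, 2] : List ℕ).map L).prod = f pe ∧
        (([1, 1, 0, 2, 2, 0] : List ℕ).map L).prod = f pe⁻¹ := by
      constructor <;> rw [hword _ (by decide)]
      · rw [hwds.2.1]
      · exact congrArg f (by decide +kernel)
    have hxw : (([2, 0, 1, 0, 1, 1] : List ℕ).map L).prod = f px := by
      rw [hword _ (by decide), hwds.2.2]
    have ha : a * a = 1 := by rw [← map_mul, show pd * pd = 1 by decide, map_one]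
    intro l hl
    simp only [amRels, List.mem_cons, List.not_mem_nil, or_false] at hl
    rcases hl with rfl | rfl | rfl | rfl | rfl | rfl | rfl | rfl | rfl | rfl | rfl | rfl | rfl
    case' inl | inr.inl | inr.inr.inl | inr.inr.inr.inl =>
      refine (hword _ (by decide)).trans ((congrArg f ?_).trans (map_one f))
      decide +kernel
    · simpa [L, amLet] using hs
    · simp only [L, amLet, List.map_cons, List.map_nil, List.prod_cons, List.prod_nil, mul_one]
      have hsa : s * a = a * s := hsf pd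
      calc s * (a * (s * a)) = s * (a * s) * a := by group
        _ = s * (s * a) * a := by rw [hsa]
        _ = (s * s) * (a * a) := by group
        _ = 1 := by rw [hs, ha, one_mul]
    · simp only [L, amLet, List.map_cons, List.map_nil, List.prod_cons, List.prod_nil, mul_one]
      have hsb : s * b = b * s := hsf pb
      calc s * (b * (s * b⁻¹)) = s * (b * s) * b⁻¹ := by group
        _ = (s * s) * (b * b⁻¹) := by rw [← hsb]; group
        _ = 1 := by rw [hs, one_mul, mul_inv_cancel]
    · simp only [L, amLet, List.map_cons, List.map_nil, List.prod_cons, List.prod_nil, mul_one]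
      rw [← mul_assoc, ← pow_two, ← pow_succ, hg]
    · simp only [L, amLet, List.map_cons, List.map_nil, List.prod_cons, List.prod_nil, mul_one]
      rw [← mul_assoc, ← mul_assoc, hgs, ha]
    · simp only [L, amLet, List.map_cons, List.map_nil, List.prod_cons, List.prod_nil, mul_one]
      rw [← mul_assoc, ← mul_assoc, hgd, mul_assoc, ← mul_assoc a, ha, one_mul, hs]
    · rw [show ([3, 1, 0, 2, 0, 1, 4, 2, 0, 1, 0, 2] : List ℕ) = [3] ++ [1, 0, 2, 0, 1] ++ [4] ++ [2, 0, 1, 0, 2]
        from rfl, List.map_append, List.map_append, List.map_append, List.prod_append, List.prod_append,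
        List.prod_append, hu.1, hu.2, map_inv]
      simp only [L, amLet, List.map_cons, List.map_nil, List.prod_cons, List.prod_nil, mul_one]
      rw [hgu]; group
    · rw [show ([3, 0, 1, 1, 0, 2, 2, 4, 1, 1, 0, 2, 2, 0] : List ℕ) =
        [3] ++ [0, 1, 1, 0, 2, 2] ++ [4] ++ [1, 1, 0, 2, 2, 0]
        from rfl, List.map_append, List.map_append, List.map_append, List.prod_append, List.prod_append,
        List.prod_append, he.1, he.2, map_inv]
      simp only [L, amLet, List.map_cons, List.map_nil, List.prod_cons, List.prod_nil, mul_one]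
      rw [hge]; group
    · rw [show ([3, 2, 0, 1, 0, 1, 1, 3, 2, 0, 1, 0, 1, 1, 3, 2, 0, 1, 0, 1, 1] : List ℕ) =
        [3] ++ [2, 0, 1, 0, 1, 1] ++ ([3] ++ [2, 0, 1, 0, 1, 1]) ++ ([3] ++ [2, 0, 1, 0, 1, 1]) from rfl]
      simp only [List.map_append, List.prod_append, hxw]
      simp only [L, amLet, List.map_cons, List.map_nil, List.prod_cons, List.prod_nil, mul_one]
      rw [← pow_two, ← pow_succ]; exact hx
  obtain ⟨a₁, b₁, g₁, s₁, h₁, hgen₁⟩ := exists_model
  obtain ⟨a₂, b₂, g₂, s₂, h₂, hgen₂⟩ := exists_model_alt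
  let M := ↥Cfsg.Spor.M12
  let N := ↥(alternatingGroup (Fin 4))
  haveI : IsSimpleGroup M := Golay.isSimple_M12
  have hM : Nat.card M = 95040 := Golay.card_M12
  have hN : Nat.card N = 12 := by rw [Nat.card_eq_fintype_card]; decide +kernel
  let A : G × M × N := (a, a₁, a₂)
  let B : G × M × N := (b, b₁, b₂)
  let U : G × M × N := (g, g₁, g₂)
  let S : G × M × N := (s, s₁, s₂)
  have hR : ∀ l ∈ amRels, (l.map (amLet A B U S)).prod = 1 := fun l hl => by
    refine Prod.ext ?_ (Prod.ext ?_ ?_)
    · exact (amLet_prod_map (MonoidHom.fst G (M × N)) A B U S l).trans (hrel l hl)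
    · exact (amLet_prod_map ((MonoidHom.fst M N).comp (MonoidHom.snd G (M × N))) A B U S l).trans (h₁ l hl)
    · exact (amLet_prod_map ((MonoidHom.snd M N).comp (MonoidHom.snd G (M × N))) A B U S l).trans (h₂ l hl)
  let Δ := closure ({A, B, U, S} : Set (G × M × N))
  have hΔ : Nat.card Δ ≤ 1140480 := (amalgam_bound hR).2
  have hmem : ∀ {z}, z ∈ ({A, B, U, S} : Set (G × M × N)) → z ∈ Δ := fun hz => subset_closure hz
  let ψ : Δ →* M × N := (MonoidHom.snd G (M × N)).comp Δ.subtype
  let J := ψ.range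
  have hJmem : ∀ z ∈ ({A, B, U, S} : Set (G × M × N)), z.2 ∈ J := fun z hz => ⟨⟨z, hmem hz⟩, rfl⟩
  have hJ1 : J.map (MonoidHom.fst M N) = ⊤ := by
    rw [eq_top_iff, ← hgen₁, closure_le]
    rintro z (rfl | rfl | rfl | rfl)
    exacts [⟨_, hJmem A (by simp), rfl⟩, ⟨_, hJmem B (by simp), rfl⟩, ⟨_, hJmem U (by simp), rfl⟩,
      ⟨_, hJmem S (by simp), rfl⟩]
  have hJ2 : J.map (MonoidHom.snd M N) = ⊤ := by
    rw [eq_top_iff, ← hgen₂, closure_le]
    rintro z (rfl | rfl | rfl | rfl)
    exacts [⟨_, hJmem A (by simp), rfl⟩, ⟨_, hJmem B (by simp), rfl⟩, ⟨_, hJmem U (by simp), rfl⟩,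
      ⟨_, hJmem S (by simp), rfl⟩]
  -- the part of J in the first factor
  let J₀ : Subgroup M := J.comap (MonoidHom.inl M N)
  have hJ₀n : J₀.Normal := ⟨fun u hu v => by
    obtain ⟨⟨v', w⟩, hvw, rfl⟩ := (SetLike.ext_iff.1 hJ1 v).2 (mem_top _)
    show ((v' * u * v'⁻¹, 1) : M × N) ∈ J
    have e : ((v' * u * v'⁻¹, 1) : M × N) = (v', w) * (u, 1) * (v', w)⁻¹ :=
      Prod.ext rfl (show (1 : N) = w * 1 * w⁻¹ by rw [mul_one, mul_inv_cancel])
    rw [e]
    exact mul_mem (mul_mem hvw hu) (inv_mem hvw)⟩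
  have hJ₀ : J₀ = ⊤ := by
    refine hJ₀n.eq_bot_or_eq_top.resolve_left fun hb => ?_
    have h1 : Nat.card M ≤ Nat.card J := by
      rw [← Subgroup.card_top (G := M), ← hJ1]
      exact Nat.card_le_card_of_surjective _ (MonoidHom.subgroupMap_surjective _ J)
    have h2 : Nat.card J ≤ Nat.card N := by
      refine Nat.card_le_card_of_injective (fun z : J => (z : M × N).2) fun x y e => ?_
      have hm : (x : M × N).1 * (y : M × N).1⁻¹ ∈ J₀ := by
        show ((x : M × N).1 * (y : M × N).1⁻¹, (1 : N)) ∈ J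
        have e' : ((x : M × N).1 * (y : M × N).1⁻¹, (1 : N)) = (x : M × N) * (y : M × N)⁻¹ := by
          refine Prod.ext rfl ?_
          show (1 : N) = (x : M × N).2 * (y : M × N).2⁻¹
          rw [show (x : M × N).2 = (y : M × N).2 from e, mul_inv_cancel]
        rw [e']
        exact mul_mem x.2 (inv_mem y.2)
      rw [hb, mem_bot, mul_inv_eq_one] at hm
      exact Subtype.ext (Prod.ext hm e)
    omega
  have hJ : ψ.range = ⊤ := by
    refine eq_top_iff.2 fun z _ => ?_
    obtain ⟨⟨v, w⟩, hvw, hw⟩ := (SetLike.ext_iff.1 hJ2 z.2).2 (mem_top _)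
    have h1 : z.1 * v⁻¹ ∈ J₀ := hJ₀ ▸ mem_top _
    have e : z = ((z.1 * v⁻¹, (1 : N)) : M × N) * (v, w) := by
      refine Prod.ext ?_ ?_
      · show z.1 = z.1 * v⁻¹ * v
        rw [inv_mul_cancel_right]
      · show z.2 = (1 : N) * w
        rw [one_mul]
        exact hw.symm
    rw [e]
    exact mul_mem h1 hvw
  haveI : Finite Δ := (amalgam_bound hR).1
  have hψ : Function.Bijective ψ := by
    have hsurj : Function.Surjective ψ := MonoidHom.range_eq_top.1 hJ
    refine (Nat.bijective_iff_surjective_and_card _).2 ⟨hsurj, le_antisymm ?_ (Nat.card_le_card_of_surjective _ hsurj)⟩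
    rw [Nat.card_prod, hM, hN]
    exact hΔ
  let e := MulEquiv.ofBijective ψ hψ
  let θ : M × N →* G := ((MonoidHom.fst G (M × N)).comp Δ.subtype).comp e.symm.toMonoidHom
  let θ₁ : M →* G := θ.comp (MonoidHom.inl M N)
  have hinj : Function.Injective θ₁ := by
    rw [← MonoidHom.ker_eq_bot_iff]
    refine (inferInstance : θ₁.ker.Normal).eq_bot_or_eq_top.resolve_right fun ht => ?_
    -- the image would have at most twelve elements, but contains the symmetric group
    have hsmall : Nat.card θ.range ≤ 12 := by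
      rw [← hN]
      refine Nat.card_le_card_of_surjective (fun w : N => (⟨θ (1, w), ⟨_, rfl⟩⟩ : θ.range)) ?_
      rintro ⟨_, ⟨v, w⟩, rfl⟩
      refine ⟨w, Subtype.ext ?_⟩
      show θ (1, w) = θ (v, w)
      have h1 : θ (v, 1) = 1 := (SetLike.ext_iff.1 ht v).2 (mem_top _)
      rw [show ((v, w) : M × N) = (v, 1) * (1, w) by simp, map_mul, h1, one_mul]
    have hin : ∀ z ∈ ({A, B, U, S} : Set (G × M × N)), z.1 ∈ θ.range := fun z hz => by
      refine ⟨ψ ⟨z, hmem hz⟩, ?_⟩
      show ((e.symm (e ⟨z, hmem hz⟩) : Δ) : G × M × N).1 = z.1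
      rw [e.symm_apply_apply]
    have hfr : f.range ≤ θ.range := by
      rintro _ ⟨p, rfl⟩
      have hp : p ∈ closure ({pd, pb} : Set (Perm (Fin 5))) := by
        rw [show closure ({pd, pb} : Set (Perm (Fin 5))) = ⊤ from ?_]
        · exact mem_top _
        · rw [Set.pair_comm]
          exact Equiv.Perm.closure_cycle_adjacent_swap (isCycle_finRotate) (support_finRotate) 0
      have hle : closure ({pd, pb} : Set (Perm (Fin 5))) ≤ θ.range.comap f := by
        rw [closure_le]
        rintro z (rfl | rfl)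
        exacts [hin A (by simp), hin B (by simp)]
      exact hle hp
    have h120 : Nat.card f.range = 120 := by
      rw [← Nat.card_congr (MonoidHom.ofInjective hf).toEquiv, Nat.card_perm, Nat.card_fin]; rfl
    have := card_dvd_of_le hfr
    have hpos : 0 < Nat.card θ.range := Nat.card_pos
    have := Nat.le_of_dvd hpos this
    omega
  exact ⟨(MulEquiv.ofBijective θ₁ ((Nat.bijective_iff_injective_and_card _).2
    ⟨hinj, hM.trans hcard.symm⟩)).symm⟩

end CfsgLib.M12Counts
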