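import Cfsg.Agent.Lib.M12Counts.CertBigData
import Cfsg.Agent.Lib.M12Counts.CertSmallData

/-!
A group generated by an amalgam of `2 × Sym 5` with the element of order 3 has order at most 1140480.
-/

set_option autoImplicit false
set_option linter.style.haveILetI false

namespace CfsgLib.M12Counts

open Subgroup CfsgLib.CosetEnum

variable {X : Type*} [Group X] {a b g s : X}
  (h : ∀ l ∈ amRels, (l.map (amLet a b g s)).prod = 1)
include h

theorem amLet_linv : ∀ x < 16, amLet a b g s (linv amIp x) = (amLet a b g s x)⁻¹ := by
  have ha : a * a = 1 := by simpa [amLet] using h [0, 0] (by decide)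
  have hs : s * s = 1 := by simpa [amLet] using h [5, 5] (by decide)
  have e : ∀ x < 16, linv amIp x = if x = 1 then 2 else if x = 2 then 1 else if x = 3 then 4 else
      if x = 4 then 3 else x := by decide +kernel
  intro x hx
  rw [e x hx]
  interval_cases x <;> simp [amLet] <;>
    first
      | exact eq_inv_of_mul_eq_one_left ha
      | exact eq_inv_of_mul_eq_one_left hs

omit h in
theorem amRels_lt : ∀ l ∈ amRels, ∀ x ∈ l, x < 16 :=
  (by decide : ∀ l ∈ amRels, ∀ x ∈ l, x < 16)

/-- The letters of the subgroup. -/
def amLetH {Y : Type*} [Group Y] (a b s : Y) : ℕ → Y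
  | 0 => a
  | 1 => b
  | 2 => b⁻¹
  | 3 => s
  | _ => 1

theorem amalgam_bound : Finite ↥(closure ({a, b, g, s} : Set X)) ∧
    Nat.card ↥(closure ({a, b, g, s} : Set X)) ≤ 1140480 := by
  have ha : a * a = 1 := by simpa [amLet] using h [0, 0] (by decide)
  have hs : s * s = 1 := by simpa [amLet] using h [5, 5] (by decide)
  let L := amLet a b g s
  let M := amLetH a b s
  have hK : closure ({a, b, g, s} : Set X) ≤ closure (L '' Set.Iio 16) := by
    rw [closure_le]
    rintro z (rfl | rfl | rfl | rfl)
    exacts [subset_closure ⟨0, by norm_num, rfl⟩, subset_closure ⟨1, by norm_num, rfl⟩,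
      subset_closure ⟨3, by norm_num, rfl⟩, subset_closure ⟨5, by norm_num, rfl⟩]
  have hKH : closure ({s, a, b} : Set X) ≤ closure (M '' Set.Iio 16) := by
    rw [closure_le]
    rintro z (rfl | rfl | rfl)
    exacts [subset_closure ⟨3, by norm_num, rfl⟩, subset_closure ⟨0, by norm_num, rfl⟩,
      subset_closure ⟨1, by norm_num, rfl⟩]
  have big : CoversCosets (closure ({a, b, g, s} : Set X)) (closure ({s, a, b} : Set X)) CertBig.cert.n := by
    refine Letters.Cert.covers (g := L) (ip := amIp) rfl (amLet_linv h) ?_ _ _ hK CertBig.cert CertBig.check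
      (fun l hl => ⟨amRels_lt l hl, h l hl⟩) ?_
    · intro x hx
      rcases Nat.lt_or_ge x 6 with h6 | h6
      · exact Or.inl h6
      · right; interval_cases x <;> rfl
    · intro l hl
      simp only [amSub, List.mem_cons, List.not_mem_nil, or_false] at hl
      rcases hl with rfl | rfl | rfl <;> refine ⟨by simp, ?_⟩ <;> simp only [List.map_cons, List.map_nil,
        List.prod_cons, List.prod_nil, mul_one]
      exacts [subset_closure (Or.inl rfl), subset_closure (Or.inr (Or.inl rfl)),
        subset_closure (Or.inr (Or.inr rfl))]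
  have small : CoversCosets (closure ({s, a, b} : Set X)) ⊥ CertSmall.cert.n := by
    refine Letters.Cert.covers (g := M) (ip := amIpH) rfl ?_ ?_ _ _ hKH CertSmall.cert CertSmall.check ?_ ?_
    · have e : ∀ x < 16, linv amIpH x = if x = 1 then 2 else if x = 2 then 1 else x := by
        decide +kernel
      intro x hx
      rw [e x hx]
      interval_cases x <;> simp [M, amLetH] <;>
        first
          | exact eq_inv_of_mul_eq_one_left ha
          | exact eq_inv_of_mul_eq_one_left hs
    · intro x hx
      rcases Nat.lt_or_ge x 4 with h4 | h4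
      · exact Or.inl h4
      · right; interval_cases x <;> rfl
    · intro l hl
      refine ⟨(by decide : ∀ l ∈ amRelsH, ∀ x ∈ l, x < 16) l hl, ?_⟩
      -- the same words in the larger alphabet
      have hmem : l.map (fun x => if x = 3 then 5 else x) ∈ amRels ∧ ∀ x ∈ l, x < 4 :=
        (by decide : ∀ l ∈ amRelsH, l.map (fun x => if x = 3 then 5 else x) ∈ amRels ∧ ∀ x ∈ l, x < 4) l hl
      rw [← h _ hmem.1, List.map_map]
      refine congrArg List.prod (List.map_congr_left fun x hx => ?_)
      have := hmem.2 x hx
      interval_cases x <;> rfl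
    · simp
  have h240 := card_le_step small (hH := ⟨inferInstance, (Subgroup.card_bot (G := X)).le⟩) rfl
  exact card_le_step big h240 (m := 1140480) (by decide +kernel)

end CfsgLib.M12Counts
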