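import Cfsg.Agent.Lib.M12Counts.Frame
import Mathlib.GroupTheory.Sylow

/-!
An involution whose centraliser covers `Sym 5`, and a `2`-central involution in it.
-/

set_option autoImplicit false

namespace CfsgLib.M12Counts

open Subgroup

/-- `C(s) / ⟨s⟩ ≅ Sym 5`, with `e` a central involution of a Sylow 2-subgroup over `(0 1)(2 3)`. -/
structure Cov (G : Type*) [Group G] where
  /-- the involution -/
  s : G
  /-- the covering map -/
  π : ↥(centralizer ({s} : Set G)) →* Equiv.Perm (Fin 5)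
  /-- the `2`-central involution -/
  e : ↥(centralizer ({s} : Set G))
  hs : orderOf s = 2
  surj : Function.Surjective π
  ker : ∀ g, π g = 1 → (g : G) = 1 ∨ (g : G) = s
  hπe : π e = pe
  he : orderOf (e : G) = 2
  h64 : 64 ∣ Nat.card ↥(centralizer ({(e : G)} : Set G))
  hse : IsConj s (s * e)
  card : Nat.card ↥(centralizer ({s} : Set G)) = 240

namespace Cov

variable {G : Type*} [Group G] (D : Cov G)

/-- `s` as an element of its centraliser. -/
def sC : ↥(centralizer ({D.s} : Set G)) := ⟨D.s, mem_centralizer_singleton_iff.2 rfl⟩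

theorem s_sq : D.s * D.s = 1 := by
  rw [← pow_two, ← D.hs]; exact pow_orderOf_eq_one _

theorem e_sq : (D.e : G) * D.e = 1 := by
  rw [← pow_two, ← D.he]; exact pow_orderOf_eq_one _

theorem s_ne : D.s ≠ 1 := fun h => by have := D.hs; rw [h, orderOf_one] at this; omega

theorem comm (g : ↥(centralizer ({D.s} : Set G))) : Commute (g : G) D.s :=
  mem_centralizer_singleton_iff.1 g.2

theorem π_s : D.π D.sC = 1 := by
  by_contra h
  have hz : ∀ p, p * D.π D.sC = D.π D.sC * p := fun p => by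
    obtain ⟨g, rfl⟩ := D.surj p
    rw [← map_mul, ← map_mul]
    exact congrArg D.π (Subtype.ext (D.comm g).eq)
  have : ∀ q : Equiv.Perm (Fin 5), (∀ p, p * q = q * p) → q = 1 := by decide +kernel
  exact h (this _ hz)

/-- Two elements with one image differ by a power of `s`. -/
theorem lift_eq {a b : ↥(centralizer ({D.s} : Set G))} (h : D.π a = D.π b) :
    (a : G) = b ∨ (a : G) = D.s * b := by
  rcases D.ker (a * b⁻¹) (by simp [h]) with e | e
  · exact Or.inl (mul_inv_eq_one.1 e)
  · exact Or.inr (mul_inv_eq_iff_eq_mul.1 e)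

/-- An element of order 5 inverted by `e`. -/
theorem exists_inverted : ∃ y : G, orderOf y = 5 ∧ (D.e : G) * y * (D.e : G)⁻¹ = y⁻¹ := by
  let q : Equiv.Perm (Fin 5) := [4, 0, 2, 3, 1].formPerm
  obtain ⟨g, hg⟩ := D.surj q
  have hq : q ^ 5 = 1 ∧ q ≠ 1 ∧ pe * q * pe⁻¹ = q⁻¹ := by decide +kernel
  let y := g ^ 6
  have hy : D.π y = q := by
    rw [map_pow, hg, pow_succ, hq.1, one_mul]
  have hg10 : (g : G) ^ 10 = 1 := by
    rcases D.ker (g ^ 5) (by rw [map_pow, hg, hq.1]) with h | h <;>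
      rw [SubmonoidClass.coe_pow] at h
    · rw [show (10 : ℕ) = 5 * 2 from rfl, pow_mul, h, one_pow]
    · rw [show (10 : ℕ) = 5 * 2 from rfl, pow_mul, h, pow_two, D.s_sq]
  have hy5 : (y : G) ^ 5 = 1 := by
    rw [SubmonoidClass.coe_pow, ← pow_mul, show 6 * 5 = 10 * 3 from rfl, pow_mul, hg10, one_pow]
  refine ⟨y, ?_, ?_⟩
  · have : Fact (Nat.Prime 5) := ⟨Nat.prime_five⟩
    refine orderOf_eq_prime hy5 fun h => hq.2.1 ?_
    rw [← hy, show y = 1 from Subtype.ext h, map_one]
  · rcases D.lift_eq (a := D.e * y * D.e⁻¹) (b := y⁻¹) (by simp [hy, D.hπe, hq.2.2]) with h | h <;>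
      simp only [Subgroup.coe_mul, Subgroup.coe_inv] at h
    · exact h
    · exfalso
      have h5 : ((D.e : G) * y * (D.e : G)⁻¹) ^ 5 = 1 := by rw [conj_pow, hy5]; group
      rw [h, ((D.comm y).inv_left.symm : Commute D.s (y : G)⁻¹).mul_pow, inv_pow, hy5, inv_one, mul_one,
        pow_succ, show (4 : ℕ) = 2 * 2 from rfl, pow_mul, pow_two D.s, D.s_sq, one_pow, one_mul] at h5
      exact D.s_ne h5

end Cov

end CfsgLib.M12Counts
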