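import Cfsg.Agent.Lib.M12Counts.Five
import Cfsg.Agent.Lib.M12Counts.Cov
import Cfsg.Agent.Lib.SymSix.IndexSix
import Mathlib.GroupTheory.Nilpotent

/-!
Groups of order 95040 with the counts of M12: an involution centraliser of order 240.
-/

set_option autoImplicit false
set_option linter.style.haveILetI false

namespace CfsgLib.M12Counts

open Subgroup MulAction

theorem exists_conj_pe : ∀ p : Equiv.Perm (Fin 5), p * p = 1 → p ≠ 1 →
    (Finset.univ.filter fun q => q * p = p * q).card % 8 = 0 → ∃ q, q * p * q⁻¹ = pe := by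
  decide +kernel

theorem eq_of_central_pe : ∀ p : Equiv.Perm (Fin 5), (∀ q, q * pe = pe * q → q * p = p * q) →
    p = 1 ∨ p = pe := by
  decide +kernel

theorem card_centralizer_pe : (Finset.univ.filter fun q : Equiv.Perm (Fin 5) => q * pe = pe * q).card = 8 := by
  decide +kernel

theorem card_centralizer_perm (p : Equiv.Perm (Fin 5)) :
    Nat.card ↥(centralizer ({p} : Set (Equiv.Perm (Fin 5)))) =
      (Finset.univ.filter fun q => q * p = p * q).card := by
  classical
  rw [← Nat.card_eq_finsetCard]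
  exact Nat.card_congr (Equiv.subtypeEquivRight fun q => by
    rw [mem_centralizer_singleton_iff, Finset.mem_filter]; simp)

variable {G : Type*} [Group G] [Finite G] (H : Hyp G) {x s : G} (P : Pair G x s)
  (hC : Nat.card ↥(centralizer ({s} : Set G)) = 240)
  (hsub : Order175560.numSub 5 (centralizer ({s} : Set G)) = 6)
include H P hC hsub

theorem exists_covering : ∃ π : ↥(centralizer ({s} : Set G)) →* Equiv.Perm (Fin 5),
    Function.Surjective π ∧ ∀ g, π g = 1 ↔ (g : G) = 1 ∨ (g : G) = s := by
  classical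
  haveI : Fact (Nat.Prime 5) := ⟨by norm_num⟩
  set C := centralizer ({s} : Set G) with hCdef
  have hsC : s ∈ C := mem_centralizer_singleton_iff.2 rfl
  have hxC : x ∈ C := mem_centralizer_singleton_iff.2 P.comm.symm
  have hn : Nat.card (Sylow 5 C) = 6 := by
    rw [← hsub]
    exact Order175560.card_sylow_eq_numSub (by rw [hC]; norm_num) (by rw [hC]; norm_num)
  let φ := toPermHom ↥C (Sylow 5 C)
  have hQ : ∀ Q : Sylow 5 C, Nat.card ↥(Q : Subgroup C) = 5 := fun Q => by
    rw [SmallOrder.card_sylow_eq (e := 1) (m := 48) (by rw [hC]; norm_num) (by norm_num) Q, pow_one]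
  let X : Subgroup C := zpowers (⟨x, hxC⟩ : C)
  have hX : Nat.card X = 5 := card_zp (by rw [Subgroup.orderOf_mk]; exact P.hx)
  let Q₀ : Sylow 5 C := Sylow.ofCard X (by
    rw [hX, hC, show (240 : ℕ) = 5 ^ 1 * 48 by norm_num,
      Nat.factorization_mul (by norm_num) (by norm_num), Finsupp.add_apply,
      (by norm_num : Nat.Prime 5).factorization_pow, Finsupp.single_eq_same,
      Nat.factorization_eq_zero_of_not_dvd (by norm_num : ¬ 5 ∣ 48)]
    norm_num)
  have hker : ∀ g : C, φ g = 1 ↔ (g : G) = 1 ∨ (g : G) = s := by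
    intro g
    constructor
    · intro hg
      have hfix : ∀ Q : Sylow 5 C, g ∈ normalizer ((Q : Subgroup C) : Set C) := fun Q => by
        exact Sylow.smul_eq_iff_mem_normalizer.1 (Equiv.ext_iff.1 hg Q)
      -- the kernel contains no element of order 5
      have h5 : ∀ k : C, φ k = 1 → orderOf k ≠ 5 := by
        intro k hk hko
        have hkQ : ∀ Q : Sylow 5 C, (Q : Subgroup C) = zpowers k := by
          intro Q
          have hkN : k ∈ normalizer ((Q : Subgroup C) : Set C) := by
            exact Sylow.smul_eq_iff_mem_normalizer.1 (Equiv.ext_iff.1 hk Q)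
          obtain ⟨R, hR⟩ := (IsPGroup.of_card (n := 1) (by rw [card_zp hko, pow_one]) :
            IsPGroup 5 ↥(zpowers k)).exists_le_sylow
          have hkQ : k ∈ (Q : Subgroup C) := by
            have hp : IsPGroup 5 ↥((Q : Subgroup C) ⊔ zpowers k) :=
              Q.isPGroup'.to_sup_of_normal_left'
                (IsPGroup.of_card (n := 1) (by rw [card_zp hko, pow_one])) (zpowers_le.2 hkN)
            have := Q.3 hp le_sup_left
            exact this ▸ mem_sup_right (mem_zpowers k)
          exact (eq_of_le_of_card_ge (zpowers_le.2 hkQ) (by rw [hQ Q, card_zp hko])).symm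
        have : Subsingleton (Sylow 5 C) := ⟨fun a b => Sylow.ext ((hkQ a).trans (hkQ b).symm)⟩
        rw [Nat.card_of_subsingleton (α := Sylow 5 C) Q₀] at hn
        omega
      have hg5 : ¬ 5 ∣ orderOf g := fun h => by
        refine h5 (g ^ (orderOf g / 5)) (by rw [map_pow, hg, one_pow]) ?_
        rw [orderOf_pow_of_dvd (Nat.div_pos (Nat.le_of_dvd (orderOf_pos g) h) (by norm_num)).ne'
          (Nat.div_dvd_of_dvd h), Nat.div_div_self h (orderOf_pos g).ne']
      have hm : g * ⟨x, hxC⟩ * g⁻¹ ∈ X := (mem_normalizer_iff.1 (hfix Q₀) _).1 (mem_zpowers _)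
      have hcomm : g * ⟨x, hxC⟩ * g⁻¹ * (⟨x, hxC⟩ : C)⁻¹ = 1 := by
        by_contra hne
        have hm' : g * ⟨x, hxC⟩ * g⁻¹ * (⟨x, hxC⟩ : C)⁻¹ ∈ X := mul_mem hm (inv_mem (mem_zpowers _))
        refine h5 (g * ⟨x, hxC⟩ * g⁻¹ * (⟨x, hxC⟩ : C)⁻¹) ?_ ?_
        · simp only [map_mul, map_inv, hg, one_mul, inv_one, mul_one, mul_inv_cancel]
        · refine orderOf_eq_prime ?_ hne
          have := pow_card_eq_one' (x := (⟨_, hm'⟩ : X))
          rw [hX] at this
          exact congrArg Subtype.val this
      have hgx : (g : G) * x = x * g := by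
        have e := congrArg Subtype.val (mul_inv_eq_one.1 hcomm)
        exact mul_inv_eq_iff_eq_mul.1 e
      have hd := orderOf_dvd_natCard _ (mem_centralizer_singleton_iff.2 hgx : (g : G) ∈ centralizer {x})
      rw [centralizer_five H P.hx, Subgroup.orderOf_coe] at hd
      have : orderOf g ≤ 10 := Nat.le_of_dvd (by norm_num) hd
      by_cases h1 : orderOf g = 1
      · exact Or.inl (by rw [orderOf_eq_one_iff.1 h1]; rfl)
      · refine Or.inr (P.uniq _ ?_ hgx)
        rw [Subgroup.orderOf_coe]
        generalize orderOf g = n at *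
        interval_cases n <;> omega
    · rintro (h | h)
      · rw [show g = 1 from Subtype.ext h, map_one]
      · refine Equiv.ext fun Q => ?_
        show g • Q = Q
        refine Sylow.ext ?_
        rw [Sylow.coe_subgroup_smul]
        ext k
        rw [Subgroup.mem_pointwise_smul_iff_inv_smul_mem]
        have hz : g * k = k * g := Subtype.ext (by
          show (g : G) * k = (k : G) * g
          rw [h]; exact (mem_centralizer_singleton_iff.1 k.2).symm)
        have : (MulAut.conj g)⁻¹ • k = k := by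
          rw [MulAut.smul_def, MulAut.conj_inv_apply, mul_assoc, ← hz, inv_mul_cancel_left]
        rw [this]
  have hrange : φ.range.index = 6 := by
    have hk : Nat.card φ.ker = 2 := by
      rw [show φ.ker = zpowers (⟨s, hsC⟩ : C) from ?_]
      · exact card_zp (by rw [Subgroup.orderOf_mk]; exact P.hs)
      refine le_antisymm (fun g hg => ?_) (zpowers_le.2 ((hker _).2 (Or.inr rfl)))
      rcases (hker g).1 hg with h | h
      · rw [show g = 1 from Subtype.ext h]; exact one_mem _
      · rw [show g = ⟨s, hsC⟩ from Subtype.ext h]; exact mem_zpowers _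
    have h1 := φ.ker.card_mul_index
    rw [index_ker, hk, hC] at h1
    have h2 := φ.range.card_mul_index
    rw [Nat.card_perm, hn] at h2
    simp only [Nat.factorial] at h2
    have : Nat.card φ.range = 120 := by omega
    rw [this] at h2
    omega
  have : Fintype (Sylow 5 C) := Fintype.ofFinite _
  have h6 : Fintype.card (Sylow 5 C) = 6 := by rw [← Nat.card_eq_fintype_card, hn]
  obtain ⟨ψ, a, ha⟩ := SymSix.exists_mulEquiv_comap_stabilizer h6 hrange
  obtain ⟨ι⟩ := SymSix.nonempty_stabilizer_mulEquiv a (n := 5) h6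
  have hmap : φ.range.map ψ.toMonoidHom = stabilizer (Equiv.Perm (Sylow 5 C)) a := by
    rw [ha]; exact Subgroup.map_comap_eq_self_of_surjective ψ.surjective _
  let η : φ.range ≃* Equiv.Perm (Fin 5) :=
    ((ψ.subgroupMap φ.range).trans (MulEquiv.subgroupCongr hmap)).trans ι
  refine ⟨η.toMonoidHom.comp φ.rangeRestrict, η.surjective.comp φ.rangeRestrict_surjective, fun g => ?_⟩
  rw [← hker g, MonoidHom.comp_apply, MulEquiv.coe_toMonoidHom, MulEquiv.map_eq_one_iff, ← Subtype.coe_inj]
  rfl

theorem exists_cov : ∃ D : Cov G, D.s = s := by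
  classical
  haveI : Fact (Nat.Prime 2) := ⟨Nat.prime_two⟩
  have hex := exists_covering H P hC hsub
  set C := centralizer ({s} : Set G) with hCdef
  obtain ⟨π₀, hsurj, hker⟩ := hex
  have hsC : s ∈ C := mem_centralizer_singleton_iff.2 rfl
  obtain ⟨W, hW⟩ := (IsPGroup.of_card (n := 1) (by
    rw [card_zp (show orderOf (⟨s, hsC⟩ : C) = 2 by rw [Subgroup.orderOf_mk]; exact P.hs), pow_one]) :
    IsPGroup 2 ↥(zpowers (⟨s, hsC⟩ : C))).exists_le_sylow
  have hW16 : Nat.card ↥(W : Subgroup C) = 16 := by
    rw [SmallOrder.card_sylow_eq (e := 4) (m := 15) (by rw [hC]; norm_num) (by norm_num) W]; norm_num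
  obtain ⟨T, hT⟩ := (W.isPGroup'.map C.subtype).exists_le_sylow
  have hT64 : Nat.card ↥(T : Subgroup G) = 64 := by
    rw [SmallOrder.card_sylow_eq (e := 6) (m := 1485) (by rw [H.card]; norm_num) (by norm_num) T]; norm_num
  haveI : Nontrivial ↥(T : Subgroup G) := Finite.one_lt_card_iff_nontrivial.1 (by rw [hT64]; norm_num)
  have := T.isPGroup'.center_nontrivial
  obtain ⟨n, hn⟩ := IsPGroup.iff_card.1 (T.isPGroup'.to_subgroup (center ↥(T : Subgroup G)))
  have hn0 : n ≠ 0 := fun h => by
    rw [h, pow_zero] at hn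
    exact (Finite.one_lt_card_iff_nontrivial.2 this).ne' hn
  obtain ⟨z, hz⟩ := exists_prime_orderOf_dvd_card' (G := center ↥(T : Subgroup G)) 2
    (hn ▸ dvd_pow_self 2 hn0)
  rw [← Subgroup.orderOf_coe, ← Subgroup.orderOf_coe] at hz
  set e : G := ((z : ↥(T : Subgroup G)) : G) with hedef
  have hez : ∀ t ∈ (T : Subgroup G), t * e = e * t := fun t ht =>
    congrArg Subtype.val (mem_center_iff.1 z.2 ⟨t, ht⟩)
  have hWT : ∀ w ∈ (W : Subgroup C), (w : G) ∈ (T : Subgroup G) := fun w hw => hT ⟨w, hw, rfl⟩
  have hsT : s ∈ (T : Subgroup G) := hWT _ (hW (mem_zpowers _))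
  have heC : e ∈ C := mem_centralizer_singleton_iff.2 (hez s hsT).symm
  have h64 : 64 ∣ Nat.card ↥(centralizer ({e} : Set G)) :=
    hT64 ▸ card_dvd_of_le (fun t ht => mem_centralizer_singleton_iff.2 (hez t ht))
  have hes : e ≠ s := fun h => by
    rw [h, hC] at h64; norm_num at h64
  -- the image of e
  let p := π₀ ⟨e, heC⟩
  have hp2 : p * p = 1 := by
    rw [← map_mul, ← π₀.map_one]
    exact congrArg π₀ (Subtype.ext (show e * e = 1 by rw [← pow_two, ← hz]; exact pow_orderOf_eq_one e))
  have hp1 : p ≠ 1 := fun h => by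
    rcases (hker _).1 h with h | h
    · rw [show e = 1 from h, orderOf_one] at hz; omega
    · exact hes h
  have hWp : ∀ w ∈ (W : Subgroup C), π₀ w ∈ centralizer ({p} : Set (Equiv.Perm (Fin 5))) := fun w hw =>
    mem_centralizer_singleton_iff.2 (by
      rw [← map_mul, ← map_mul]
      exact congrArg π₀ (Subtype.ext (hez _ (hWT w hw))))
  have hcomap : ∀ K : Subgroup (Equiv.Perm (Fin 5)), Nat.card ↥(K.comap π₀) = 2 * Nat.card K := by
    intro K
    have h1 := (K.comap π₀).card_mul_index
    rw [index_comap_of_surjective _ hsurj, hC] at h1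
    have h2 := K.card_mul_index
    rw [Nat.card_perm, Nat.card_fin] at h2
    simp only [Nat.factorial] at h2
    refine Nat.eq_of_mul_eq_mul_right (Nat.pos_of_ne_zero (index_ne_zero_of_finite (H := K))) ?_
    rw [h1, mul_assoc, h2]
    all_goals norm_num
  have h8 : (Finset.univ.filter fun q => q * p = p * q).card % 8 = 0 := by
    have := card_dvd_of_le (K := (centralizer ({p} : Set (Equiv.Perm (Fin 5)))).comap π₀) hWp
    rw [hcomap, hW16, card_centralizer_perm] at this
    omega
  obtain ⟨q, hq⟩ := exists_conj_pe p hp2 hp1 h8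
  let π := (MulAut.conj q).toMonoidHom.comp π₀
  have hπsurj : Function.Surjective π := (MulAut.conj q).surjective.comp hsurj
  have hπker : ∀ g, π g = 1 ↔ (g : G) = 1 ∨ (g : G) = s := fun g => by
    rw [← hker g, MonoidHom.comp_apply, MulEquiv.coe_toMonoidHom, MulEquiv.map_eq_one_iff]
  have hπe : π ⟨e, heC⟩ = pe := hq
  -- all of the centraliser of pe comes from W
  have hWeq : ∀ g : C, π g * pe = pe * π g → g ∈ (W : Subgroup C) := by
    have hle : (W : Subgroup C) ≤ (centralizer ({pe} : Set (Equiv.Perm (Fin 5)))).comap π := fun w hw =>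
      mem_centralizer_singleton_iff.2 (by
        rw [← hπe, ← map_mul, ← map_mul]
        exact congrArg π (Subtype.ext (hez _ (hWT w hw))))
    have hcard : Nat.card ↥((centralizer ({pe} : Set (Equiv.Perm (Fin 5)))).comap π) = 16 := by
      have h1 := ((centralizer ({pe} : Set (Equiv.Perm (Fin 5)))).comap π).card_mul_index
      rw [index_comap_of_surjective _ hπsurj, hC] at h1
      have h2 := (centralizer ({pe} : Set (Equiv.Perm (Fin 5)))).card_mul_index
      rw [card_centralizer_perm, card_centralizer_pe, Nat.card_perm, Nat.card_fin] at h2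
      simp only [Nat.factorial] at h2
      have h15 : (centralizer ({pe} : Set (Equiv.Perm (Fin 5)))).index = 15 := by omega
      rw [h15] at h1
      omega
    intro g hg
    rw [eq_of_le_of_card_ge hle (by rw [hcard, hW16])]
    exact mem_centralizer_singleton_iff.2 hg
  -- an element moving s
  let R : Subgroup ↥(T : Subgroup G) := (C.subgroupOf (T : Subgroup G))
  have hR : R < ⊤ := by
    refine lt_top_iff_ne_top.2 fun h => ?_
    have hle : (T : Subgroup G) ≤ C := subgroupOf_eq_top.1 h
    have := card_dvd_of_le hle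
    rw [hT64, hC] at this
    norm_num at this
  haveI : Group.IsNilpotent ↥(T : Subgroup G) := T.isPGroup'.isNilpotent
  obtain ⟨t, htN, htR⟩ := SetLike.exists_of_lt (Group.normalizerCondition_of_isNilpotent R hR)
  let u : G := (t : G) * s * (t : G)⁻¹
  have hu2 : orderOf u = 2 := by
    rw [show u = MulAut.conj (t : G) s from rfl, MulEquiv.orderOf_eq, P.hs]
  have hnorm : ∀ w ∈ (W : Subgroup C), (t : G)⁻¹ * w * t ∈ C := fun w hw => by
    have := (mem_normalizer_iff.1 (inv_mem htN) ⟨(w : G), hWT w hw⟩).1 (mem_subgroupOf.2 w.2)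
    rw [inv_inv] at this
    exact mem_subgroupOf.1 this
  have huW : ∀ w ∈ (W : Subgroup C), (w : G) * u = u * w := by
    intro w hw
    have hc := mem_centralizer_singleton_iff.1 (hnorm w hw)
    calc (w : G) * u = (t : G) * (((t : G)⁻¹ * w * t) * s) * (t : G)⁻¹ := by simp only [u]; group
      _ = (t : G) * (s * ((t : G)⁻¹ * w * t)) * (t : G)⁻¹ := by rw [hc]
      _ = u * w := by simp only [u]; group
  have huC : u ∈ C := mem_centralizer_singleton_iff.2 (huW ⟨s, hsC⟩ (hW (mem_zpowers _))).symm
  have hus : u ≠ s := fun h => htR (mem_subgroupOf.2 (mem_centralizer_singleton_iff.2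
    (mul_inv_eq_iff_eq_mul.1 h)))
  have hse : IsConj s (s * e) := by
    refine isConj_iff.2 ⟨t, ?_⟩
    show u = s * e
    rcases eq_of_central_pe (π ⟨u, huC⟩) (fun a ha => by
      obtain ⟨g, rfl⟩ := hπsurj a
      rw [← map_mul, ← map_mul]
      exact congrArg π (Subtype.ext (huW g (hWeq g ha)))) with h | h
    · rcases (hπker _).1 h with h | h
      · rw [show u = 1 from h, orderOf_one] at hu2; omega
      · exact absurd h hus
    · rcases (hπker (⟨u, huC⟩ * ⟨e, heC⟩⁻¹)).1 (by rw [map_mul, map_inv, h, hπe, mul_inv_cancel]) with h | h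
      · exfalso
        have hue : u = e := mul_inv_eq_one.1 h
        refine hes ?_
        have hte : (t : G) * e * (t : G)⁻¹ = e := mul_inv_eq_iff_eq_mul.2 (hez _ t.2)
        exact (mul_left_cancel (mul_right_cancel (hue.trans hte.symm))).symm
      · exact mul_inv_eq_iff_eq_mul.1 h
  exact ⟨⟨s, π, ⟨e, heC⟩, P.hs, hπsurj, fun g => (hπker g).1, hπe, hz, h64, hse, hC⟩, rfl⟩

end CfsgLib.M12Counts
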