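import Cfsg.Agent.Lib.M12Counts.Five
import Cfsg.Agent.Lib.M12Counts.Cov

/-!
Groups of order 95040 with the counts of M12: the two classes of involutions, and elements of order 12.
-/

set_option autoImplicit false
set_option linter.unusedSectionVars false
set_option linter.style.haveILetI false

namespace CfsgLib.M12Counts

open Subgroup CfsgLib.Recog.OrderCounts

variable {G : Type*} [Group G] [Finite G]

theorem card_isConj_mul (u : G) :
    Nat.card {t : G // IsConj u t} * Nat.card ↥(centralizer ({u} : Set G)) = Nat.card G := by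
  rw [Invol.card_isConj_eq_index, mul_comm, card_mul_index]

variable (H : Hyp G) (D : Cov G) {x : G} (P : Pair G x D.s)
include H P

theorem card_class_s : Nat.card {t : G // IsConj D.s t} = 396 := by
  have h := card_isConj_mul D.s
  rw [D.card, H.card] at h
  omega

theorem not_isConj_s_e : ¬ IsConj D.s (D.e : G) := fun hc => by
  obtain ⟨g, hg⟩ := isConj_iff.1 hc
  have hle : Nat.card ↥(centralizer ({(D.e : G)} : Set G)) = Nat.card ↥(centralizer ({D.s} : Set G)) := by
    have h1 := card_isConj_mul D.s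
    have h2 := card_isConj_mul (D.e : G)
    rw [Nat.card_congr (Equiv.subtypeEquivRight fun t =>
      ⟨fun h => hc.trans h, fun h => hc.symm.trans h⟩ :
        {t : G // IsConj (D.e : G) t} ≃ {t : G // IsConj D.s t}), card_class_s H D P, H.card] at h2
    rw [D.card]
    omega
  have := D.h64
  rw [hle, D.card] at this
  norm_num at this

theorem class_le : Nat.card {t : G // IsConj (D.e : G) t} + 396 ≤ 891 := by
  rw [← cnt_two H, ← card_class_s H D P, ← Nat.card_sum]
  refine Nat.card_le_card_of_injective (fun t : _ ⊕ _ => (Sum.elim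
    (fun t : {t : G // IsConj (D.e : G) t} =>
      (⟨t.1, Invol.orderOf_eq_two_of_isConj D.he t.2⟩ : {t : G // orderOf t = 2}))
    (fun t : {t : G // IsConj D.s t} => ⟨t.1, Invol.orderOf_eq_two_of_isConj D.hs t.2⟩)) t) ?_
  rintro (u | u) (v | v) e <;>
    simp only [Sum.elim_inl, Sum.elim_inr, Subtype.mk.injEq] at e <;> have e' : u.1 = v.1 := e
  · exact congrArg Sum.inl (Subtype.ext e')
  · exact absurd (v.2.trans (e' ▸ u.2).symm) (not_isConj_s_e H D P)
  · exact absurd (u.2.trans (e' ▸ v.2.symm)) (not_isConj_s_e H D P)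
  · exact congrArg Sum.inr (Subtype.ext e')

/-- Each element of order 5 is a product of two conjugates of `e` in five ways. -/
theorem five_mul_le : 9504 * 5 + Nat.card {t : G // IsConj (D.e : G) t} ≤
    Nat.card {t : G // IsConj (D.e : G) t} * Nat.card {t : G // IsConj (D.e : G) t} := by
  classical
  obtain ⟨y₀, hy₀, hinv₀⟩ := D.exists_inverted
  have hex : ∀ y : {y : G // orderOf y = 5}, ∃ c, IsConj (D.e : G) c ∧ c * y.1 * c⁻¹ = y.1⁻¹ := by
    intro y
    obtain ⟨g, hg⟩ := exists_conj_five H hy₀ y.2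
    obtain ⟨k, hk⟩ := mem_zpowers_iff.1 hg
    refine ⟨g⁻¹ * (D.e : G) * g, isConj_iff.2 ⟨g⁻¹, by group⟩, ?_⟩
    have he : (D.e : G) * (g * y.1 * g⁻¹) * (D.e : G)⁻¹ = (g * y.1 * g⁻¹)⁻¹ := by
      rw [← hk, ← conj_zpow, hinv₀, inv_zpow]
    calc g⁻¹ * (D.e : G) * g * y.1 * (g⁻¹ * (D.e : G) * g)⁻¹
        = g⁻¹ * ((D.e : G) * (g * y.1 * g⁻¹) * (D.e : G)⁻¹) * g := by group
      _ = g⁻¹ * (g * y.1 * g⁻¹)⁻¹ * g := by rw [he]
      _ = y.1⁻¹ := by group
  choose c hc hcy using hex
  have hmem : ∀ (y : {y : G // orderOf y = 5}) (j : ℤ), IsConj (D.e : G) (c y * y.1 ^ j) := by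
    intro y j
    refine (hc y).trans (isConj_iff.2 ⟨y.1 ^ (2 * j), ?_⟩)
    have h5 : y.1 ^ (5 * j) = 1 := by
      have := pow_orderOf_eq_one y.1
      rw [y.2] at this
      rw [zpow_mul, zpow_ofNat, this, one_zpow]
    have hmove : y.1 ^ (2 * j) * c y = c y * y.1 ^ (-(2 * j)) := by
      have hcy' : ∀ m : ℤ, c y * y.1 ^ m * (c y)⁻¹ = y.1 ^ (-m) := fun m => by
        rw [← conj_zpow, hcy, inv_zpow, zpow_neg]
      have := hcy' (-(2 * j))
      rw [neg_neg] at this
      rw [← this]; group
    rw [hmove, ← zpow_neg, mul_assoc, ← zpow_add,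
      show -(2 * j) + -(2 * j) = j + -(5 * j) by ring, zpow_add, zpow_neg, h5, inv_one, mul_one]
  have := Fintype.ofFinite G
  let K : Finset G := Finset.univ.filter fun t => IsConj (D.e : G) t
  have hK : Nat.card {t : G // IsConj (D.e : G) t} = K.card := by
    rw [Nat.card_eq_fintype_card, Fintype.card_subtype]
  have hinj : Nat.card ({y : G // orderOf y = 5} × Fin 5) ≤ K.offDiag.card := by
    rw [← Nat.card_eq_finsetCard K.offDiag]
    refine Nat.card_le_card_of_injective (fun z =>
      ⟨(c z.1 * z.1.1 ^ (z.2.1 : ℤ), c z.1 * z.1.1 ^ ((z.2.1 : ℤ) + 1)), ?_⟩) ?_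
    · refine Finset.mem_offDiag.2 ⟨Finset.mem_filter.2 ⟨Finset.mem_univ _, hmem _ _⟩,
        Finset.mem_filter.2 ⟨Finset.mem_univ _, hmem _ _⟩, fun h => ?_⟩
      rw [zpow_add_one, ← mul_assoc, left_eq_mul] at h
      have := z.1.2
      rw [h, orderOf_one] at this
      omega
    · rintro ⟨y, i⟩ ⟨y', i'⟩ e
      have e' := congrArg Subtype.val e
      simp only [Prod.mk.injEq, zpow_add_one, ← mul_assoc] at e'
      obtain ⟨e1, e2⟩ := e'
      have hy : y = y' := Subtype.ext (by rw [e1] at e2; exact mul_left_cancel e2)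
      subst hy
      have h := mul_left_cancel e1
      rw [zpow_natCast, zpow_natCast, pow_eq_pow_iff_modEq, y.2, Nat.ModEq,
        Nat.mod_eq_of_lt i.2, Nat.mod_eq_of_lt i'.2] at h
      exact Prod.ext rfl (Fin.ext h)
  rw [Finset.offDiag_card, Nat.card_prod, show Nat.card {y : G // orderOf y = 5} = 9504 from (sylow_five H).2,
    Nat.card_fin] at hinj
  rw [hK]
  omega

theorem centralizer_e : Nat.card ↥(centralizer ({(D.e : G)} : Set G)) = 192 := by
  have hmul := card_isConj_mul (D.e : G)
  rw [H.card] at hmul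
  have h1 := class_le H D P
  have h2 := five_mul_le H D P
  have hd : Nat.card ↥(centralizer ({(D.e : G)} : Set G)) ∣ 95040 := ⟨_, by rw [mul_comm]; exact hmul.symm⟩
  have h5 : ¬ 5 ∣ Nat.card ↥(centralizer ({(D.e : G)} : Set G)) := fun h => by
    haveI : Fact (Nat.Prime 5) := ⟨Nat.prime_five⟩
    obtain ⟨⟨y, hy⟩, hyo⟩ := exists_prime_orderOf_dvd_card' 5 h
    rw [Subgroup.orderOf_mk] at hyo
    exact not_isConj_s_e H D P
      (isConj_of_commute_five H P D.he hyo (mem_centralizer_singleton_iff.1 hy).symm)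
  have h11 : ¬ 11 ∣ Nat.card ↥(centralizer ({(D.e : G)} : Set G)) := fun h => by
    haveI : Fact (Nat.Prime 11) := ⟨by norm_num⟩
    obtain ⟨⟨y, hy⟩, hyo⟩ := exists_prime_orderOf_dvd_card' 11 h
    rw [Subgroup.orderOf_mk] at hyo
    have := not_commute_eleven H hyo (mem_centralizer_singleton_iff.1 hy).symm
    rw [D.he] at this
    norm_num at this
  obtain ⟨k, hk⟩ := D.h64
  generalize Nat.card ↥(centralizer ({(D.e : G)} : Set G)) = n at *
  generalize Nat.card {t : G // IsConj (D.e : G) t} = I at *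
  subst hk
  have hI : I * k = 1485 := Nat.eq_of_mul_eq_mul_left (by norm_num : 0 < 64) (by linarith)
  have hkd : k ∣ 1485 := ⟨I, by rw [← hI, mul_comm]⟩
  have hI219 : 219 ≤ I := by
    by_contra h
    have : I * I ≤ 218 * I := Nat.mul_le_mul_right I (by omega)
    omega
  have hk7 : k ≤ 6 := by
    by_contra h
    have : I * 7 ≤ I * k := Nat.mul_le_mul_left I (by omega)
    omega
  interval_cases k <;> omega

theorem card_class_e : Nat.card {t : G // IsConj (D.e : G) t} = 495 := by
  have h := card_isConj_mul (D.e : G)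
  rw [centralizer_e H D P, H.card] at h
  omega

theorem invol_cases (t : G) (ht : orderOf t = 2) : IsConj D.s t ∨ IsConj (D.e : G) t := by
  classical
  have := Fintype.ofFinite G
  by_contra hn
  push Not at hn
  have h : Nat.card {t : G // IsConj (D.e : G) t} + 396 + 1 ≤ cnt G 2 := by
    rw [← card_class_s H D P, Nat.card_eq_fintype_card, Nat.card_eq_fintype_card, Fintype.card_subtype,
      Fintype.card_subtype, ← Finset.card_union_of_disjoint, cnt, Nat.card_eq_fintype_card,
      Fintype.card_subtype, ← Finset.card_insert_of_notMem (a := t)]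
    · refine Finset.card_le_card fun u hu => ?_
      simp only [Finset.mem_insert, Finset.mem_union, Finset.mem_filter, Finset.mem_univ, true_and] at hu ⊢
      rcases hu with rfl | hu | hu
      · exact ht
      · exact Invol.orderOf_eq_two_of_isConj D.he hu
      · exact Invol.orderOf_eq_two_of_isConj D.hs hu
    · simp only [Finset.mem_union, Finset.mem_filter, Finset.mem_univ, true_and, not_or]
      exact ⟨hn.2, hn.1⟩
    · exact Finset.disjoint_filter.2 fun u _ he hs => not_isConj_s_e H D P (hs.trans he.symm)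
  rw [card_class_e H D P, cnt_two H] at h
  omega

omit H P in
theorem card_root_conj {u v : G} (h : IsConj u v) (n m : ℕ) :
    Nat.card {w : G // orderOf w = n ∧ w ^ m = v} = Nat.card {w : G // orderOf w = n ∧ w ^ m = u} := by
  obtain ⟨g, rfl⟩ := isConj_iff.1 h
  refine (Nat.card_congr ((MulAut.conj g).toEquiv.subtypeEquiv fun w => ?_)).symm
  show _ ↔ orderOf (MulAut.conj g w) = n ∧ (MulAut.conj g w) ^ m = MulAut.conj g u
  rw [MulEquiv.orderOf_eq, ← map_pow, EquivLike.apply_eq_iff_eq]

/-- Counting elements of order `2 m` by their involution. -/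
theorem cnt_eq (n m : ℕ) (h : n = 2 * m) (hm : m ≠ 0) : cnt G n =
    396 * Nat.card {w : G // orderOf w = n ∧ w ^ m = D.s} +
      495 * Nat.card {w : G // orderOf w = n ∧ w ^ m = (D.e : G)} := by
  classical
  have := Fintype.ofFinite G
  have hfib : ∀ (p : G → Prop) [DecidablePred p], Nat.card {w : G // p w} = (Finset.univ.filter p).card :=
    fun p _ => by rw [Nat.card_eq_fintype_card, Fintype.card_subtype]
  let Ks : Finset G := Finset.univ.filter fun t => IsConj D.s t
  let Ke : Finset G := Finset.univ.filter fun t => IsConj (D.e : G) t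
  rw [cnt, hfib, Finset.card_eq_sum_card_fiberwise (f := fun w : G => w ^ m) (t := Ks ∪ Ke) (fun w hw => ?_),
    Finset.sum_union (Finset.disjoint_filter.2 fun u _ hs he => not_isConj_s_e H D P (hs.trans he.symm)),
    Finset.sum_const_nat (m := Nat.card {w : G // orderOf w = n ∧ w ^ m = D.s}) (fun t ht => ?_),
    Finset.sum_const_nat (m := Nat.card {w : G // orderOf w = n ∧ w ^ m = (D.e : G)}) (fun t ht => ?_),
    ← hfib, ← hfib, card_class_s H D P, card_class_e H D P]
  · rw [Finset.filter_filter, ← hfib, card_root_conj (Finset.mem_filter.1 ht).2]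
  · rw [Finset.filter_filter, ← hfib, card_root_conj (Finset.mem_filter.1 ht).2]
  · have hw2 : orderOf (w ^ m) = 2 := by
      have hwn : orderOf w = n := (Finset.mem_filter.1 hw).2
      rw [orderOf_pow_of_dvd hm (hwn ▸ h ▸ Dvd.intro_left 2 rfl), hwn, h,
        Nat.mul_div_cancel _ (Nat.pos_of_ne_zero hm)]
    simp only [Finset.coe_union, Set.mem_union, Finset.mem_coe]
    exact (invol_cases H D P _ hw2).imp (fun h => Finset.mem_filter.2 ⟨Finset.mem_univ _, h⟩)
      fun h => Finset.mem_filter.2 ⟨Finset.mem_univ _, h⟩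

/-- There are 32 elements of order 3 commuting with `e`. -/
theorem cnt_three_centralizer_e (h6 : Nat.card {w : G // orderOf w = 6 ∧ w ^ 3 = D.s} = 20) :
    cnt ↥(centralizer ({(D.e : G)} : Set G)) 3 = 32 := by
  have heq : Nat.card {w : G // orderOf w = 6 ∧ w ^ 3 = (D.e : G)} =
      cnt ↥(centralizer ({(D.e : G)} : Set G)) 3 := by
    have he2 : (D.e : G) ^ 2 = 1 := by rw [← D.he]; exact pow_orderOf_eq_one _
    refine Nat.card_congr
      { toFun := fun w => ⟨⟨w.1 ^ 4, mem_centralizer_singleton_iff.2 (by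
          have := (Commute.refl w.1).pow_pow 4 3
          rw [w.2.2] at this
          exact this.eq)⟩, by
            rw [Subgroup.orderOf_mk, orderOf_pow' _ (by norm_num), w.2.1]; rfl⟩
        invFun := fun v => ⟨(v.1 : G) * D.e, ?_, ?_⟩
        left_inv := fun w => Subtype.ext (by
          show w.1 ^ 4 * (D.e : G) = w.1
          have h7 : w.1 ^ 4 * w.1 ^ 3 = w.1 := by
            have h1 := pow_orderOf_eq_one w.1
            rw [w.2.1] at h1
            rw [← pow_add, pow_succ, h1, one_mul]
          rw [w.2.2] at h7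
          exact h7)
        right_inv := fun v => Subtype.ext (Subtype.ext (by
          show ((v.1 : G) * D.e) ^ 4 = v.1
          have hc : Commute (v.1 : G) D.e := mem_centralizer_singleton_iff.1 v.1.2
          have hv : orderOf (v.1 : G) = 3 := (Subgroup.orderOf_coe v.1).trans v.2
          rw [hc.mul_pow, show (4 : ℕ) = 2 * 2 from rfl, pow_mul (D.e : G), he2, one_pow, mul_one,
            show 2 * 2 = 3 + 1 from rfl, pow_succ, show (v.1 : G) ^ 3 = 1 from orderOf_dvd_iff_pow_eq_one.1 (dvd_of_eq hv), one_mul])) }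
    · have hc : Commute (v.1 : G) D.e := mem_centralizer_singleton_iff.1 v.1.2
      have hv : orderOf (v.1 : G) = 3 := (Subgroup.orderOf_coe v.1).trans v.2
      rw [hc.orderOf_mul_eq_mul_orderOf_of_coprime (by rw [hv, D.he]; norm_num), hv, D.he]
    · have hc : Commute (v.1 : G) D.e := mem_centralizer_singleton_iff.1 v.1.2
      have hv : orderOf (v.1 : G) = 3 := (Subgroup.orderOf_coe v.1).trans v.2
      have h3 : (v.1 : G) ^ 3 = 1 := orderOf_dvd_iff_pow_eq_one.1 (dvd_of_eq hv)
      rw [hc.mul_pow, h3, one_mul, pow_succ, he2, one_mul]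
  have h := cnt_eq H D P 6 3 rfl (by norm_num)
  rw [h6, heq] at h
  have := H.mem 6 (by omega)
  simp only [vals, List.mem_cons, List.not_mem_nil, or_false] at this
  omega

/-- No element of order 12 has sixth power conjugate to `e`. -/
theorem twelve_e_eq_zero (h6 : Nat.card {w : G // orderOf w = 6 ∧ w ^ 3 = D.s} = 20) :
    Nat.card {w : G // orderOf w = 12 ∧ w ^ 6 = (D.e : G)} = 0 := by
  classical
  haveI : Fact (Nat.Prime 3) := ⟨Nat.prime_three⟩
  rw [Nat.card_eq_zero]
  refine Or.inl ⟨fun w => ?_⟩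
  set C := centralizer ({(D.e : G)} : Set G) with hCdef
  have hC : Nat.card C = 192 := centralizer_e H D P
  let W : C := ⟨w.1, mem_centralizer_singleton_iff.2 (by
    have := (Commute.refl w.1).pow_right 6
    rw [w.2.2] at this
    exact this.eq)⟩
  have hW : orderOf W = 12 := by rw [Subgroup.orderOf_mk]; exact w.2.1
  have hW4 : orderOf (W ^ 4) = 3 := by rw [orderOf_pow_of_dvd (by norm_num) (hW ▸ by norm_num), hW]
  -- every element of order 3 in C is a fourth power of such an element
  have hex : ∀ v : {v : C // orderOf v = 3}, ∃ u : C, orderOf u = 12 ∧ (u : G) ^ 6 = D.e ∧ u ^ 4 = v.1 := by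
    intro v
    have hS : ∀ a : C, orderOf a = 3 → ∃ T : Sylow 3 C, (T : Subgroup C) = zpowers a := fun a ha =>
      ⟨Sylow.ofCard (zpowers a) (by
        rw [card_zp ha, hC, show (192 : ℕ) = 3 ^ 1 * 64 by norm_num,
          Nat.factorization_mul (by norm_num) (by norm_num), Finsupp.add_apply,
          Nat.prime_three.factorization_pow, Finsupp.single_eq_same,
          Nat.factorization_eq_zero_of_not_dvd (by norm_num : ¬ 3 ∣ 64)]
        norm_num), rfl⟩
    obtain ⟨T, hT⟩ := hS _ hW4
    obtain ⟨U, hU⟩ := hS _ v.2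
    obtain ⟨g, hg⟩ := MulAction.exists_smul_eq C T U
    have hv : v.1 ∈ ((g • T : Sylow 3 C) : Subgroup C) := by rw [hg, hU]; exact mem_zpowers _
    rw [Sylow.coe_subgroup_smul, hT] at hv
    obtain ⟨y, hy, hyv⟩ := hv
    obtain ⟨k, hk, rfl⟩ : ∃ k < 3, (W ^ 4) ^ k = y := by
      obtain ⟨k, rfl⟩ := Submonoid.mem_powers_iff _ _ |>.1 (mem_powers_iff_mem_zpowers.2 hy)
      exact ⟨k % 3, Nat.mod_lt _ (by norm_num), by rw [← hW4, pow_mod_orderOf]⟩
    have hyv' : g * (W ^ 4) ^ k * g⁻¹ = v.1 := hyv
    have hWe : (W : G) ^ 6 = D.e := w.2.2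
    have hee : (D.e : G) * D.e = 1 := D.e_sq
    have hge : ∀ a : C, (a : G) * D.e * (a : G)⁻¹ = D.e := fun a =>
      mul_inv_eq_iff_eq_mul.2 (mem_centralizer_singleton_iff.1 a.2)
    have hmk : ∀ j : ℕ, Nat.Coprime 12 j → j % 2 = 1 → 4 * j % 12 = 4 * k % 12 →
        ∃ u : C, orderOf u = 12 ∧ (u : G) ^ 6 = D.e ∧ u ^ 4 = v.1 := by
      intro j hcop hodd hmod
      refine ⟨g * W ^ j * g⁻¹, ?_, ?_, ?_⟩
      · rw [← MulAut.conj_apply, MulEquiv.orderOf_eq, Nat.Coprime.orderOf_pow (hW ▸ hcop), hW]
      · rw [Subgroup.coe_mul, Subgroup.coe_mul, Subgroup.coe_inv, SubmonoidClass.coe_pow, conj_pow,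
          ← pow_mul, mul_comm, pow_mul, hWe, show j = 2 * (j / 2) + 1 by omega, pow_succ, pow_mul, pow_two,
          hee, one_pow, one_mul, hge]
      · rw [conj_pow, ← pow_mul, mul_comm j 4]
        rw [← pow_mul, ← pow_mod_orderOf, hW] at hyv'
        rw [← pow_mod_orderOf, hW, hmod]
        exact hyv'
    rcases (show k = 0 ∨ k = 1 ∨ k = 2 by omega) with rfl | rfl | rfl
    · exfalso
      have := v.2
      rw [← hyv', pow_zero, mul_one, mul_inv_cancel, orderOf_one] at this
      omega
    · exact hmk 1 (by norm_num) rfl rfl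
    · exact hmk 5 (by norm_num) rfl rfl
  choose u hu12 hu6 hu4 using hex
  have hle : Nat.card ({v : C // orderOf v = 3} × Bool) ≤
      Nat.card {w : G // orderOf w = 12 ∧ w ^ 6 = (D.e : G)} := by
    refine Nat.card_le_card_of_injective (fun z => ⟨if z.2 then (u z.1 : G) else (u z.1 : G) ^ 7, ?_⟩) ?_
    · split
      · exact ⟨by rw [Subgroup.orderOf_coe, hu12], hu6 _⟩
      · refine ⟨?_, ?_⟩
        · rw [Nat.Coprime.orderOf_pow (by rw [Subgroup.orderOf_coe, hu12]; norm_num), Subgroup.orderOf_coe, hu12]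
        · rw [← pow_mul, mul_comm, pow_mul, hu6, pow_succ, show (6 : ℕ) = 2 * 3 from rfl, pow_mul, pow_two,
            D.e_sq, one_pow, one_mul]
    · rintro ⟨v, b⟩ ⟨v', b'⟩ e
      have e' := congrArg Subtype.val e
      simp only at e'
      have hp : ∀ (v : {v : C // orderOf v = 3}) (b : Bool),
          (if b then (u v : G) else (u v : G) ^ 7) ^ 4 = (v.1 : G) := by
        intro v b
        have h12 : (u v : G) ^ 12 = 1 := by
          rw [← (Subgroup.orderOf_coe (u v)).trans (hu12 v)]; exact pow_orderOf_eq_one _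
        rw [← hu4 v, SubmonoidClass.coe_pow]
        split
        · rfl
        · rw [← pow_mul, show 7 * 4 = 12 * 2 + 4 from rfl, pow_add, pow_mul, h12, one_pow, one_mul]
      have hv : v = v' := Subtype.ext (Subtype.ext (by rw [← hp v b, e', hp v' b']))
      subst hv
      have h67 : (u v : G) ≠ (u v : G) ^ 7 := fun h => by
        rw [pow_succ, right_eq_mul, hu6] at h
        have := D.he
        rw [h, orderOf_one] at this
        omega
      cases b <;> cases b' <;> simp_all
  have h3 := cnt_three_centralizer_e H D P h6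
  rw [cnt] at h3
  rw [Nat.card_prod, h3, Nat.card_eq_fintype_card (α := Bool), Fintype.card_bool] at hle
  have h := cnt_eq H D P 12 6 rfl (by norm_num)
  have hne : cnt G 12 ≠ 0 := by omega
  have := H.mem 12 hne
  simp only [vals, List.mem_cons, List.not_mem_nil, or_false] at this
  omega

/-- Some element of order 12 with sixth power `s` is impossible in the number found. -/
theorem false_of_card_twelve (h6 : Nat.card {w : G // orderOf w = 6 ∧ w ^ 3 = D.s} = 20)
    (h12 : Nat.card {w : G // orderOf w = 12 ∧ w ^ 6 = D.s} = 40) : False := by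
  have h := cnt_eq H D P 12 6 rfl (by norm_num)
  rw [twelve_e_eq_zero H D P h6, h12] at h
  have := H.mem 12 (by omega)
  simp only [vals, List.mem_cons, List.not_mem_nil, or_false] at this
  omega

theorem orderOf_ne_twelve (h6 : Nat.card {w : G // orderOf w = 6 ∧ w ^ 3 = D.s} = 20)
    (hs12 : ∀ w : G, orderOf w = 12 → w ^ 6 ≠ D.s) (w : G) : orderOf w ≠ 12 := by
  intro hw
  have h := cnt_eq H D P 12 6 rfl (by norm_num)
  haveI : IsEmpty {w : G // orderOf w = 12 ∧ w ^ 6 = D.s} := ⟨fun a => hs12 a.1 a.2.1 a.2.2⟩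
  rw [twelve_e_eq_zero H D P h6, Nat.card_of_isEmpty] at h
  have hpos : 0 < cnt G 12 := by
    haveI : Nonempty {g : G // orderOf g = 12} := ⟨⟨w, hw⟩⟩
    exact Nat.card_pos
  omega

end CfsgLib.M12Counts
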