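import Cfsg.Agent.Lib.M12Counts.Prime
import Cfsg.Agent.Lib.SmallOrder.PrimeSylow

/-!
Groups of order 95040 with the counts of M12: the centraliser of an element of order 5 and its involution.
-/

set_option autoImplicit false
set_option linter.style.haveILetI false

namespace CfsgLib.M12Counts

open Subgroup CfsgLib.Recog.OrderCounts MulAction

variable {G : Type*} [Group G] [Finite G]

omit [Finite G] in
theorem centralizer_zpowers (g : G) :
    centralizer ((zpowers g : Subgroup G) : Set G) = centralizer ({g} : Set G) := by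
  rw [zpowers_eq_closure, centralizer_closure]

variable (H : Hyp G)
include H

theorem exists_sylow_five {x : G} (hx : orderOf x = 5) [Fact (Nat.Prime 5)] :
    ∃ T : Sylow 5 G, (T : Subgroup G) = zpowers x :=
  ⟨Sylow.ofCard (zpowers x) (by
    rw [card_zp hx, H.card, show (95040 : ℕ) = 5 ^ 1 * 19008 by norm_num,
      Nat.factorization_mul (by norm_num) (by norm_num), Finsupp.add_apply,
      (by norm_num : Nat.Prime 5).factorization_pow, Finsupp.single_eq_same,
      Nat.factorization_eq_zero_of_not_dvd (by norm_num : ¬ 5 ∣ 19008)]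
    norm_num), rfl⟩

/-- Every element of order 5 is conjugate into the given subgroup. -/
theorem exists_conj_five {x y : G} (hx : orderOf x = 5) (hy : orderOf y = 5) :
    ∃ g : G, g * y * g⁻¹ ∈ zpowers x := by
  haveI : Fact (Nat.Prime 5) := ⟨by norm_num⟩
  obtain ⟨T, hT⟩ := exists_sylow_five H hx
  obtain ⟨U, hU⟩ := exists_sylow_five H hy
  obtain ⟨c, hc⟩ := MulAction.exists_smul_eq G U T
  refine ⟨c, ?_⟩
  rw [← hT, ← hc, Sylow.coe_subgroup_smul]
  exact ⟨y, hU ▸ mem_zpowers y, rfl⟩

theorem exists_conj_centralizer {x y : G} (hx : orderOf x = 5) (hy : orderOf y = 5) :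
    ∃ g : G, ∀ h : G, h * y = y * h → (g * h * g⁻¹) * x = x * (g * h * g⁻¹) := by
  obtain ⟨g, hg⟩ := exists_conj_five H hx hy
  refine ⟨g, fun h hh => ?_⟩
  have hzy : zpowers (g * y * g⁻¹) = zpowers x := eq_of_le_of_card_ge (zpowers_le.2 hg) (by
    rw [card_zp hx, card_zp (show orderOf (g * y * g⁻¹) = 5 by rw [← MulAut.conj_apply, MulEquiv.orderOf_eq, hy])])
  have hxm : x ∈ zpowers (g * y * g⁻¹) := hzy ▸ mem_zpowers x
  obtain ⟨k, rfl⟩ := mem_zpowers_iff.1 hxm
  have hc : Commute (g * h * g⁻¹) (g * y * g⁻¹) := by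
    show g * h * g⁻¹ * (g * y * g⁻¹) = g * y * g⁻¹ * (g * h * g⁻¹)
    rw [show g * h * g⁻¹ * (g * y * g⁻¹) = g * (h * y) * g⁻¹ by group, hh]
    group
  exact (hc.zpow_right k).eq

/-- The centraliser of an element of order 5 has order 10. -/
theorem centralizer_five {x : G} (hx : orderOf x = 5) :
    Nat.card ↥(centralizer ({x} : Set G)) = 10 := by
  classical
  have := isSimpleGroup H
  haveI : Fact (Nat.Prime 5) := ⟨by norm_num⟩
  haveI : Fact (Nat.Prime 2) := ⟨Nat.prime_two⟩
  set C := centralizer ({x} : Set G) with hC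
  set N := normalizer ((zpowers x : Subgroup G) : Set G) with hN
  have hCN : C ≤ N := centralizer_le_normalizer_zp x
  have hN40 : Nat.card N = 40 := normalizer_five H hx
  obtain ⟨T, hT⟩ := exists_sylow_five H hx
  have hne : (T : Subgroup G) ≠ ⊤ := by
    intro h
    have hc : Nat.card ↥(zpowers x) = Nat.card G := by rw [← hT, h, Subgroup.card_top]
    rw [card_zp hx, H.card] at hc
    omega
  have hxC : zpowers x ≤ C := zpowers_le.2 (mem_centralizer_singleton_iff.2 rfl)
  -- the quotient acts as automorphisms of a cyclic group of order 5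
  have hrel : C.relIndex N ∣ 4 := by
    have hker : (normalizerMonoidHom (zpowers x)).ker = C.subgroupOf N := by
      rw [normalizerMonoidHom_ker, centralizer_zpowers]
    have h := index_ker (normalizerMonoidHom (zpowers x))
    rw [hker] at h
    change (C.subgroupOf N).index ∣ 4
    rw [h]
    refine (card_subgroup_dvd_card _).trans (dvd_of_eq ?_)
    haveI : IsCyclic ↥(zpowers x) := inferInstance
    rw [IsCyclic.card_mulAut, card_zp hx, Nat.totient_prime (by norm_num)]
  have hrel1 : C.relIndex N ≠ 1 := by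
    intro h
    refine SmallOrder.not_normalizer_le_centralizer (p := 5) (by rw [H.card]; norm_num) T hne ?_
    rw [hT, centralizer_zpowers]
    exact relIndex_eq_one.1 h
  have hmul : Nat.card C * C.relIndex N = 40 := by
    rw [← hN40]
    have := card_mul_index (C.subgroupOf N)
    rwa [Nat.card_congr (subgroupOfEquivOfLe hCN).toEquiv] at this
  have hcases : Nat.card C = 10 ∨ Nat.card C = 20 := by
    generalize C.relIndex N = r at hrel hrel1 hmul
    have : r ≤ 4 := Nat.le_of_dvd (by norm_num) hrel
    interval_cases r <;> omega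
  refine hcases.resolve_right fun h20 => ?_
  -- elements of orders 10 and 20
  obtain ⟨W⟩ := (inferInstance : Nonempty (Sylow 2 C))
  have hW : Nat.card ↥(W : Subgroup C) = 4 := by
    rw [SmallOrder.card_sylow_eq (e := 2) (m := 5) (by rw [h20]; norm_num) (by norm_num) W]
    norm_num
  let A := {w : ↥(W : Subgroup C) // w ≠ 1}
  have hA : Nat.card A = 3 := by
    have := Fintype.ofFinite ↥(W : Subgroup C)
    rw [Nat.card_eq_fintype_card, Fintype.card_subtype_compl, Fintype.card_subtype_eq,
      ← Nat.card_eq_fintype_card, hW]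
  have hord : ∀ w : A, orderOf ((w.1 : C) : G) = 2 ∨ orderOf ((w.1 : C) : G) = 4 := by
    intro w
    have hd : orderOf w.1 ∣ 4 := hW ▸ orderOf_dvd_natCard w.1
    have h1 : orderOf w.1 ≠ 1 := fun h => w.2 (orderOf_eq_one_iff.1 h)
    rw [Subgroup.orderOf_coe, Subgroup.orderOf_coe]
    have : orderOf w.1 ≤ 4 := Nat.le_of_dvd (by norm_num) hd
    generalize orderOf w.1 = n at *
    interval_cases n <;> omega
  haveI : Fintype A := Fintype.ofFinite A
  -- counting by the subgroup of order 5
  have hfib : ∀ m : ℕ, ∀ B : Finset A, (∀ w ∈ B, orderOf ((w.1 : C) : G) = m) →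
      cnt G 5 * B.card ≤ cnt G (5 * m) := by
    intro m B hB
    rcases B.eq_empty_or_nonempty with rfl | ⟨w0, hw0⟩
    · simp
    have hm4 : m = 2 ∨ m = 4 := hB _ hw0 ▸ hord w0
    have hcop : Nat.Coprime 5 m := by rcases hm4 with rfl | rfl <;> norm_num
    choose c hc using fun y : {y : G // orderOf y = 5} => exists_conj_centralizer H y.2 hx
    have hcomm : ∀ (y : {y : G // orderOf y = 5}) (w : A),
        Commute (y.1) (c y * ((w.1 : C) : G) * (c y)⁻¹) := fun y w =>
      (hc y _ (mem_centralizer_singleton_iff.1 (w.1 : C).2)).symm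
    have hsplit : ∀ (y : {y : G // orderOf y = 5}) (w : B), orderOf (y.1 * (c y * ((w.1.1 : C) : G) * (c y)⁻¹)) =
        5 * m := fun y w => by
      rw [(hcomm y w).orderOf_mul_eq_mul_orderOf_of_coprime] <;>
        rw [y.2, ← MulAut.conj_apply, MulEquiv.orderOf_eq, hB _ w.2]
      exact hcop
    rw [← Nat.card_eq_finsetCard B, cnt, ← Nat.card_prod]
    refine Nat.card_le_card_of_injective (fun z : _ × _ =>
      (⟨z.1.1 * (c z.1 * ((z.2.1.1 : C) : G) * (c z.1)⁻¹), hsplit z.1 z.2⟩ :
        {g : G // orderOf g = 5 * m})) ?_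
    rintro ⟨y, w⟩ ⟨y', w'⟩ e
    have e' := congrArg Subtype.val e
    simp only at e'
    obtain ⟨k, hk1, hk2⟩ := Nat.chineseRemainder hcop 1 0
    have hproj : ∀ (y : {y : G // orderOf y = 5}) (w : B),
        (y.1 * (c y * ((w.1.1 : C) : G) * (c y)⁻¹)) ^ k = y.1 := by
      intro y w
      have ho : orderOf (c y * ((w.1.1 : C) : G) * (c y)⁻¹) = m := by
        rw [← MulAut.conj_apply, MulEquiv.orderOf_eq, hB _ w.2]
      rw [(hcomm y w).mul_pow]
      conv_lhs => rw [← pow_mod_orderOf, y.2, hk1]
      rw [← pow_mod_orderOf (c y * ((w.1.1 : C) : G) * (c y)⁻¹), ho, hk2]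
      simp
    have hy : y = y' := Subtype.ext (by rw [← hproj y w, e', hproj y' w'])
    subst hy
    have hw := mul_left_cancel (mul_right_cancel (mul_left_cancel e'))
    exact Prod.ext rfl (Subtype.ext (Subtype.ext (Subtype.ext (Subtype.ext hw))))
  have hfive := (sylow_five H).2
  let S2 : Finset A := Finset.univ.filter fun w => orderOf ((w.1 : C) : G) = 2
  let S4 : Finset A := Finset.univ.filter fun w => orderOf ((w.1 : C) : G) = 4
  have h10 := hfib 2 S2 (fun w hw => (Finset.mem_filter.1 hw).2)
  have h204 := hfib 4 S4 (fun w hw => (Finset.mem_filter.1 hw).2)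
  have hsum : S2.card + S4.card = 3 := by
    rw [← Finset.card_union_of_disjoint (Finset.disjoint_filter.2 fun w _ h h' => by omega),
      ← Finset.filter_or, Finset.filter_true_of_mem (fun w _ => hord w), Finset.card_univ,
      ← Nat.card_eq_fintype_card, hA]
  have hbound : ∀ n, cnt G n ≤ 23760 := by
    intro n
    by_cases h0 : cnt G n = 0
    · omega
    have := H.mem n h0
    simp only [vals, List.mem_cons, List.not_mem_nil, or_false] at this
    omega
  have hb10 := hbound 10
  rw [hfive] at h10 h204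
  norm_num at h10 h204
  -- not elementary abelian
  have h4 : S4.card ≠ 0 := by omega
  obtain ⟨w4, hw4⟩ := Finset.card_pos.1 (Nat.pos_of_ne_zero h4)
  -- one of the other two is its inverse
  have h44 : 2 ≤ S4.card := by
    refine Finset.one_lt_card.2 ⟨w4, hw4, ⟨w4.1⁻¹, by simpa using w4.2⟩, ?_, ?_⟩
    · refine Finset.mem_filter.2 ⟨Finset.mem_univ _, ?_⟩
      have := (Finset.mem_filter.1 hw4).2
      rw [Subgroup.orderOf_coe, Subgroup.orderOf_coe] at this ⊢
      simpa using this
    · intro e
      have e1 : w4.1 = w4.1⁻¹ := congrArg Subtype.val e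
      have h2 : w4.1 ^ 2 = 1 := by rw [pow_two]; nth_rw 2 [e1]; exact mul_inv_cancel _
      have := orderOf_dvd_of_pow_eq_one h2
      rw [← Subgroup.orderOf_coe, ← Subgroup.orderOf_coe, (Finset.mem_filter.1 hw4).2] at this
      norm_num at this
  -- a cyclic centraliser gives at most two elements of order 20 for each of order 5
  have hup : cnt G 20 ≤ 2 * 9504 := by
    have := Fintype.ofFinite G
    have hcnt : ∀ n, cnt G n = (Finset.univ.filter fun g : G => orderOf g = n).card := fun n => by
      rw [cnt, Nat.card_eq_fintype_card, Fintype.card_subtype]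
    rw [← hfive, hcnt, hcnt]
    refine (Finset.card_le_mul_card_image (f := fun g : G => g ^ 4) _ 2 ?_).trans
      (Nat.mul_le_mul_left _ (Finset.card_le_card ?_))
    · intro y hy
      obtain ⟨g, hg, rfl⟩ := Finset.mem_image.1 hy
      have hgo : orderOf g = 20 := (Finset.mem_filter.1 hg).2
      have hy5 : orderOf (g ^ 4) = 5 := by
        rw [orderOf_pow_of_dvd (by norm_num) (hgo ▸ by norm_num), hgo]
      have hCy : zpowers g = centralizer ({g ^ 4} : Set G) := by
        refine eq_of_le_of_card_ge (zpowers_le.2 (mem_centralizer_singleton_iff.2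
          ((Commute.refl g).pow_right 4).eq)) ?_
        rw [card_zp hgo, ← h20]
        obtain ⟨e, he⟩ := exists_conj_centralizer H hx hy5
        exact Nat.card_le_card_of_injective
          (fun h : centralizer ({g ^ 4} : Set G) => (⟨e * h * e⁻¹,
            mem_centralizer_singleton_iff.2 (he h (mem_centralizer_singleton_iff.1 h.2))⟩ : C))
          (fun a b h => Subtype.ext (mul_left_cancel (mul_right_cancel (congrArg Subtype.val h :))))
      refine (Finset.card_le_card (t := {g, g ^ 11}) fun h hh => ?_).trans Finset.card_le_two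
      simp only [Finset.mem_filter, Finset.mem_univ, true_and] at hh
      have hm : h ∈ zpowers g := by
        rw [hCy]
        exact mem_centralizer_singleton_iff.2 (hh.2 ▸ ((Commute.refl h).pow_right 4).eq)
      obtain ⟨k, hk, rfl⟩ : ∃ k < 20, g ^ k = h := by
        obtain ⟨k, rfl⟩ := Submonoid.mem_powers_iff _ _ |>.1 (mem_powers_iff_mem_zpowers.2 hm)
        exact ⟨k % 20, Nat.mod_lt _ (by norm_num), by rw [← hgo, pow_mod_orderOf]⟩
      obtain ⟨h1, h2⟩ := hh
      rw [orderOf_pow' _ (by rintro rfl; simp at h1), hgo] at h1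
      rw [← pow_mul, pow_eq_pow_iff_modEq, hgo, Nat.ModEq] at h2
      interval_cases k <;> simp_all
    · intro y hy
      obtain ⟨g, hg, rfl⟩ := Finset.mem_image.1 hy
      have hgo : orderOf g = 20 := (Finset.mem_filter.1 hg).2
      refine Finset.mem_filter.2 ⟨Finset.mem_univ _, ?_⟩
      rw [orderOf_pow_of_dvd (by norm_num) (hgo ▸ by norm_num), hgo]
  have hc20 := H.mem 20 (by omega)
  simp only [vals, List.mem_cons, List.not_mem_nil, or_false] at hc20
  omega

omit H in
/-- A group of order 10 with a central element of order 5 has one involution. -/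
theorem exists_unique_invol {C : Subgroup G} (hC : Nat.card C = 10) {x : G} (hx : orderOf x = 5)
    (hcomm : ∀ g ∈ C, g * x = x * g) (hxC : x ∈ C) :
    ∃ s, orderOf s = 2 ∧ s ∈ C ∧ ∀ t ∈ C, orderOf t = 2 → t = s := by
  haveI : Fact (Nat.Prime 2) := ⟨Nat.prime_two⟩
  obtain ⟨⟨s, hsC⟩, hso⟩ := exists_prime_orderOf_dvd_card' (G := C) 2 (by rw [hC]; norm_num)
  rw [Subgroup.orderOf_mk] at hso
  refine ⟨s, hso, hsC, fun t htC hto => ?_⟩
  have hcop : (orderOf x).Coprime (orderOf s) := by rw [hx, hso]; norm_num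
  have hxs : orderOf (x * s) = 10 := by
    rw [(show Commute x s from (hcomm s hsC).symm).orderOf_mul_eq_mul_orderOf_of_coprime hcop, hx, hso]
  have hCz : zpowers (x * s) = C := eq_of_le_of_card_ge (zpowers_le.2 (mul_mem hxC hsC)) (by
    rw [card_zp hxs, hC])
  haveI : IsCyclic ↥C := hCz ▸ inferInstance
  have h2 : (Finset.univ : Finset (Fin 1)).card = 1 := rfl
  by_contra hne
  classical
  have := Fintype.ofFinite ↥C
  have hle := IsCyclic.card_pow_eq_one_le (α := ↥C) (n := 2) two_pos
  have hsub : ({1, ⟨s, hsC⟩, ⟨t, htC⟩} : Finset ↥C) ⊆ Finset.univ.filter fun a : ↥C => a ^ 2 = 1 := by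
    intro a ha
    simp only [Finset.mem_insert, Finset.mem_singleton] at ha
    rw [Finset.mem_filter]
    refine ⟨Finset.mem_univ _, ?_⟩
    rcases ha with rfl | rfl | rfl
    · simp
    · exact Subtype.ext (by simpa [← hso] using pow_orderOf_eq_one s)
    · exact Subtype.ext (by simpa [← hto] using pow_orderOf_eq_one t)
  have hc := Finset.card_le_card hsub
  rw [Finset.card_insert_of_notMem, Finset.card_pair] at hc
  · omega
  · intro e; exact hne (congrArg Subtype.val e).symm
  · simp only [Finset.mem_insert, Finset.mem_singleton]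
    rintro (e | e)
    · have : s = 1 := (congrArg Subtype.val e).symm
      rw [this, orderOf_one] at hso; omega
    · have : t = 1 := (congrArg Subtype.val e).symm
      rw [this, orderOf_one] at hto; omega

/-- An element of order 5 and its involution. -/
structure Pair (G : Type*) [Group G] (x s : G) : Prop where
  hx : orderOf x = 5
  hs : orderOf s = 2
  comm : s * x = x * s
  uniq : ∀ t : G, orderOf t = 2 → t * x = x * t → t = s

theorem exists_pair : ∃ x s : G, Pair G x s := by
  haveI : Fact (Nat.Prime 5) := ⟨by norm_num⟩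
  obtain ⟨x, hx⟩ := exists_prime_orderOf_dvd_card' (G := G) 5 (by rw [H.card]; norm_num)
  obtain ⟨s, hs, hsC, hu⟩ := exists_unique_invol (centralizer_five H hx) hx
    (fun g hg => mem_centralizer_singleton_iff.1 hg) (mem_centralizer_singleton_iff.2 rfl)
  exact ⟨x, s, hx, hs, mem_centralizer_singleton_iff.1 hsC,
    fun t ht htx => hu t (mem_centralizer_singleton_iff.2 htx) ht⟩

/-- No element has order 15. -/
theorem orderOf_ne_fifteen (w : G) : orderOf w ≠ 15 := by
  intro hw
  have hx : orderOf (w ^ 3) = 5 := by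
    rw [orderOf_pow_of_dvd (by norm_num) (hw ▸ by norm_num), hw]
  have := orderOf_dvd_natCard _ (mem_centralizer_singleton_iff.2 ((Commute.refl w).pow_right 3).eq :
    w ∈ centralizer ({w ^ 3} : Set G))
  rw [centralizer_five H hx, hw] at this
  norm_num at this

variable {x s : G} (P : Pair G x s)
include P

/-- An involution commuting with an element of order 5 is conjugate to `s`. -/
theorem isConj_of_commute_five {t y : G} (ht : orderOf t = 2) (hy : orderOf y = 5) (h : t * y = y * t) :
    IsConj s t := by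
  obtain ⟨g, hg⟩ := exists_conj_centralizer H P.hx hy
  have e := P.uniq (g * t * g⁻¹) (by rw [← MulAut.conj_apply, MulEquiv.orderOf_eq, ht]) (hg t h)
  exact IsConj.symm (isConj_iff.2 ⟨g, e⟩)

omit H [Finite G] in
theorem normalizer_le : normalizer ((zpowers x : Subgroup G) : Set G) ≤ centralizer ({s} : Set G) := by
  intro g hg
  refine mem_centralizer_singleton_iff.2 (mul_inv_eq_iff_eq_mul.1 ?_)
  refine P.uniq _ (by rw [← MulAut.conj_apply, MulEquiv.orderOf_eq, P.hs]) ?_
  have hm : g⁻¹ * x * g⁻¹⁻¹ ∈ zpowers x := (mem_normalizer_iff.1 (inv_mem hg) x).1 (mem_zpowers x)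
  obtain ⟨k, hk⟩ := mem_zpowers_iff.1 hm
  have hc : Commute s (g⁻¹ * x * g⁻¹⁻¹) := hk ▸ (show Commute s x from P.comm).zpow_right k
  calc g * s * g⁻¹ * x = g * (s * (g⁻¹ * x * g⁻¹⁻¹)) * g⁻¹ := by group
    _ = g * (g⁻¹ * x * g⁻¹⁻¹ * s) * g⁻¹ := by rw [hc.eq]
    _ = x * (g * s * g⁻¹) := by group

theorem five_data : ∃ n, Nat.card ↥(centralizer ({s} : Set G)) = 40 * n ∧
    Order175560.numSub 5 (centralizer ({s} : Set G)) = n ∧ (n = 6 ∨ n = 36) := by
  classical
  have := isSimpleGroup H
  have hG := not_comm H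
  haveI : Fact (Nat.Prime 5) := ⟨by norm_num⟩
  haveI : Fact (Nat.Prime 11) := ⟨by norm_num⟩
  set C := centralizer ({s} : Set G) with hC
  have h5 : ¬ 5 ^ 2 ∣ Nat.card C := fun h => by
    have := h.trans (card_subgroup_dvd_card C)
    rw [H.card] at this
    norm_num at this
  obtain ⟨hn1, hn⟩ := Order175560.numSub_facts (p := 5) (H := C) (K := zpowers x)
    (zpowers_le.2 (mem_centralizer_singleton_iff.2 P.comm.symm)) (card_zp P.hx) h5
  rw [inf_eq_right.2 (normalizer_le P), normalizer_five H P.hx] at hn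
  generalize hk : Order175560.numSub 5 C = n at hn1 hn
  refine ⟨n, by omega, rfl, ?_⟩
  have h11 : ¬ 11 ∣ Nat.card C := by
    intro h
    obtain ⟨⟨a, ha⟩, hao⟩ := exists_prime_orderOf_dvd_card' (G := C) 11 h
    rw [Subgroup.orderOf_mk] at hao
    have := not_commute_eleven H hao (mem_centralizer_singleton_iff.1 ha).symm
    rw [P.hs] at this
    norm_num at this
  have hd : Nat.card C ∣ 95040 := H.card ▸ card_subgroup_dvd_card C
  have hd' : n ∣ 216 := by
    rw [← hn, show (95040 : ℕ) = 2376 * 40 by norm_num] at hd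
    have h1 : n ∣ 216 * 11 := Nat.dvd_of_mul_dvd_mul_right (by norm_num : 0 < 40) hd
    refine Nat.Coprime.dvd_of_dvd_mul_right ?_ h1
    exact ((by norm_num : Nat.Prime 11).coprime_iff_not_dvd.2 fun h => h11 (hn ▸ h.mul_right 40)).symm
  have hI : C.index = Nat.card {t : G // IsConj s t} := (Invol.card_isConj_eq_index s).symm
  have hI891 : C.index ≤ 891 := by
    rw [hI, ← cnt_two H]
    exact Nat.card_le_card_of_injective (fun t : {t : G // IsConj s t} =>
      (⟨t.1, Invol.orderOf_eq_two_of_isConj P.hs t.2⟩ : {t : G // orderOf t = 2}))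
      (fun a b e => Subtype.ext (congrArg Subtype.val e :))
  have hidx := C.card_mul_index
  rw [H.card] at hidx
  -- fixed points of s in its class
  let S := {t : G // IsConj s t ∧ t ∈ C}
  have hfix := SmallOrder.card_fixedBy_mul_card_class C s
  rw [← hI, mul_comm C.index] at hfix
  have hfixS : Nat.card (fixedBy (G ⧸ C) s) = Nat.card S :=
    Nat.eq_of_mul_eq_mul_right (Nat.pos_of_ne_zero Subgroup.index_ne_zero_of_finite) hfix
  have hmod4 := SmallOrder.fixedBy_involution_mod_four hG C (x := s) (by
    rw [← P.hs]; exact pow_orderOf_eq_one s)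
  have hmod5 : Nat.card S % 5 = 1 := by
    have hxC : x ∈ C := mem_centralizer_singleton_iff.2 P.comm.symm
    let act : MulAction ↥(zpowers x) S :=
      { smul := fun h t => ⟨(h : G) * t.1 * (h : G)⁻¹, t.2.1.trans (isConj_iff.2 ⟨h, rfl⟩),
          mul_mem (mul_mem (zpowers_le.2 hxC h.2) t.2.2) (inv_mem (zpowers_le.2 hxC h.2))⟩
        one_smul := fun t => Subtype.ext (show ((1 : zpowers x) : G) * t.1 * ((1 : zpowers x) : G)⁻¹ = t.1 by simp)
        mul_smul := fun a b t => Subtype.ext (show ((a * b : zpowers x) : G) * t.1 * ((a * b : zpowers x) : G)⁻¹ =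
          (a : G) * ((b : G) * t.1 * (b : G)⁻¹) * (a : G)⁻¹ by simp [mul_assoc]) }
    have hp : IsPGroup 5 ↥(zpowers x) := IsPGroup.of_card (n := 1) (by rw [card_zp P.hx, pow_one])
    have h := hp.card_modEq_card_fixedPoints S
    have h1 : Nat.card (fixedPoints ↥(zpowers x) S) = 1 := by
      rw [Nat.card_eq_one_iff_unique]
      have huniq : ∀ t : fixedPoints ↥(zpowers x) S, t.1.1 = s := fun t => by
        refine P.uniq _ (Invol.orderOf_eq_two_of_isConj P.hs t.1.2.1) ?_
        have e := congrArg Subtype.val (t.2 ⟨x, mem_zpowers x⟩)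
        change x * t.1.1 * x⁻¹ = t.1.1 at e
        exact (mul_inv_eq_iff_eq_mul.1 e).symm
      refine ⟨⟨fun a b => Subtype.ext (Subtype.ext ((huniq a).trans (huniq b).symm))⟩,
        ⟨⟨⟨s, IsConj.refl s, mem_centralizer_singleton_iff.2 rfl⟩, fun h => Subtype.ext ?_⟩⟩⟩
      obtain ⟨k, hk⟩ := mem_zpowers_iff.1 h.2
      show (h : G) * s * (h : G)⁻¹ = s
      rw [← hk, mul_inv_eq_iff_eq_mul]
      exact (((show Commute s x from P.comm).zpow_right k).eq).symm
    rw [h1, Nat.ModEq] at h
    simpa using h
  have hle : Nat.card S ≤ C.index := by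
    rw [hI]
    exact Nat.card_le_card_of_injective (fun t : S => (⟨t.1, t.2.1⟩ : {t : G // IsConj s t}))
      (fun a b e => Subtype.ext (congrArg Subtype.val e :))
  rw [hfixS] at hmod4
  rw [← hn] at hidx
  have hn216 : n ≤ 216 := Nat.le_of_dvd (by norm_num) hd'
  have hcand : n = 1 ∨ n = 6 ∨ n = 36 ∨ n = 216 := by
    have : n ∈ (Nat.divisors 216).filter (fun n => n % 5 = 1) := by
      simp only [Finset.mem_filter, Nat.mem_divisors]
      exact ⟨⟨hd', by norm_num⟩, hn1⟩
    have e : (Nat.divisors 216).filter (fun n => n % 5 = 1) = {1, 6, 36, 216} := by decide +kernel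
    rw [e] at this
    simpa using this
  rcases hcand with rfl | rfl | rfl | rfl
  · omega
  · exact Or.inl rfl
  · exact Or.inr rfl
  · exfalso
    have hC11 : C.index = 11 := by omega
    rw [hC11] at hle hmod4
    have hS : Nat.card S = 11 := by omega
    -- s centralises its whole class
    have hbij : Function.Surjective (fun t : S => (⟨t.1, t.2.1⟩ : {t : G // IsConj s t})) :=
      ((Nat.bijective_iff_injective_and_card _).2 ⟨fun (a b : S) (e : (⟨a.1, a.2.1⟩ : {t : G // IsConj s t}) = ⟨b.1, b.2.1⟩) =>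
          Subtype.ext (Subtype.mk.inj e), by
        rw [hS, ← hI, hC11]⟩).2
    have hall : Subgroup.normalClosure ({s} : Set G) ≤ C := by
      rw [Subgroup.normalClosure, closure_le]
      intro g hg
      obtain ⟨a, ha, hag⟩ := Group.mem_conjugatesOfSet_iff.1 hg
      rw [Set.mem_singleton_iff.1 ha] at hag
      obtain ⟨t, ht⟩ := hbij ⟨g, hag⟩
      have e : t.1 = g := congrArg Subtype.val ht
      exact e ▸ t.2.2
    rcases (Subgroup.normalClosure_normal (s := ({s} : Set G))).eq_bot_or_eq_top with hb | ht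
    · have hmem := Subgroup.subset_normalClosure (Set.mem_singleton s)
      rw [SetLike.mem_coe, hb, mem_bot] at hmem
      have := P.hs
      rw [hmem, orderOf_one] at this
      omega
    · have hCt : C = ⊤ := top_le_iff.1 (ht ▸ hall)
      rw [hCt, index_top] at hC11
      omega

end CfsgLib.M12Counts
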