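import Cfsg.Agent.Lib.M12Counts.SixModel
import Cfsg.Agent.Lib.Invol.Counting

/-!
The involutions outside a subgroup `M ≅ A₆` of index two with trivial centraliser, when one of them
centralises a Sylow 2-subgroup: at most two classes, each of size fifteen.
-/

set_option autoImplicit false
set_option linter.style.haveILetI false

namespace CfsgLib.M12Counts

open Subgroup Six

variable {L : Type*} [Group L] [Finite L]

/-- The two classes of involutions outside `M`. -/
structure OuterPair (M : Subgroup L) where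
  w₁ : L
  w₂ : L
  index₁ : (centralizer ({w₁} : Set L)).index = 15
  index₂ : (centralizer ({w₂} : Set L)).index = 15
  conj : ∀ v : L, v ∉ M → v * v = 1 → IsConj w₁ v ∨ IsConj w₂ v
  com₁ : ∃ g : L, g * w₁ * g⁻¹ ≠ w₁ ∧ Commute (g * w₁ * g⁻¹) w₁
  com₂ : ∃ g : L, g * w₂ * g⁻¹ ≠ w₂ ∧ Commute (g * w₂ * g⁻¹) w₂

theorem card_eq_two_mul_comap {M : Subgroup L} (hidx : M.index = 2) {ψ : A6 →* L}
    (hψ : Function.Injective ψ) (hr : ψ.range = M) {C : Subgroup L} {w : L} (hw : w ∈ C) (hwM : w ∉ M) :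
    Nat.card C = 2 * Nat.card (C.comap ψ) := by
  haveI : M.Normal := Subgroup.normal_of_index_eq_two hidx
  have h1 : M.relIndex C = 2 := by
    have hd : M.relIndex C ∣ 2 := hidx ▸ Subgroup.relIndex_dvd_index_of_normal M C
    rcases (Nat.dvd_prime Nat.prime_two).1 hd with h | h
    · exact absurd (Subgroup.relIndex_eq_one.1 h hw) hwM
    · exact h
  have h2 : Nat.card (C.comap ψ) = Nat.card ↥(M.subgroupOf C) := by
    rw [Nat.card_congr ((C.comap ψ).equivMapOfInjective ψ hψ).toEquiv, Subgroup.map_comap_eq, hr,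
      ← Subgroup.inf_subgroupOf_right]
    exact (Nat.card_congr (Subgroup.subgroupOfEquivOfLe inf_le_right).toEquiv).symm
  rw [← (M.subgroupOf C).card_mul_index, ← Subgroup.relIndex, h1, h2, mul_comm]

theorem index_centralizer {M : Subgroup L} (hidx : M.index = 2) (hC : centralizer (M : Set L) = ⊥)
    (hcard : Nat.card L = 720) {ψ : A6 →* L}
    (hψ : Function.Injective ψ) (hr : ψ.range = M) {w : L} (hwM : w ∉ M)
    (hcomm : ∀ q : A6, q * mE = mE * q → Commute w (ψ q)) {c : A6} (hc : Commute w (ψ c))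
    (hc3 : orderOf c = 3) : (centralizer ({w} : Set L)).index = 15 := by
  set K := (centralizer ({w} : Set L)).comap ψ with hK
  have hmem : ∀ q : A6, Commute w (ψ q) → q ∈ K := fun q hq =>
    Subgroup.mem_comap.2 (mem_centralizer_singleton_iff.2 hq.eq.symm)
  have h8 : 8 ∣ Nat.card K := card_cent ▸ Subgroup.card_dvd_of_le fun q hq =>
    hmem q (hcomm q (mem_centralizer_singleton_iff.1 hq))
  have h3 : 3 ∣ Nat.card K := hc3 ▸ K.orderOf_dvd_natCard (hmem c hc)
  have h24 : 24 ∣ Nat.card K := Nat.Coprime.mul_dvd_of_dvd_of_dvd (m := 3) (n := 8) (by norm_num) h3 h8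
  have hne : K ≠ ⊤ := fun h => hwM (by
    have : w ∈ centralizer (M : Set L) := by
      rw [mem_centralizer_iff, ← hr]
      rintro _ ⟨q, rfl⟩
      exact mem_centralizer_singleton_iff.1 (Subgroup.mem_comap.1 (h.symm ▸ mem_top q : q ∈ K))
    rw [hC, mem_bot] at this
    exact this ▸ M.one_mem)
  haveI : IsSimpleGroup A6 := alternatingGroup.isSimpleGroup (by simp)
  have h6 := CfsgLib.Recog.ThreeSixty.six_le_index card_A6 K hne
  have h := K.card_mul_index
  rw [card_A6] at h
  obtain ⟨k, hk⟩ := h24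
  rw [hk] at h
  have hk1 : k = 1 := by
    have hkk : k * K.index = 15 := by nlinarith
    have h6' : 6 * k ≤ 15 := by nlinarith
    have : k ≤ 2 := by omega
    interval_cases k <;> omega
  have hW := card_eq_two_mul_comap hidx hψ hr (mem_centralizer_singleton_iff.2 rfl : w ∈ centralizer ({w} : Set L)) hwM
  rw [← hK, hk, hk1] at hW
  have hi := (centralizer ({w} : Set L)).card_mul_index
  rw [hW, hcard] at hi
  omega

/-- An element centralising `ψ` of the generators lies in the centraliser of `M`. -/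
theorem eq_one_of_commute {M : Subgroup L} (hC : centralizer (M : Set L) = ⊥) {ψ : A6 →* L}
    (hr : ψ.range = M) {w : L} (hcomm : ∀ q : A6, q * mE = mE * q → Commute w (ψ q))
    (hc : Commute w (ψ mC)) (hd : Commute w (ψ mD)) : w = 1 := by
  have hmem : ∀ q : A6, Commute w (ψ q) → q ∈ (centralizer ({w} : Set L)).comap ψ := fun q hq =>
    Subgroup.mem_comap.2 (mem_centralizer_singleton_iff.2 hq.eq.symm)
  have ht := Six.eq_top (fun q hq => hmem q (hcomm q hq)) (hmem _ hc) (hmem _ hd)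
  have : w ∈ centralizer (M : Set L) := by
    rw [mem_centralizer_iff, ← hr]
    rintro _ ⟨q, rfl⟩
    exact mem_centralizer_singleton_iff.1 (Subgroup.mem_comap.1 (ht.symm ▸ mem_top q : q ∈ _))
  rwa [hC, mem_bot] at this

theorem exists_embedding {M : Subgroup L} (hidx : M.index = 2) (e : A6 ≃* ↥M) {u : L}
    (hu : u ∉ M) (h16 : 16 ∣ Nat.card (centralizer ({u} : Set L))) :
    ∃ ψ : A6 →* L, Function.Injective ψ ∧ ψ.range = M ∧ ∀ q : A6, q * mE = mE * q → Commute u (ψ q) := by
  haveI : Fact (Nat.Prime 2) := ⟨Nat.prime_two⟩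
  set φ : A6 →* L := M.subtype.comp e.toMonoidHom with hφ
  have hφi : Function.Injective φ := M.subtype_injective.comp e.injective
  have hφr : φ.range = M := by
    rw [hφ, MonoidHom.range_comp, MonoidHom.range_eq_top.2 e.surjective, ← MonoidHom.range_eq_map,
      Subgroup.range_subtype]
  set K := (centralizer ({u} : Set L)).comap φ with hK
  have hW := card_eq_two_mul_comap hidx hφi hφr (mem_centralizer_singleton_iff.2 rfl : u ∈ centralizer ({u} : Set L)) hu
  have h8 : 2 ^ 3 ∣ Nat.card K := by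
    rw [← hK] at hW
    obtain ⟨k, hk⟩ := h16
    exact ⟨k, by omega⟩
  obtain ⟨R, hR⟩ := Sylow.exists_subgroup_card_pow_prime 2 h8
  set R' := R.map K.subtype with hR'
  have hRc : Nat.card R' = 8 := by
    rw [hR', Nat.card_congr (R.equivMapOfInjective K.subtype K.subtype_injective).symm.toEquiv, hR]
    norm_num
  have hfac : (Nat.card A6).factorization 2 = 3 := by
    rw [card_A6, show (360 : ℕ) = 2 ^ 3 * 45 by norm_num, Nat.factorization_mul (by norm_num) (by norm_num),
      Finsupp.add_apply, Nat.factorization_pow, Finsupp.smul_apply,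
      Nat.Prime.factorization_self Nat.prime_two, Nat.factorization_eq_zero_of_not_dvd (by norm_num)]
    norm_num
  let S : Sylow 2 A6 := Sylow.ofCard (centralizer ({mE} : Set A6)) (by rw [card_cent, hfac]; norm_num)
  let T : Sylow 2 A6 := Sylow.ofCard R' (by rw [hRc, hfac]; norm_num)
  obtain ⟨g, hg⟩ := MulAction.exists_smul_eq A6 S T
  refine ⟨φ.comp (MulAut.conj g).toMonoidHom, hφi.comp (MulAut.conj g).injective, ?_, fun q hq => ?_⟩
  · rw [MonoidHom.range_comp, MonoidHom.range_eq_top.2 (MulAut.conj g).surjective, ← MonoidHom.range_eq_map,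
      hφr]
  · have hmap : (centralizer ({mE} : Set A6)).map (MulAut.conj g).toMonoidHom = R' := by
      have := congrArg (fun P : Sylow 2 A6 => (P : Subgroup A6)) hg
      exact this
    have hq' : MulAut.conj g q ∈ R' := hmap ▸ Subgroup.mem_map_of_mem _ (mem_centralizer_singleton_iff.2 hq)
    have := Subgroup.mem_comap.1 (Subgroup.map_subtype_le R hq')
    exact (mem_centralizer_singleton_iff.1 this).symm

theorem exists_outerPair {M : Subgroup L} (hidx : M.index = 2) (e : A6 ≃* ↥M)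
    (hC : centralizer (M : Set L) = ⊥) (hcard : Nat.card L = 720) {u : L} (hu : u ∉ M) (hu2 : u * u = 1)
    (h16 : 16 ∣ Nat.card (centralizer ({u} : Set L))) : Nonempty (OuterPair M) := by
  haveI : Fact (Nat.Prime 2) := ⟨Nat.prime_two⟩
  haveI : M.Normal := Subgroup.normal_of_index_eq_two hidx
  obtain ⟨ψ, hψ, hr, hu1⟩ := exists_embedding hidx e hu h16
  obtain ⟨bE2, bE, bAE, bBE, bA2, bB2, bA, bB, bAne, bBne, bC, bC3, bD3, bBC, bAD⟩ := Six.basic
  have hmemM : ∀ q, ψ q ∈ M := fun q => hr ▸ ⟨q, rfl⟩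
  have hEE : Commute u (ψ mE) := hu1 _ rfl
  -- the images of the two elements of order three
  have himg : ∀ (c A B : A6), A * mE = mE * A → B * mE = mE * B →
      (c * mE * c⁻¹) * mE = mE * (c * mE * c⁻¹) → (c * A * c⁻¹) * mE = mE * (c * A * c⁻¹) →
      B * c * B = c⁻¹ →
      (∀ y : A6, y * mE * y⁻¹ = c * mE * c⁻¹ → y * A * y⁻¹ = c * A * c⁻¹ → B * y * B = y⁻¹ →
        y = c ∨ y = mE * c * mE) →
      Commute u (ψ c) ∨ Commute (u * ψ mE) (ψ c) := by
    intro c A B hA hB h1 h2 h3 himage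
    obtain ⟨y, hy⟩ : u * ψ c * u⁻¹ ∈ ψ.range := hr ▸ (inferInstance : M.Normal).conj_mem _ (hmemM c) u
    have hfix : ∀ q, q * mE = mE * q → u * ψ q * u⁻¹ = ψ q := fun q hq => by
      rw [(hu1 q hq).eq, mul_inv_cancel_right]
    have e1 : ∀ a, a * mE = mE * a → (c * a * c⁻¹) * mE = mE * (c * a * c⁻¹) → y * a * y⁻¹ = c * a * c⁻¹ := by
      intro a ha hca
      apply hψ
      conv_rhs => rw [← hfix _ hca]
      rw [map_mul, map_mul, map_inv, hy, map_mul, map_mul, map_inv]
      conv_lhs => rw [← hfix a ha]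
      group
    have e2 : B * y * B = y⁻¹ := by
      apply hψ
      rw [map_mul, map_mul, map_inv, hy, ← hfix B hB]
      have := congrArg (fun q => u * ψ q * u⁻¹) h3
      simp only [map_mul, map_inv] at this
      calc u * ψ B * u⁻¹ * (u * ψ c * u⁻¹) * (u * ψ B * u⁻¹) = u * (ψ B * ψ c * ψ B) * u⁻¹ := by group
        _ = u * (ψ c)⁻¹ * u⁻¹ := this
        _ = (u * ψ c * u⁻¹)⁻¹ := by group
    rcases himage y (e1 mE rfl h1) (e1 A hA h2) e2 with rfl | rfl
    · exact Or.inl (by rw [commute_iff_eq, ← mul_inv_eq_iff_eq_mul, ← hy])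
    · refine Or.inr ?_
      have hi : (ψ mE)⁻¹ = ψ mE := inv_eq_of_mul_eq_one_right (by rw [← map_mul, bE2, map_one])
      rw [commute_iff_eq, ← mul_inv_eq_iff_eq_mul]
      have hee : ψ mE * ψ mE = 1 := by rw [← map_mul, bE2, map_one]
      calc u * ψ mE * ψ c * (u * ψ mE)⁻¹ = (u * ψ mE * u⁻¹) * (u * ψ c * u⁻¹) * (u * (ψ mE)⁻¹ * u⁻¹) := by group
        _ = ψ mE * ψ (mE * c * mE) * ψ mE := by rw [hfix mE rfl, ← hy, hi, hfix mE rfl]
        _ = ψ mE * ψ mE * ψ c * (ψ mE * ψ mE) := by rw [map_mul, map_mul]; group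
        _ = ψ c := by rw [hee, one_mul, mul_one]
  have hC' := himg mC mA mB bAE bBE conj_mem_cent.1 conj_mem_cent.2.1 bBC image_first
  have hD' := himg mD mB mA bBE bAE conj_mem_cent.2.2.1 conj_mem_cent.2.2.2 bAD image_second
  have hcomm' : ∀ q : A6, q * mE = mE * q → Commute (u * ψ mE) (ψ q) := fun q hq =>
    Commute.mul_left (hu1 q hq) (Commute.map (show Commute mE q from hq.symm) ψ)
  have hu' : u * ψ mE ∉ M := fun h => hu (by simpa using M.mul_mem h (M.inv_mem (hmemM mE)))
  have hu'2 : (u * ψ mE) * (u * ψ mE) = 1 := by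
    rw [hEE.symm.mul_mul_mul_comm, hu2, ← map_mul, bE2, map_one, one_mul]
  -- normalise
  obtain ⟨w, hwM, hw2, hwc, hwC, hwD⟩ : ∃ w, w ∉ M ∧ w * w = 1 ∧ (∀ q, q * mE = mE * q → Commute w (ψ q)) ∧
      Commute w (ψ mC) ∧ Commute (w * ψ mE) (ψ mD) := by
    rcases hC' with h | h <;> rcases hD' with h' | h'
    · exact absurd (eq_one_of_commute hC hr hu1 h h') (fun hh => hu (hh ▸ M.one_mem))
    · exact ⟨u, hu, hu2, hu1, h, h'⟩
    · refine ⟨u * ψ mE, hu', hu'2, hcomm', h, ?_⟩
      rwa [mul_assoc, ← map_mul, bE2, map_one, mul_one]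
    · exact absurd (eq_one_of_commute hC hr hcomm' h h') (fun hh => hu' (hh ▸ M.one_mem))
  have hwE : Commute w (ψ mE) := hwc _ rfl
  have hee : ψ mE * ψ mE = 1 := by rw [← map_mul, bE2, map_one]
  set v := w * ψ mE with hv
  have hvM : v ∉ M := fun h => hwM (by simpa [hv] using M.mul_mem h (M.inv_mem (hmemM mE)))
  have hvc : ∀ q, q * mE = mE * q → Commute v (ψ q) := fun q hq =>
    Commute.mul_left (hwc q hq) (Commute.map (show Commute mE q from hq.symm) ψ)
  have hve : v * ψ mE = w := by rw [hv, mul_assoc, hee, mul_one]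
  have ordC : orderOf mC = 3 := orderOf_eq_prime (by rw [pow_three, ← mul_assoc]; exact bC3) bC
  have ordD : orderOf mD = 3 := orderOf_eq_prime (by rw [pow_three, ← mul_assoc]; exact bD3) (by decide +kernel)
  -- conjugation by the elements of order three
  have kC : ∀ c, c = mC ∨ c = mC⁻¹ → ψ c * v * (ψ c)⁻¹ = w * ψ (c * mE * c⁻¹) := by
    intro c hc
    have hwcc : Commute w (ψ c) := by
      rcases hc with rfl | rfl
      · exact hwC
      · rw [map_inv]; exact hwC.inv_right
    rw [hv, map_mul, map_mul, map_inv, ← mul_assoc (ψ c), ← hwcc.eq]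
    group
  have kD : ∀ c, c = mD ∨ c = mD⁻¹ → ψ c * w * (ψ c)⁻¹ = v * ψ (c * mE * c⁻¹) := by
    intro c hc
    have hvcc : Commute v (ψ c) := by
      rcases hc with rfl | rfl
      · exact hwD
      · rw [map_inv]; exact hwD.inv_right
    rw [← hve, map_mul, map_mul, map_inv, ← mul_assoc (ψ c), ← hvcc.eq]
    group
  refine ⟨{ w₁ := w
            w₂ := v
            index₁ := index_centralizer hidx hC hcard hψ hr hwM hwc hwC ordC
            index₂ := index_centralizer hidx hC hcard hψ hr hvM hvc hwD ordD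
            conj := ?_
            com₁ := ?_
            com₂ := ?_ }⟩
  · intro x hx hx2
    let S₀ : Subgroup L := (centralizer ({mE} : Set A6)).map ψ ⊔ zpowers w
    have hS0 : IsPGroup 2 ↥S₀ := by
      refine IsPGroup.to_sup_of_normal_right' (IsPGroup.map (IsPGroup.of_card (n := 3) card_cent) ψ)
        (IsPGroup.of_card (n := 1) ?_) ?_
      · rw [Nat.card_zpowers, pow_one]
        exact orderOf_eq_prime (by rw [pow_two, hw2]) (fun h => hwM (h ▸ M.one_mem))
      · rintro _ ⟨q, hq, rfl⟩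
        refine Subgroup.centralizer_le_normalizer (zpowers w : Set L) (mem_centralizer_iff.2 fun z hz => ?_)
        obtain ⟨n, rfl⟩ := mem_zpowers_iff.1 hz
        exact ((hwc q (mem_centralizer_singleton_iff.1 hq)).zpow_left n).eq
    obtain ⟨P, hP⟩ := hS0.exists_le_sylow
    have hx2' : IsPGroup 2 ↥(zpowers x) := IsPGroup.of_card (n := 1) (by
      rw [Nat.card_zpowers, pow_one]
      exact orderOf_eq_prime (by rw [pow_two, hx2]) (fun h => hx (h ▸ M.one_mem)))
    obtain ⟨Q, hQ⟩ := hx2'.exists_le_sylow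
    obtain ⟨g, hg⟩ := MulAction.exists_smul_eq L Q P
    have hxP : g * x * g⁻¹ ∈ (P : Subgroup L) := by
      rw [← hg]
      exact ⟨x, hQ (mem_zpowers x), rfl⟩
    have hwP : w ∈ (P : Subgroup L) := hP (le_sup_right (a := (centralizer ({mE} : Set A6)).map ψ) (mem_zpowers w))
    have hPK : (P : Subgroup L).comap ψ = centralizer ({mE} : Set A6) := by
      refine (Subgroup.eq_of_le_of_card_ge (fun q hq => Subgroup.mem_comap.2
        (hP (le_sup_left (b := zpowers w) (Subgroup.mem_map_of_mem ψ hq)))) ?_).symm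
      have hp : IsPGroup 2 ↥((P : Subgroup L).comap ψ) := P.2.comap_of_injective ψ hψ
      obtain ⟨n, hn⟩ := hp.exists_card_eq
      have hd := ((P : Subgroup L).comap ψ).card_subgroup_dvd_card
      rw [hn, card_A6] at hd
      have : n ≤ 3 := by
        by_contra hgt
        exact absurd ((Nat.pow_dvd_pow 2 (show 4 ≤ n by omega)).trans hd) (by norm_num)
      rw [hn, card_cent, show (8 : ℕ) = 2 ^ 3 by norm_num]
      exact Nat.pow_le_pow_right (by norm_num) this
    have hxM : g * x * g⁻¹ ∉ M := fun h => hx (by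
      have := (inferInstance : M.Normal).conj_mem _ h g⁻¹
      simpa [mul_assoc] using this)
    have hmm : w * (g * x * g⁻¹) ∈ M :=
      (Subgroup.mul_mem_iff_of_index_two hidx).2 (iff_of_false hwM hxM)
    obtain ⟨q, hq⟩ : w * (g * x * g⁻¹) ∈ ψ.range := hr ▸ hmm
    have hqE : q * mE = mE * q := by
      have : q ∈ (P : Subgroup L).comap ψ := Subgroup.mem_comap.2 (hq ▸ mul_mem hwP hxP)
      rw [hPK] at this
      exact mem_centralizer_singleton_iff.1 this
    have hxq : g * x * g⁻¹ = w * ψ q := by rw [hq, ← mul_assoc, hw2, one_mul]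
    have hq2 : q * q = 1 := by
      refine hψ ?_
      have h : (g * x * g⁻¹) * (g * x * g⁻¹) = 1 := by
        rw [show (g * x * g⁻¹) * (g * x * g⁻¹) = g * (x * x) * g⁻¹ by group, hx2]; group
      rw [hxq, (hwc q hqE).symm.mul_mul_mul_comm, hw2, one_mul] at h
      rw [map_mul, h, map_one]
    have hcx : IsConj (g * x * g⁻¹) x := (isConj_iff.2 ⟨g, rfl⟩ : IsConj x (g * x * g⁻¹)).symm
    rcases Six.cent_invol q hqE hq2 with rfl | rfl | h | h
    · left
      rwa [hxq, map_one, mul_one] at hcx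
    · right
      rw [hxq] at hcx
      exact hcx
    · right
      refine (isConj_iff.2 ?_).trans hcx
      rcases h with rfl | rfl
      · exact ⟨ψ mC, by rw [hxq, kC _ (Or.inl rfl)]⟩
      · exact ⟨ψ mC⁻¹, by rw [hxq, kC _ (Or.inr rfl), inv_inv]⟩
    · left
      refine (isConj_iff.2 ?_).trans hcx
      have hq' : w * ψ q = v * ψ (mE * q) := by rw [map_mul, ← mul_assoc, hve]
      rcases h with h | h
      · exact ⟨ψ mD, by rw [hxq, hq', kD _ (Or.inl rfl), h]⟩
      · exact ⟨ψ mD⁻¹, by rw [hxq, hq', kD _ (Or.inr rfl), inv_inv, h]⟩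
  · have hB : Commute w (ψ mB) := hwc _ bBE
    have key : ∀ c, c = mD ∨ c = mD⁻¹ → c * mE * c⁻¹ = mE * mB →
        ∃ g : L, g * w * g⁻¹ ≠ w ∧ Commute (g * w * g⁻¹) w := fun c hc h => by
      refine ⟨ψ c, ?_, ?_⟩ <;> rw [kD c hc, h, map_mul, ← mul_assoc, hve]
      · intro h1
        exact bB (hψ (by rw [map_one]; exact mul_eq_left.1 h1))
      · exact Commute.mul_left (Commute.refl w) hB.symm
    rcases Six.witness.1 with h | h
    · exact key _ (Or.inl rfl) h
    · exact key _ (Or.inr rfl) (by rw [inv_inv]; exact h)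
  · have hA : Commute v (ψ mA) := hvc _ bAE
    have key : ∀ c, c = mC ∨ c = mC⁻¹ → c * mE * c⁻¹ = mE * mA →
        ∃ g : L, g * v * g⁻¹ ≠ v ∧ Commute (g * v * g⁻¹) v := fun c hc h => by
      refine ⟨ψ c, ?_, ?_⟩ <;> rw [kC c hc, h, map_mul, ← mul_assoc, ← hv]
      · intro h1
        exact bA (hψ (by rw [map_one]; exact mul_eq_left.1 h1))
      · exact Commute.mul_left (Commute.refl v) hA.symm
    rcases Six.witness.2 with h | h
    · exact key _ (Or.inl rfl) h
    · exact key _ (Or.inr rfl) (by rw [inv_inv]; exact h)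

/-- A conjugation invariant nonempty set of involutions outside `M` has size 15 or 30. -/
theorem OuterPair.card_union {M : Subgroup L} (p : OuterPair M) (S : Set L)
    (hS : ∀ v ∈ S, v ∉ M ∧ v * v = 1) (hinv : ∀ (g : L), ∀ v ∈ S, g * v * g⁻¹ ∈ S) (hne : S.Nonempty) :
    Nat.card S = 15 ∨ Nat.card S = 30 := by
  classical
  have hcl : ∀ a b, IsConj a b → a ∈ S → b ∈ S := fun a b h ha => by
    obtain ⟨g, rfl⟩ := isConj_iff.1 h
    exact hinv g a ha
  have hone : ∀ a ∈ S, (∀ b ∈ S, IsConj a b) → Nat.card S = (centralizer ({a} : Set L)).index := fun a ha h => by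
    rw [← CfsgLib.Invol.card_isConj_eq_index]
    exact Nat.card_congr (Equiv.subtypeEquivRight fun b => ⟨h b, fun hb => hcl a b hb ha⟩)
  obtain ⟨a, ha⟩ := hne
  by_cases h1 : p.w₁ ∈ S
  · by_cases h2 : p.w₂ ∈ S
    · by_cases h12 : IsConj p.w₁ p.w₂
      · left
        rw [hone _ h1 fun b hb => (p.conj b (hS b hb).1 (hS b hb).2).elim id h12.trans, p.index₁]
      · right
        have hdis : Disjoint {b | IsConj p.w₁ b} {b | IsConj p.w₂ b} :=
          Set.disjoint_left.2 fun b hb hb' => h12 (hb.trans hb'.symm)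
        have hu : S = {b | IsConj p.w₁ b} ∪ {b | IsConj p.w₂ b} := Set.ext fun b =>
          ⟨fun hb => p.conj b (hS b hb).1 (hS b hb).2, fun hb => hb.elim (hcl _ _ · h1) (hcl _ _ · h2)⟩
        rw [hu, Nat.card_coe_set_eq, Set.ncard_union_eq hdis, ← Nat.card_coe_set_eq, ← Nat.card_coe_set_eq]
        show Nat.card {b // IsConj p.w₁ b} + Nat.card {b // IsConj p.w₂ b} = 30
        rw [CfsgLib.Invol.card_isConj_eq_index, CfsgLib.Invol.card_isConj_eq_index, p.index₁, p.index₂]
    · left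
      rw [hone _ h1 fun b hb => (p.conj b (hS b hb).1 (hS b hb).2).resolve_right
        (fun h => h2 (hcl _ _ h.symm hb)), p.index₁]
  · left
    have hw₂ : ∀ b ∈ S, IsConj p.w₂ b := fun b hb => (p.conj b (hS b hb).1 (hS b hb).2).resolve_left
      (fun h => h1 (hcl _ _ h.symm hb))
    rw [hone _ (hcl _ _ (hw₂ a ha).symm ha) hw₂, p.index₂]

/-- Every involution outside `M` commutes with a different conjugate. -/
theorem OuterPair.exists_commuting {M : Subgroup L} (p : OuterPair M) {v : L} (hv : v ∉ M) (hv2 : v * v = 1) :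
    ∃ g : L, g * v * g⁻¹ ≠ v ∧ Commute (g * v * g⁻¹) v := by
  have key : ∀ w g h : L, g * w * g⁻¹ ≠ w → Commute (g * w * g⁻¹) w → h * w * h⁻¹ = v →
      ∃ k : L, k * v * k⁻¹ ≠ v ∧ Commute (k * v * k⁻¹) v := by
    intro w g h hne hc hh
    subst hh
    have e : h * g * h⁻¹ * (h * w * h⁻¹) * (h * g * h⁻¹)⁻¹ = h * (g * w * g⁻¹) * h⁻¹ := by group
    refine ⟨h * g * h⁻¹, ?_, ?_⟩ <;> rw [e]
    · exact fun h' => hne (mul_left_cancel (mul_right_cancel h'))
    · exact hc.map (MulAut.conj h).toMonoidHom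
  rcases p.conj v hv hv2 with h | h <;> obtain ⟨k, hk⟩ := isConj_iff.1 h
  · obtain ⟨g, hg, hc⟩ := p.com₁
    exact key _ g k hg hc hk
  · obtain ⟨g, hg, hc⟩ := p.com₂
    exact key _ g k hg hc hk

end CfsgLib.M12Counts
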