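import Cfsg.Agent.Lib.M12Counts.OrderSevenTwenty
import Cfsg.Agent.Lib.M12Counts.OuterClasses

/-!
A simple group of order 95040 has no involution with centraliser of order 1440 centralising an element of
order five whose normaliser has order 40: the rank three configuration on 66 points is impossible.
-/

set_option autoImplicit false
set_option linter.style.haveILetI false

namespace CfsgLib.M12Counts

open Subgroup

variable {G : Type*} [Group G] [Finite G]

theorem factorization_two (k m : ℕ) (hm : ¬ 2 ∣ m) : (2 ^ k * m).factorization 2 = k := by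
  rw [Nat.factorization_mul (by positivity) (fun h => hm (by rw [h]; exact dvd_zero 2)), Finsupp.add_apply,
    Nat.factorization_pow, Finsupp.smul_apply, Nat.Prime.factorization_self Nat.prime_two,
    Nat.factorization_eq_zero_of_not_dvd hm]
  simp

/-- No involution of the class inverts an element of order five. -/
theorem not_inverts (hcard : Nat.card G = 95040) (x s : G) (hx : orderOf x = 5)
    (hCx : Nat.card ↥(centralizer ({x} : Set G)) = 10)
    (hCs : Nat.card ↥(centralizer ({s} : Set G)) = 1440) (u y : G) (hu : IsConj s u) (hu2 : u * u = 1)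
    (hy : orderOf y = 5) (huy : u * y * u = y⁻¹) : False := by
  haveI : Fact (Nat.Prime 5) := ⟨by norm_num⟩
  have hX : Nat.card {v : G // IsConj s v} = 66 := by
    rw [CfsgLib.Invol.card_isConj_eq_index]
    have := (centralizer ({s} : Set G)).card_mul_index
    rw [hCs, hcard] at this
    omega
  have h5 : y ^ 5 = 1 := hy ▸ pow_orderOf_eq_one y
  have huinv : u⁻¹ = u := inv_eq_of_mul_eq_one_right hu2
  have hconj : ∀ n : ℕ, u * y ^ n * u⁻¹ = (y ^ n)⁻¹ := fun n => by
    rw [← conj_pow, huinv, huy, inv_pow]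
  have huyX : IsConj s (u * y) := by
    refine hu.trans (isConj_iff.2 ⟨(y ^ 3)⁻¹, ?_⟩)
    rw [inv_inv]
    calc (y ^ 3)⁻¹ * u * y ^ 3 = u * y ^ 3 * u⁻¹ * u * y ^ 3 := by rw [hconj 3]
      _ = u * y ^ (5 + 1) := by group
      _ = u * y := by rw [pow_succ, h5, one_mul]
  let f : G → {v : G // IsConj s v} × {v : G // IsConj s v} := fun g =>
    (⟨g * u * g⁻¹, hu.trans (isConj_iff.2 ⟨g, rfl⟩)⟩, ⟨g * (u * y) * g⁻¹, huyX.trans (isConj_iff.2 ⟨g, rfl⟩)⟩)
  have hfib : ∀ g g', f g = f g' → g⁻¹ * g' ∈ centralizer ({y} : Set G) := by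
    intro g g' h
    simp only [f, Prod.mk.injEq, Subtype.mk.injEq] at h
    have e : g * y * g⁻¹ = g' * y * g'⁻¹ := by
      calc g * y * g⁻¹ = (g * u * g⁻¹)⁻¹ * (g * (u * y) * g⁻¹) := by group
        _ = (g' * u * g'⁻¹)⁻¹ * (g' * (u * y) * g'⁻¹) := by rw [h.1, h.2]
        _ = g' * y * g'⁻¹ := by group
    rw [mem_centralizer_singleton_iff]
    calc g⁻¹ * g' * y = g⁻¹ * (g' * y * g'⁻¹) * g' := by group
      _ = g⁻¹ * (g * y * g⁻¹) * g' := by rw [e]
      _ = y * (g⁻¹ * g') := by group
  have hCy : Nat.card ↥(centralizer ({y} : Set G)) ≤ 10 := by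
    have hf : (Nat.card G).factorization 5 = 1 := by
      rw [hcard, show (95040 : ℕ) = 5 * 19008 by norm_num, Nat.factorization_mul (by norm_num) (by norm_num),
        Finsupp.add_apply, Nat.Prime.factorization_self (by norm_num),
        Nat.factorization_eq_zero_of_not_dvd (by norm_num)]
    let S : Sylow 5 G := Sylow.ofCard (zpowers x) (by rw [Nat.card_zpowers, hx, hf, pow_one])
    let T : Sylow 5 G := Sylow.ofCard (zpowers y) (by rw [Nat.card_zpowers, hy, hf, pow_one])
    obtain ⟨g, hg⟩ := MulAction.exists_smul_eq G T S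
    have hmap : (zpowers y).map (MulAut.conj g).toMonoidHom = zpowers x := by
      have := congrArg (fun P : Sylow 5 G => (P : Subgroup G)) hg
      exact this
    have hle : (centralizer ({y} : Set G)).map (MulAut.conj g).toMonoidHom ≤ centralizer ({x} : Set G) := by
      rintro _ ⟨c, hc, rfl⟩
      rw [mem_centralizer_singleton_iff]
      obtain ⟨z, hz, hzx⟩ : ∃ z ∈ zpowers y, MulAut.conj g z = x := by
        have := hmap.symm ▸ mem_zpowers x
        exact this
      obtain ⟨n, rfl⟩ := mem_zpowers_iff.1 hz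
      have hcy : Commute c y := mem_centralizer_singleton_iff.1 hc
      rw [← hzx]
      exact ((hcy.zpow_right n).map (MulAut.conj g).toMonoidHom).eq
    have := Subgroup.card_le_of_le hle
    rw [← Nat.card_congr ((centralizer ({y} : Set G)).equivMapOfInjective _ (MulAut.conj g).injective).toEquiv,
      hCx] at this
    exact this
  classical
  letI := Fintype.ofFinite G
  have hbound : Nat.card G ≤ 10 * Nat.card ({v : G // IsConj s v} × {v : G // IsConj s v}) := by
    rw [Nat.card_eq_fintype_card, Nat.card_eq_fintype_card, mul_comm]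
    refine le_trans ?_ (Nat.mul_le_mul_left _ le_rfl)
    rw [← Finset.card_univ, ← Finset.card_univ (α := {v : G // IsConj s v} × {v : G // IsConj s v}),
      mul_comm]
    refine Finset.card_le_mul_card_image_of_maps_to (f := f) (fun _ _ => Finset.mem_univ _) 10 fun b _ => ?_
    rcases (Finset.univ.filter fun a => f a = b).eq_empty_or_nonempty with h0 | ⟨g, hg⟩
    · rw [h0]; simp
    · rw [Finset.mem_filter] at hg
      refine le_trans ?_ hCy
      rw [Nat.card_eq_fintype_card, ← Finset.card_univ]
      refine Finset.card_le_card_of_injOn (fun a => if h : f g = f a then ⟨g⁻¹ * a, hfib g a h⟩ else 1)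
        (fun _ _ => Finset.mem_univ _) ?_
      intro a ha a' ha' e
      simp only [Finset.coe_filter, Finset.mem_univ, true_and, Set.mem_ofPred_eq] at ha ha'
      simp only [dif_pos (hg.2.trans ha.symm), dif_pos (hg.2.trans ha'.symm), Subtype.mk.injEq,
        mul_right_inj] at e
      exact e
  rw [hcard, Nat.card_prod, hX] at hbound
  omega

theorem false_of_card_1440 [IsSimpleGroup G] (hcard : Nat.card G = 95040)
    (_hinv : Nat.card {g : G // orderOf g = 2} = 891) (_hfive : Nat.card {g : G // orderOf g = 5} = 9504)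
    (x s : G) (hx : orderOf x = 5) (hCx : Nat.card ↥(Subgroup.centralizer ({x} : Set G)) = 10)
    (hNx : Nat.card ↥(Subgroup.normalizer ((Subgroup.zpowers x : Subgroup G) : Set G)) = 40)
    (hs : orderOf s = 2) (hsx : s * x = x * s)
    (hCs : Nat.card ↥(Subgroup.centralizer ({s} : Set G)) = 1440) : False := by
  classical
  haveI : Fact (Nat.Prime 2) := ⟨Nat.prime_two⟩
  haveI : Fact (Nat.Prime 5) := ⟨by norm_num⟩
  have hs2 : s * s = 1 := by rw [← pow_two, ← hs, pow_orderOf_eq_one]
  have hs1 : s ≠ 1 := fun h => by rw [h, orderOf_one] at hs; omega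
  have h2 : ∀ u, IsConj s u → u * u = 1 := fun u hu => by
    obtain ⟨g, rfl⟩ := isConj_iff.1 hu
    rw [show g * s * g⁻¹ * (g * s * g⁻¹) = g * (s * s) * g⁻¹ by group, hs2, mul_one, mul_inv_cancel]
  set C : Subgroup G := centralizer ({s} : Set G) with hC
  have hcomm : ∀ c : ↥C, (c : G) * s = s * c := fun c => mem_centralizer_singleton_iff.1 c.2
  set σ : ↥C := ⟨s, mem_centralizer_singleton_iff.2 rfl⟩ with hσ
  have hσo : orderOf σ = 2 := by rw [hσ, Subgroup.orderOf_mk, hs]
  have hσc : ∀ c : ↥C, c * σ = σ * c := fun c => Subtype.ext (hcomm c)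
  set K := zpowers σ with hK
  have hKmem : ∀ k ∈ K, k = 1 ∨ k = σ := by
    intro k hk
    obtain ⟨n, rfl⟩ := mem_zpowers_iff.1 hk
    rw [← zpow_mod_orderOf, hσo]
    rcases Int.emod_two_eq_zero_or_one n with h | h <;> simp [h]
  haveI : K.Normal := ⟨fun k hk c => by
    rcases hKmem k hk with rfl | rfl
    · simp
    · rw [hσc, mul_inv_cancel_right]; exact mem_zpowers σ⟩
  set π := QuotientGroup.mk' K with hπ
  have hπs : Function.Surjective π := QuotientGroup.mk'_surjective K
  have hker : ∀ a b : ↥C, π a = π b → b = a ∨ b = a * σ := by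
    intro a b h
    rcases hKmem _ (QuotientGroup.eq.1 h) with h' | h'
    · exact Or.inl (inv_mul_eq_one.1 h').symm
    · exact Or.inr (inv_mul_eq_iff_eq_mul.1 h')
  have hLcard : Nat.card (↥C ⧸ K) = 720 := by
    have := K.card_eq_card_quotient_mul_card_subgroup
    rw [Nat.card_zpowers, hσo, hCs] at this
    omega
  have hcomap : ∀ B : Subgroup (↥C ⧸ K), Nat.card (B.comap π) = 2 * Nat.card B := by
    intro B
    have h1 := (B.comap π).card_mul_index
    have h3 := B.card_mul_index
    rw [Subgroup.index_comap_of_surjective _ hπs, hCs] at h1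
    rw [hLcard] at h3
    have : 0 < B.index := Nat.pos_of_ne_zero B.index_ne_zero_of_finite
    nlinarith
  -- the element of order five
  have hxC : x ∈ C := mem_centralizer_singleton_iff.2 hsx.symm
  set X : ↥C := ⟨x, hxC⟩ with hX
  have hXo : orderOf X = 5 := by rw [hX, Subgroup.orderOf_mk, hx]
  have hπX : orderOf (π X) = 5 := by
    rcases (Nat.dvd_prime (by norm_num : Nat.Prime 5)).1 (hXo ▸ orderOf_map_dvd π X) with h | h
    · exfalso
      rcases hKmem X ((QuotientGroup.eq_one_iff X).1 (orderOf_eq_one_iff.1 h)) with h' | h' <;>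
        rw [h'] at hXo <;> simp [hσo] at hXo
    · exact h
  have hxs : Commute x s := hsx.symm
  have hxso : orderOf (x * s) = 10 := by rw [hxs.orderOf_mul_eq_mul_orderOf_of_coprime (by rw [hx, hs]; norm_num), hx, hs]
  have hCxz : centralizer ({x} : Set G) = zpowers (x * s) := by
    refine (Subgroup.eq_of_le_of_card_ge (zpowers_le.2 (mem_centralizer_singleton_iff.2 ?_)) ?_).symm
    · rw [mul_assoc, hsx, ← mul_assoc]
    · rw [hCx, Nat.card_zpowers, hxso]
  have hCxC : centralizer ({x} : Set G) ≤ C := by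
    rw [hCxz, zpowers_le]
    exact mem_centralizer_singleton_iff.2 (by rw [← mul_assoc s, hsx])
  have hNxC : Subgroup.normalizer ((zpowers x : Subgroup G) : Set G) ≤ C := by
    intro g hg
    have hgs : g * s * g⁻¹ ∈ centralizer ({x} : Set G) := by
      have hx' : g⁻¹ * x * g ∈ zpowers x := by
        have := (Subgroup.mem_normalizer_iff.1 (inv_mem hg) x).1 (mem_zpowers x)
        simpa using this
      obtain ⟨n, hn⟩ := mem_zpowers_iff.1 hx'
      rw [mem_centralizer_singleton_iff]
      calc g * s * g⁻¹ * x = g * (s * (g⁻¹ * x * g)) * g⁻¹ := by group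
        _ = g * ((g⁻¹ * x * g) * s) * g⁻¹ := by rw [← hn, ((show Commute s x from hsx).zpow_right n).eq]
        _ = x * (g * s * g⁻¹) := by group
    rw [hCxz] at hgs
    obtain ⟨n, hn⟩ := mem_zpowers_iff.1 hgs
    rw [hxs.mul_zpow] at hn
    have hsn : s ^ n = 1 ∨ s ^ n = s := by
      rw [← zpow_mod_orderOf, hs]
      rcases Int.emod_two_eq_zero_or_one n with h | h <;> simp [h]
    have hx2 : (x ^ n) ^ 2 = 1 := by
      have h : (x ^ n * s ^ n) ^ 2 = 1 := by rw [hn, pow_two, h2 _ (isConj_iff.2 ⟨g, rfl⟩)]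
      rw [(hxs.zpow_zpow n n).mul_pow] at h
      rcases hsn with e | e <;> rw [e] at h <;> simpa [pow_two, hs2] using h
    have hxn : x ^ n = 1 := by
      rw [← orderOf_eq_one_iff]
      exact Nat.eq_one_of_dvd_coprimes (show Nat.Coprime 2 5 by norm_num) (orderOf_dvd_of_pow_eq_one hx2)
        (hx ▸ orderOf_dvd_of_mem_zpowers (mem_zpowers_iff.2 ⟨n, rfl⟩))
    rw [hxn, one_mul] at hn
    rcases hsn with e | e <;> rw [e] at hn
    · exfalso
      refine hs1 ?_
      calc s = g⁻¹ * (g * s * g⁻¹) * g := by group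
        _ = 1 := by rw [← hn]; group
    · exact mem_centralizer_singleton_iff.2 (mul_inv_eq_iff_eq_mul.1 hn.symm)
  have hfive_eq : ∀ a b : ↥C, a ^ 5 = 1 → b ^ 5 = 1 → π a = π b → b = a := by
    intro a b ha hb h
    rcases hker a b h with e | e
    · exact e
    · exfalso
      rw [e, Commute.mul_pow (hσc a), ha, one_mul] at hb
      have := orderOf_dvd_of_pow_eq_one hb
      rw [hσo] at this
      omega
  have H : SevenTwenty (π X) := by
    refine ⟨hLcard, hπX, ?_, ?_⟩
    · have h := hcomap (centralizer ({π X} : Set (↥C ⧸ K)))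
      have he : (centralizer ({π X} : Set (↥C ⧸ K))).comap π = (centralizer ({x} : Set G)).subgroupOf C := by
        ext c
        rw [Subgroup.mem_comap, mem_centralizer_singleton_iff, mem_subgroupOf, mem_centralizer_singleton_iff]
        constructor
        · intro hc
          have hX5 : X ^ 5 = 1 := hXo ▸ pow_orderOf_eq_one X
          have := hfive_eq X (c * X * c⁻¹) hX5 (by rw [conj_pow, hX5]; group)
            (by rw [map_mul, map_mul, map_inv, hc, mul_inv_cancel_right])
          exact congrArg Subtype.val (mul_inv_eq_iff_eq_mul.1 this)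
        · intro hc
          rw [← map_mul, ← map_mul, show c * X = X * c from Subtype.ext hc]
      rw [he, Nat.card_congr (Subgroup.subgroupOfEquivOfLe hCxC).toEquiv, hCx] at h
      omega
    · have h := hcomap (Subgroup.normalizer ((zpowers (π X) : Subgroup (↥C ⧸ K)) : Set (↥C ⧸ K)))
      have he : (Subgroup.normalizer ((zpowers (π X) : Subgroup (↥C ⧸ K)) : Set (↥C ⧸ K))).comap π =
          (Subgroup.normalizer ((zpowers x : Subgroup G) : Set G)).subgroupOf C := by
        have hX5 : X ^ 5 = 1 := hXo ▸ pow_orderOf_eq_one X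
        have hiff : ∀ {H : Type _} [Group H] [Finite H] (a g : H),
            g ∈ Subgroup.normalizer ((zpowers a : Subgroup H) : Set H) ↔ g * a * g⁻¹ ∈ zpowers a := by
          intro H _ _ a g
          refine ⟨fun hg => (Subgroup.mem_normalizer_iff.1 hg a).1 (mem_zpowers a), fun hg => ?_⟩
          have hle : (zpowers a).map (MulAut.conj g).toMonoidHom = zpowers a := by
            refine Subgroup.eq_of_le_of_card_ge ?_ (le_of_eq ?_)
            · rw [MonoidHom.map_zpowers, zpowers_le]
              simpa using hg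
            · exact Nat.card_congr ((zpowers a).equivMapOfInjective _ (MulAut.conj g).injective).toEquiv
          rw [Subgroup.mem_normalizer_iff]
          intro z
          constructor
          · intro hz
            have := hle ▸ Subgroup.mem_map_of_mem (MulAut.conj g).toMonoidHom hz
            simpa using this
          · intro hz
            rw [← hle] at hz
            obtain ⟨w, hw, hwz⟩ := hz
            simp only [MulEquiv.coe_toMonoidHom, MulAut.conj_apply] at hwz
            rwa [mul_left_cancel (mul_right_cancel hwz)] at hw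
        ext c
        rw [Subgroup.mem_comap, mem_subgroupOf, hiff, hiff]
        constructor
        · intro hc
          obtain ⟨n, hn⟩ := mem_zpowers_iff.1 hc
          have hn5 : (X ^ n) ^ 5 = 1 := by
            rw [← zpow_natCast, ← zpow_mul, mul_comm, zpow_mul, zpow_natCast, hX5, one_zpow]
          have := hfive_eq (X ^ n) (c * X * c⁻¹) hn5 (by rw [conj_pow, hX5]; group)
            (by rw [map_zpow, hn, map_mul, map_mul, map_inv])
          exact mem_zpowers_iff.2 ⟨n, by simpa [X] using (congrArg Subtype.val this).symm⟩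
        · intro hc
          obtain ⟨n, hn⟩ := mem_zpowers_iff.1 hc
          exact mem_zpowers_iff.2 ⟨n, by
            rw [← map_zpow, ← map_inv, ← map_mul, ← map_mul, show c * X * c⁻¹ = X ^ n from Subtype.ext (by
              simp [X, hn])]⟩
      rw [he, Nat.card_congr (Subgroup.subgroupOfEquivOfLe hNxC).toEquiv, hNx] at h
      omega
  obtain ⟨M, hMn, hidx, hMc, hMs, hMcent⟩ := H.exists_simple
  obtain ⟨φ⟩ := CfsgLib.Recog.ThreeSixty.iso_alternating_six hMc
  let e : Six.A6 ≃* ↥M := φ.symm
  -- the conjugates of `s` in `C`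
  set D : Set ↥C := {u | IsConj s (u : G) ∧ u ≠ σ} with hD
  have hDsq : ∀ u ∈ D, u * u = 1 := fun u hu => Subtype.ext (h2 _ hu.1)
  have hDinv : ∀ (c : ↥C), ∀ u ∈ D, c * u * c⁻¹ ∈ D := by
    intro c u hu
    refine ⟨hu.1.trans (isConj_iff.2 ⟨c, by simp⟩), fun h => hu.2 ?_⟩
    calc u = c⁻¹ * (c * u * c⁻¹) * c := by group
      _ = σ := by rw [h, mul_assoc, ← hσc, inv_mul_cancel_left]
  have houter : ∀ u ∈ D, π u ∉ M := by
    intro u hu huM
    have hne : π u ≠ 1 := fun h => by
      rcases hKmem u ((QuotientGroup.eq_one_iff u).1 h) with h' | h'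
      · exact hs1 (by
          have := hu.1
          rw [h', OneMemClass.coe_one] at this
          exact isConj_one_left.1 this)
      · exact hu.2 h'
    obtain ⟨h, hh⟩ := e.surjective ⟨π u, huM⟩
    have huu : π u * π u = 1 := by rw [← map_mul, hDsq u hu, map_one]
    have hh1 : h * h = 1 := e.injective (by rw [map_mul, hh, map_one]; exact Subtype.ext huu)
    have hh2 : h ≠ 1 := fun h0 => hne (by
      rw [h0, map_one] at hh
      exact (congrArg Subtype.val hh).symm)
    obtain ⟨y, hy1, hy5, hyi⟩ := Six.five_inverted h hh1 hh2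
    obtain ⟨Y, hY⟩ := hπs (e y : ↥C ⧸ K)
    have hy5' : (π Y) ^ 5 = 1 := by rw [hY, ← Subgroup.coe_pow, ← map_pow, hy5, map_one, OneMemClass.coe_one]
    have hY10 : Y ^ 10 = 1 := by
      rcases hKmem (Y ^ 5) ((QuotientGroup.eq_one_iff _).1 (show π (Y ^ 5) = 1 by rw [map_pow]; exact hy5')) with h' | h'
      · rw [show Y ^ 10 = (Y ^ 5) ^ 2 by rw [← pow_mul], h', one_pow]
      · rw [show Y ^ 10 = (Y ^ 5) ^ 2 by rw [← pow_mul], h', ← hσo, pow_orderOf_eq_one]
    set y' := Y ^ 6 with hy'
    have hπy : π y' = π Y := by rw [hy', map_pow, pow_succ, hy5', one_mul]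
    have hy'5 : y' ^ 5 = 1 := by rw [hy', ← pow_mul, show 6 * 5 = 10 * 3 from rfl, pow_mul, hY10, one_pow]
    have hy'1 : y' ≠ 1 := fun h0 => hy1 (by
      rw [h0, map_one, hY] at hπy
      exact e.injective (by rw [map_one]; exact Subtype.ext hπy.symm))
    have huinv : u⁻¹ = u := inv_eq_of_mul_eq_one_right (hDsq u hu)
    have := hfive_eq (y'⁻¹) (u * y' * u⁻¹) (by rw [inv_pow, hy'5, inv_one]) (by rw [conj_pow, hy'5]; group) (by
      have hc := congrArg (fun z => ((e z : ↥M) : ↥C ⧸ K)) hyi
      simp only [map_mul, map_inv, Subgroup.coe_mul, Subgroup.coe_inv, hh, ← hY] at hc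
      rw [map_inv, map_mul, map_mul, huinv, hπy]
      exact hc.symm)
    rw [huinv] at this
    exact not_inverts hcard x s hx hCx hCs u y' hu.1 (h2 _ hu.1)
      (by rw [Subgroup.orderOf_coe]; exact orderOf_eq_prime hy'5 hy'1)
      (by simpa using congrArg Subtype.val this)
  -- no three in a Klein group
  have hklein : ∀ a b : ↥C, a ∈ D → b ∈ D → a * b ∈ D → False := by
    intro a b ha hb hab
    exact houter _ hab (by
      rw [map_mul]
      exact (Subgroup.mul_mem_iff_of_index_two hidx).2 (iff_of_false (houter a ha) (houter b hb)))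
  -- `s` is not a square in its centraliser
  have hnsq : ∀ w : ↥C, w * w ≠ σ := by
    intro w hw
    have hwp : IsPGroup 2 ↥(zpowers w) := by
      have h4 : orderOf w = 2 ^ 2 := orderOf_eq_prime_pow (by
        rw [pow_one, pow_two, hw]; exact fun h => hs1 (congrArg Subtype.val h))
        (by rw [show 2 ^ (1 + 1) = 2 * 2 from rfl, pow_mul, pow_two w, hw, ← hσo, pow_orderOf_eq_one])
      exact IsPGroup.of_card (by rw [Nat.card_zpowers, h4])
    obtain ⟨R, hR⟩ := hwp.exists_le_sylow
    have hRc : Nat.card (R : Subgroup ↥C) = 32 := by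
      rw [R.card_eq_multiplicity, hCs, show (1440 : ℕ) = 2 ^ 5 * 45 by norm_num, factorization_two 5 45 (by norm_num)]
      norm_num
    set R' := (R : Subgroup ↥C).map C.subtype with hR'
    have hR'c : Nat.card R' = 32 := by
      rw [hR', Nat.card_congr ((R : Subgroup ↥C).equivMapOfInjective C.subtype C.subtype_injective).symm.toEquiv, hRc]
    obtain ⟨T, hT⟩ := (R.2.map C.subtype).exists_le_sylow
    have hTc : Nat.card (T : Subgroup G) = 64 := by
      rw [T.card_eq_multiplicity, hcard, show (95040 : ℕ) = 2 ^ 6 * 1485 by norm_num,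
        factorization_two 6 1485 (by norm_num)]
      norm_num
    obtain ⟨t, htT, htR⟩ : ∃ t ∈ (T : Subgroup G), t ∉ R' := by
      by_contra hcon
      push Not at hcon
      have := Subgroup.card_le_of_le (show (T : Subgroup G) ≤ R' from hcon)
      rw [hTc, hR'c] at this
      omega
    haveI hnorm : (R'.subgroupOf (T : Subgroup G)).Normal := by
      refine Subgroup.normal_of_index_eq_two ?_
      have h := (R'.subgroupOf (T : Subgroup G)).card_mul_index
      rw [Nat.card_congr (Subgroup.subgroupOfEquivOfLe hT).toEquiv, hR'c, hTc] at h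
      omega
    have hconjR : ∀ a ∈ R', t * a * t⁻¹ ∈ R' := by
      intro a ha
      have := hnorm.conj_mem ⟨a, hT ha⟩ (mem_subgroupOf.2 ha) ⟨t, htT⟩
      simpa [mem_subgroupOf] using this
    have htC : t ∉ C := by
      intro htC
      have hsub : R' ≤ (T : Subgroup G) ⊓ C := le_inf hT (Subgroup.map_subtype_le _)
      have hp : IsPGroup 2 ↥((T : Subgroup G) ⊓ C : Subgroup G) := T.2.to_le inf_le_left
      obtain ⟨n, hn⟩ := hp.exists_card_eq
      have hd : Nat.card ↥((T : Subgroup G) ⊓ C : Subgroup G) ∣ 1440 := hCs ▸ Subgroup.card_dvd_of_le inf_le_right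
      rw [hn] at hd
      have hn5 : n ≤ 5 := by
        by_contra hgt
        exact absurd ((Nat.pow_dvd_pow 2 (show 6 ≤ n by omega)).trans hd) (by norm_num)
      have heq : R' = (T : Subgroup G) ⊓ C := Subgroup.eq_of_le_of_card_ge hsub (by
        rw [hn, hR'c, show (32 : ℕ) = 2 ^ 5 by norm_num]
        exact Nat.pow_le_pow_right (by norm_num) hn5)
      exact htR (heq ▸ ⟨htT, htC⟩)
    have hwR : (w : G) ∈ R' := Subgroup.mem_map_of_mem C.subtype (hR (mem_zpowers w))
    have hw' : t * w * t⁻¹ ∈ C := Subgroup.map_subtype_le _ (hconjR _ hwR)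
    set w' : ↥C := ⟨t * w * t⁻¹, hw'⟩ with hw'def
    have hz : ((w' * w' : ↥C) : G) = t * s * t⁻¹ := by
      rw [Subgroup.coe_mul]
      have : (w : G) * w = s := congrArg Subtype.val hw
      calc t * w * t⁻¹ * (t * w * t⁻¹) = t * ((w : G) * w) * t⁻¹ := by group
        _ = t * s * t⁻¹ := by rw [this]
    have hzD : w' * w' ∈ D := ⟨hz ▸ isConj_iff.2 ⟨t, rfl⟩, fun h => htC (mem_centralizer_singleton_iff.2
      (mul_inv_eq_iff_eq_mul.1 (hz.symm.trans (congrArg Subtype.val h))))⟩
    exact houter _ hzD (by rw [map_mul]; exact Subgroup.mul_self_mem_of_index_two hidx _)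
  -- the number of conjugates in `C`
  have hDmod : Nat.card D % 4 = 1 := by
    letI := Fintype.ofFinite {v : G // IsConj s v}
    let act : G →* Equiv.Perm {v : G // IsConj s v} :=
      { toFun := fun g =>
          { toFun := fun v => ⟨g * v * g⁻¹, v.2.trans (isConj_iff.2 ⟨g, rfl⟩)⟩
            invFun := fun v => ⟨g⁻¹ * v * g, v.2.trans (isConj_iff.2 ⟨g⁻¹, by simp⟩)⟩
            left_inv := fun v => Subtype.ext (by simp [mul_assoc])
            right_inv := fun v => Subtype.ext (by simp [mul_assoc]) }
        map_one' := Equiv.ext fun v => Subtype.ext (by simp)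
        map_mul' := fun g g' => Equiv.ext fun v => Subtype.ext (by simp [mul_assoc]) }
    have hsign : Equiv.Perm.sign (act s) = 1 := by
      set f := (Equiv.Perm.sign).comp act with hf
      rcases Subgroup.Normal.eq_bot_or_eq_top (inferInstance : f.ker.Normal) with h | h
      · exfalso
        have := Nat.card_le_card_of_injective f ((MonoidHom.ker_eq_bot_iff f).1 h)
        rw [hcard, Nat.card_eq_fintype_card, Fintype.card_units_int] at this
        omega
      · exact MonoidHom.mem_ker.1 (show s ∈ f.ker by rw [h]; exact mem_top s)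
    have hinvol : act s ^ 2 = 1 := by rw [← map_pow, pow_two, hs2, map_one]
    have hsupp : (act s).support.card + (Nat.card D + 1) = 66 := by
      have hXc : Fintype.card {v : G // IsConj s v} = 66 := by
        rw [← Nat.card_eq_fintype_card, CfsgLib.Invol.card_isConj_eq_index]
        have := C.card_mul_index
        rw [hCs, hcard] at this
        rw [← hC]
        omega
      have hfix : Nat.card {v : {v : G // IsConj s v} // act s v = v} = Nat.card D + 1 := by
        have e : {v : {v : G // IsConj s v} // act s v = v} ≃ {u : ↥C // IsConj s (u : G)} :=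
          { toFun := fun v => ⟨⟨v.1.1, mem_centralizer_singleton_iff.2
              (mul_inv_eq_iff_eq_mul.1 (congrArg Subtype.val v.2)).symm⟩, v.1.2⟩
            invFun := fun u => ⟨⟨u.1.1, u.2⟩, Subtype.ext (by
              show s * (u.1 : G) * s⁻¹ = u.1
              rw [← hcomm, mul_inv_cancel_right])⟩
            left_inv := fun v => rfl
            right_inv := fun u => rfl }
        have hins : {u : ↥C | IsConj s (u : G)} = insert σ D := Set.ext fun u =>
          ⟨fun h => (em (u = σ)).imp_right fun h' => ⟨h, h'⟩, fun h => h.elim (fun h' => h' ▸ IsConj.refl s) And.left⟩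
        rw [Nat.card_congr e]
        show Nat.card ↥{u : ↥C | IsConj s (u : G)} = _
        rw [hins, Nat.card_coe_set_eq, Set.ncard_insert_of_notMem (fun h => h.2 rfl), Nat.card_coe_set_eq]
      rw [← hfix, ← hXc, Nat.card_eq_fintype_card, Fintype.card_subtype, Equiv.Perm.support]
      rw [add_comm, ← Finset.card_univ]
      exact Finset.card_filter_add_card_filter_not (fun v => act s v = v)
    have hsq := Equiv.Perm.sign_of_cycleType (act s)
    obtain ⟨m, hm⟩ : ∃ m, (act s).cycleType = Multiset.replicate m 2 :=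
      ⟨_, Multiset.eq_replicate_card.2 fun k hk => by
        have h1 := Equiv.Perm.two_le_of_mem_cycleType hk
        have h2 := (Equiv.Perm.dvd_of_mem_cycleType hk).trans (orderOf_dvd_of_pow_eq_one hinvol)
        have := Nat.le_of_dvd (by norm_num) h2
        omega⟩
    rw [hsign, hm, Multiset.sum_replicate, Multiset.card_replicate, smul_eq_mul] at hsq
    have hm2 : Even m := by
      have : Even (m * 2 + m) := neg_one_pow_eq_one_iff_even (by decide) |>.1 hsq.symm
      rwa [Nat.even_add, iff_true_left (even_two.mul_left m)] at this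
    have hs' : (act s).support.card = m * 2 := by
      rw [← Equiv.Perm.sum_cycleType, hm, Multiset.sum_replicate, smul_eq_mul]
    obtain ⟨k, hk⟩ := hm2
    omega
  have hDne : D.Nonempty := by
    rcases D.eq_empty_or_nonempty with h | h
    · rw [h] at hDmod; simp at hDmod
    · exact h
  -- an element fixed by a Sylow 2-subgroup
  obtain ⟨R⟩ := (inferInstance : Nonempty (Sylow 2 ↥C))
  obtain ⟨d, hd, hdR⟩ : ∃ d ∈ D, (R : Subgroup ↥C) ≤ centralizer ({d} : Set ↥C) := by
    letI : MulAction ↥(R : Subgroup ↥C) ↥D :=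
      { smul := fun r d => ⟨(r : ↥C) * d * (r : ↥C)⁻¹, hDinv _ _ d.2⟩
        one_smul := fun d => Subtype.ext (show ((1 : ↥(R : Subgroup ↥C)) : ↥C) * (d : ↥C) * _⁻¹ = (d : ↥C) by simp)
        mul_smul := fun r r' d => Subtype.ext (show ((r * r' : ↥(R : Subgroup ↥C)) : ↥C) * (d : ↥C) * _⁻¹ =
          (r : ↥C) * ((r' : ↥C) * (d : ↥C) * (r' : ↥C)⁻¹) * (r : ↥C)⁻¹ by simp [mul_assoc]) }
    obtain ⟨d, hd⟩ := R.2.nonempty_fixed_point_of_prime_not_dvd_card ↥D (by omega)
    refine ⟨d, d.2, fun r hr => mem_centralizer_singleton_iff.2 ?_⟩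
    exact mul_inv_eq_iff_eq_mul.1 (congrArg Subtype.val (hd ⟨r, hr⟩))
  have h16 : 16 ∣ Nat.card (centralizer ({π d} : Set (↥C ⧸ K))) := by
    have hle : (R : Subgroup ↥C) ≤ (centralizer ({π d} : Set (↥C ⧸ K))).comap π := fun r hr =>
      Subgroup.mem_comap.2 (mem_centralizer_singleton_iff.2 (by
        rw [← map_mul, ← map_mul, mem_centralizer_singleton_iff.1 (hdR hr)]))
    have := Subgroup.card_dvd_of_le hle
    rw [hcomap, R.card_eq_multiplicity, hCs, show (1440 : ℕ) = 2 ^ 5 * 45 by norm_num,
      factorization_two 5 45 (by norm_num)] at this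
    omega
  obtain ⟨p⟩ := exists_outerPair hidx e hMcent hLcard (houter d hd) (by rw [← map_mul, hDsq d hd, map_one]) h16
  -- the quotient map is injective on `D`
  have hinj : Set.InjOn π D := by
    intro a ha b hb hab
    rcases hker a b hab with h | h
    · exact h.symm
    exfalso
    have hb' : a * σ ∈ D := h ▸ hb
    obtain ⟨g, hg, hgc⟩ := p.exists_commuting (houter a ha) (by rw [← map_mul, hDsq a ha, map_one])
    obtain ⟨c, rfl⟩ := hπs g
    rw [← map_inv, ← map_mul, ← map_mul] at hg hgc
    set v := c * a * c⁻¹ with hv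
    have hvD : v ∈ D := hDinv c a ha
    have hva : Commute v a := by
      have hz : π (v * a) * π (v * a) = 1 := by
        rw [map_mul, hgc.symm.mul_mul_mul_comm, ← map_mul, ← map_mul, hDsq v hvD, hDsq a ha, map_one, one_mul]
      rw [← map_mul] at hz
      rcases hKmem _ ((QuotientGroup.eq_one_iff _).1 hz) with h' | h'
      · calc v * a = v * (v * a * (v * a)) * a := by rw [h', mul_one]
          _ = v * v * (a * v) * (a * a) := by group
          _ = a * v := by rw [hDsq v hvD, hDsq a ha, one_mul, mul_one]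
      · exact absurd h' (hnsq _)
    obtain ⟨k, hk⟩ := isConj_iff.1 hvD.1.symm
    have mk : ∀ z : ↥C, IsConj s (z : G) → Commute v z → z ≠ v →
        ∃ z' : ↥C, z' ∈ D ∧ (z' : G) = k * z * k⁻¹ := by
      intro z hz hzc hne
      refine ⟨⟨k * z * k⁻¹, mem_centralizer_singleton_iff.2 ?_⟩, ⟨hz.trans (isConj_iff.2 ⟨k, rfl⟩), fun h' => hne ?_⟩, rfl⟩
      · conv_lhs => rw [← hk]
        conv_rhs => rw [← hk]
        have := congrArg (fun z : ↥C => k * (z : G) * k⁻¹) hzc.eq
        simp only [Subgroup.coe_mul] at this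
        calc k * z * k⁻¹ * (k * v * k⁻¹) = k * ((z : G) * v) * k⁻¹ := by group
          _ = k * ((v : G) * z) * k⁻¹ := this.symm
          _ = k * v * k⁻¹ * (k * z * k⁻¹) := by group
      · have e : k * (z : G) * k⁻¹ = k * (v : G) * k⁻¹ := by rw [hk]; exact congrArg Subtype.val h'
        exact Subtype.ext (mul_left_cancel (mul_right_cancel e))
    obtain ⟨a', ha', ea⟩ := mk a ha.1 hva (fun h' => hg (by rw [← h']))
    obtain ⟨s', hs', es⟩ := mk σ (IsConj.refl s) (hσc v) (fun h' => hvD.2 h'.symm)
    obtain ⟨q, hq, eq⟩ := mk (a * σ) hb'.1 (hva.mul_right (hσc v)) (fun h' => hg (by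
      rw [← h', map_mul, show π σ = 1 from (QuotientGroup.eq_one_iff σ).2 (mem_zpowers σ), mul_one]))
    refine hklein a' s' ha' hs' ?_
    rwa [show a' * s' = q from Subtype.ext (by rw [Subgroup.coe_mul, ea, es, eq, Subgroup.coe_mul]; group)]
  -- conclusion
  have hcardS : Nat.card (π '' D) = Nat.card D := by
    rw [Nat.card_coe_set_eq, Nat.card_coe_set_eq, Set.InjOn.ncard_image hinj]
  rcases p.card_union (π '' D)
    (by rintro _ ⟨u, hu, rfl⟩; exact ⟨houter u hu, by rw [← map_mul, hDsq u hu, map_one]⟩)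
    (by
      rintro g _ ⟨u, hu, rfl⟩
      obtain ⟨c, rfl⟩ := hπs g
      exact ⟨c * u * c⁻¹, hDinv c u hu, by rw [map_mul, map_mul, map_inv]⟩)
    (hDne.image π) with h | h <;> omega

end CfsgLib.M12Counts
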