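import Cfsg.Agent.Lib.M12Counts.Frame
import Mathlib.GroupTheory.Sylow
import Mathlib.GroupTheory.Transfer
import Mathlib.GroupTheory.SpecificGroups.Cyclic
import Mathlib.Algebra.Group.Subgroup.Pointwise
import Mathlib.Tactic.Group

/-!
The pure four group `⟨s, d⟩` is cycled inside the centraliser of the element `u` of order 3, and the
cycling element gives an amalgam with `2 × Sym 5`.
-/

set_option autoImplicit false
set_option linter.unusedSectionVars false
set_option linter.style.haveILetI false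
set_option maxRecDepth 100000

open Subgroup
open scoped Pointwise

namespace CfsgLib.M12Counts

namespace PureFour

variable {G : Type*} [Group G]

/-- The elements of the argument. -/
structure Pt (s d u e : G) : Prop where
  s2 : s * s = 1
  d2 : d * d = 1
  e2 : e * e = 1
  u3 : u ^ 3 = 1
  s1 : s ≠ 1
  d1 : d ≠ 1
  sd1 : s * d ≠ 1
  u1 : u ≠ 1
  sd : Commute s d
  su : Commute s u
  du : Commute d u
  es : Commute e s
  ed : Commute e d
  eu : e * u * e = u⁻¹
  cent : ∀ g : G, Commute g s → Commute g u →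
    ∃ (v : G) (i : ℕ), (v = 1 ∨ v = s ∨ v = d ∨ v = s * d) ∧ g = v * u ^ i
  small : ∀ v : G, v = s ∨ v = d ∨ v = s * d → ¬ 9 ∣ Nat.card ↥(centralizer ({v} : Set G))
  no4 : ∀ a : G, Commute a u → orderOf a ≠ 4

/-- Membership of the four group. -/
def InV (s d v : G) : Prop := v = 1 ∨ v = s ∨ v = d ∨ v = s * d

theorem mem_cent {a g : G} : g ∈ centralizer ({a} : Set G) ↔ Commute g a :=
  mem_centralizer_singleton_iff

variable {s d u e : G} (H : Pt s d u e)
include H

theorem sd2 : s * d * (s * d) = 1 := by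
  have := H.sd.eq
  calc s * d * (s * d) = s * (d * s) * d := by group
    _ = s * (s * d) * d := by rw [this]
    _ = (s * s) * (d * d) := by group
    _ = 1 := by rw [H.s2, H.d2, one_mul]

theorem inV_sq {v : G} (hv : InV s d v) : v * v = 1 := by
  rcases hv with h | h | h | h <;> subst h
  · exact one_mul 1
  · exact H.s2
  · exact H.d2
  · exact sd2 H

theorem inV_commute_u {v : G} (hv : InV s d v) : Commute v u := by
  rcases hv with h | h | h | h <;> subst h
  · exact Commute.one_left u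
  · exact H.su
  · exact H.du
  · exact H.su.mul_left H.du

theorem inV_commute_s {v : G} (hv : InV s d v) : Commute v s := by
  rcases hv with h | h | h | h <;> subst h
  · exact Commute.one_left s
  · exact Commute.refl _
  · exact H.sd.symm
  · exact (Commute.refl s).mul_left H.sd.symm

theorem inV_commute_d {v : G} (hv : InV s d v) : Commute v d := by
  rcases hv with h | h | h | h <;> subst h
  · exact Commute.one_left d
  · exact H.sd
  · exact Commute.refl _
  · exact H.sd.mul_left (Commute.refl d)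

theorem inV_commute {v w : G} (hv : InV s d v) (hw : InV s d w) : Commute v w := by
  rcases hw with h | h | h | h <;> subst h
  · exact Commute.one_right v
  · exact inV_commute_s H hv
  · exact inV_commute_d H hv
  · exact (inV_commute_s H hv).mul_right (inV_commute_d H hv)

theorem inV_mul {v w : G} (hv : InV s d v) (hw : InV s d w) : InV s d (v * w) := by
  have k1 : s * (s * d) = d := by rw [← mul_assoc, H.s2, one_mul]
  have k2 : s * d * d = s := by rw [mul_assoc, H.d2, mul_one]
  have k3 : d * (s * d) = s := by rw [← mul_assoc, ← H.sd.eq, k2]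
  have k4 : s * d * s = d := by rw [H.sd.eq, mul_assoc, H.s2, mul_one]
  rcases hv with h | h | h | h <;> subst h <;> rcases hw with h | h | h | h <;> subst h <;>
    simp [InV, H.s2, H.d2, sd2 H, k1, k2, k3, k4, ← H.sd.eq]

theorem u_order : orderOf u = 3 :=
  haveI : Fact (Nat.Prime 3) := ⟨Nat.prime_three⟩
  orderOf_eq_prime H.u3 H.u1

theorem pow_u_cube (i : ℕ) : (u ^ i) ^ 3 = 1 := by
  rw [← pow_mul, mul_comm, pow_mul, H.u3, one_pow]

theorem eq_one_of_sq_cube {z : G} (h2 : z * z = 1) (h3 : z ^ 3 = 1) : z = 1 := by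
  rwa [pow_succ, pow_two, h2, one_mul] at h3

theorem split {v : G} {i : ℕ} (hv : InV s d v) (h : (v * u ^ i) * (v * u ^ i) = 1) : u ^ i = 1 := by
  have hc := (inV_commute_u H hv).pow_right i
  have : v * v * (u ^ i * u ^ i) = 1 := by
    rw [← h]
    calc v * v * (u ^ i * u ^ i) = v * (v * u ^ i) * u ^ i := by group
      _ = v * (u ^ i * v) * u ^ i := by rw [hc.eq]
      _ = _ := by group
  rw [inV_sq H hv, one_mul] at this
  exact eq_one_of_sq_cube H this (pow_u_cube H i)

variable [Finite G]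

theorem sq_of_two_element {a : G} (ha : Commute a u) {k : ℕ} (hk : orderOf a = 2 ^ k) :
    a * a = 1 := by
  rcases Nat.lt_or_ge k 2 with h | h
  · have : a ^ 2 = 1 := orderOf_dvd_iff_pow_eq_one.mp (by
      rw [hk]; exact (pow_dvd_pow 2 (Nat.lt_succ_iff.mp h)).trans (by norm_num))
    rwa [pow_two] at this
  · exfalso
    have h4 : orderOf (a ^ 2 ^ (k - 2)) = 4 := by
      rw [orderOf_pow_of_dvd (by positivity) (by rw [hk]; exact pow_dvd_pow 2 (by omega)), hk,
        Nat.pow_div (by omega) (by norm_num), show k - (k - 2) = 2 by omega]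
    exact H.no4 _ (ha.pow_left _) h4

theorem exists_sylow : ∃ P : Sylow 2 ↥(centralizer ({u} : Set G)),
    (∀ a : ↥(centralizer ({u} : Set G)), a ∈ (P : Subgroup ↥(centralizer ({u} : Set G))) ↔ InV s d (a : G)) ∧ Nat.card ↥(P : Subgroup ↥(centralizer ({u} : Set G))) = 4 := by
  classical
  let V : Subgroup ↥(centralizer ({u} : Set G)) :=
    { carrier := {a | InV s d (a : G)}
      one_mem' := Or.inl rfl
      mul_mem' := fun {a b} ha hb => inV_mul H ha hb
      inv_mem' := fun {a} ha => by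
        show InV s d ((a : G)⁻¹)
        rw [inv_eq_of_mul_eq_one_right (inV_sq H ha)]
        exact ha }
  have hV : IsPGroup 2 ↥V := by
    intro a
    refine ⟨1, Subtype.ext (Subtype.ext ?_)⟩
    rw [pow_one, pow_two]
    exact inV_sq H a.2
  obtain ⟨P, hP⟩ := hV.exists_le_sylow
  have hsq : ∀ a : ↥(centralizer ({u} : Set G)), a ∈ (P : Subgroup ↥(centralizer ({u} : Set G))) → a * a = 1 := by
    intro a ha
    obtain ⟨k, hk⟩ := IsPGroup.iff_orderOf.mp P.isPGroup' ⟨a, ha⟩
    rw [← Subgroup.orderOf_coe, ← Subgroup.orderOf_coe] at hk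
    exact Subtype.ext (sq_of_two_element H (mem_cent.mp a.2) hk)
  have hmem : ∀ a : ↥(centralizer ({u} : Set G)), a ∈ (P : Subgroup ↥(centralizer ({u} : Set G))) ↔ InV s d (a : G) := by
    intro a
    refine ⟨fun ha => ?_, fun ha => hP (show a ∈ V from ha)⟩
    let σ : ↥(centralizer ({u} : Set G)) := ⟨s, mem_cent.mpr H.su⟩
    have hσ : σ ∈ (P : Subgroup ↥(centralizer ({u} : Set G))) := hP (show σ ∈ V from Or.inr (Or.inl rfl))
    have h1 := hsq a ha
    have h2 := hsq σ hσ
    have h3 := hsq _ (mul_mem ha hσ)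
    have h4 : a * σ = σ * a := by
      rw [← inv_eq_of_mul_eq_one_right h3, mul_inv_rev, inv_eq_of_mul_eq_one_right h1,
        inv_eq_of_mul_eq_one_right h2]
    obtain ⟨v, i, hv, hvi⟩ := H.cent (a : G) (congrArg Subtype.val h4) (mem_cent.mp a.2)
    have : u ^ i = 1 := split H hv (by rw [← hvi]; exact congrArg Subtype.val h1)
    rw [hvi, this, mul_one]
    exact hv
  refine ⟨P, hmem, ?_⟩
  let c : Fin 4 → ↥(P : Subgroup ↥(centralizer ({u} : Set G))) := ![1,
    ⟨⟨s, mem_cent.mpr H.su⟩, (hmem _).mpr (Or.inr (Or.inl rfl))⟩,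
    ⟨⟨d, mem_cent.mpr H.du⟩, (hmem _).mpr (Or.inr (Or.inr (Or.inl rfl)))⟩,
    ⟨⟨s * d, mem_cent.mpr (H.su.mul_left H.du)⟩, (hmem _).mpr (Or.inr (Or.inr (Or.inr rfl)))⟩]
  have hne : s ≠ d := fun h => H.sd1 (by rw [h, H.d2])
  have hb : Function.Bijective c := by
    constructor
    · intro i j h
      have h' := congrArg (fun x : ↥(P : Subgroup ↥(centralizer ({u} : Set G))) => ((x : ↥(centralizer ({u} : Set G))) : G)) h
      fin_cases i <;> fin_cases j <;>
        simp [c, H.s1, H.s1.symm, H.d1, H.d1.symm, H.sd1, H.sd1.symm, hne, hne.symm] at h' ⊢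
    · intro x
      rcases (hmem x.1).mp x.2 with h | h | h | h
      · exact ⟨0, Subtype.ext (Subtype.ext h.symm)⟩
      · exact ⟨1, Subtype.ext (Subtype.ext h.symm)⟩
      · exact ⟨2, Subtype.ext (Subtype.ext h.symm)⟩
      · exact ⟨3, Subtype.ext (Subtype.ext h.symm)⟩
  rw [← Nat.card_eq_of_bijective c hb, Nat.card_fin]

theorem not_invariant (T : Subgroup G) (hT : ∃ k, Nat.card ↥T = 3 ^ k) (h27 : ¬ 81 ∣ Nat.card ↥T)
    (h9 : 9 ∣ Nat.card ↥T) (hu : u ∈ T) (hc : ∀ t ∈ T, Commute t u)
    (hs : ∀ t ∈ T, s * t * s ∈ T) (hd : ∀ t ∈ T, d * t * d ∈ T) : False := by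
  haveI : Fact (Nat.Prime 3) := ⟨Nat.prime_three⟩
  let N : Subgroup ↥T := (zpowers u).subgroupOf T
  have hN : ∀ x : ↥T, x ∈ N ↔ (x : G) ∈ zpowers u := fun x => Iff.rfl
  have hcz : ∀ t ∈ T, ∀ z ∈ zpowers u, Commute t z := by
    intro t ht z hz
    obtain ⟨i, rfl⟩ := mem_zpowers_iff.mp hz
    exact (hc t ht).zpow_right i
  haveI : N.Normal := ⟨fun n hn t => by
    rw [hN] at hn ⊢
    push_cast
    rwa [(hcz _ t.2 _ hn).eq, mul_inv_cancel_right]⟩
  have hcardN : Nat.card ↥N = 3 := by
    rw [Nat.card_congr (Subgroup.subgroupOfEquivOfLe (zpowers_le.mpr hu)).toEquiv, Nat.card_zpowers,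
      u_order H]
  obtain ⟨k, hk⟩ := hT
  have hk3 : k = 2 ∨ k = 3 := by
    rcases Nat.lt_or_ge k 2 with h | h
    · interval_cases k <;> rw [hk] at h9 <;> norm_num at h9
    · rcases Nat.lt_or_ge k 4 with h' | h'
      · omega
      · exact absurd (by rw [hk]; exact (pow_dvd_pow 3 h' : 3 ^ 4 ∣ 3 ^ k)) h27
  have hQ : Nat.card (↥T ⧸ N) * 3 = 3 ^ k := by
    rw [← hk, Subgroup.card_eq_card_quotient_mul_card_subgroup N, hcardN]
  have hcomm : ∀ a b : ↥T ⧸ N, a * b = b * a := by
    rcases hk3 with h | h <;> subst h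
    · haveI : IsCyclic (↥T ⧸ N) := isCyclic_of_prime_card (p := 3) (by norm_num at hQ; omega)
      exact (IsCyclic.commGroup (α := ↥T ⧸ N)).mul_comm
    · exact IsPGroup.commutative_of_card_eq_prime_sq (p := 3) (by norm_num at hQ ⊢; omega)
  have hz : ∀ a ∈ T, ∀ b ∈ T, (a * b)⁻¹ * (b * a) ∈ zpowers u := by
    intro a ha b hb
    have := hcomm (QuotientGroup.mk ⟨a, ha⟩) (QuotientGroup.mk ⟨b, hb⟩)
    rw [← QuotientGroup.mk_mul, ← QuotientGroup.mk_mul, QuotientGroup.eq] at this
    exact this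
  have hfix : ∀ v : G, v = s ∨ v = d ∨ v = s * d → ∀ t ∈ T, Commute t v → t ∈ zpowers u := by
    intro v hv t ht htv
    let A : Subgroup G := T ⊓ centralizer ({v} : Set G)
    have hAT : A ≤ T := inf_le_left
    have huA : zpowers u ≤ A := zpowers_le.mpr
      ⟨hu, mem_cent.mpr (inV_commute_u H (Or.inr hv)).symm⟩
    obtain ⟨j, -, hj⟩ := (Nat.dvd_prime_pow Nat.prime_three).mp
      (hk ▸ Subgroup.card_dvd_of_le hAT)
    have hle : Nat.card ↥A ≤ 3 := by
      rcases Nat.lt_or_ge j 2 with h | h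
      · rw [hj]; calc (3 : ℕ) ^ j ≤ 3 ^ 1 := Nat.pow_le_pow_right (by norm_num) (by omega)
          _ = 3 := by norm_num
      · exact absurd (((pow_dvd_pow 3 h).trans (dvd_of_eq hj.symm)).trans
          (Subgroup.card_dvd_of_le (inf_le_right : A ≤ _))) (H.small v hv)
    have : zpowers u = A := eq_of_le_of_card_ge huA (by rw [Nat.card_zpowers, u_order H]; exact hle)
    rw [this]
    exact ⟨ht, mem_cent.mpr htv⟩
  have hinv : ∀ v : G, v = s ∨ v = d ∨ v = s * d → ∀ t ∈ T, v * t * v ∈ T →
      t * (v * t * v) ∈ zpowers u := by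
    intro v hv t ht hvt
    have v2 : v * v = 1 := inV_sq H (Or.inr hv)
    have hvT : t * (v * t * v) ∈ T := mul_mem ht hvt
    refine hfix v hv _ hvT ?_
    set z := (t * (v * t * v))⁻¹ * ((v * t * v) * t) with hzdef
    have hzm : z ∈ zpowers u := hz t ht _ hvt
    have hzv : Commute v z := by
      obtain ⟨i, hi⟩ := mem_zpowers_iff.mp hzm
      rw [← hi]; exact (inV_commute_u H (Or.inr hv)).zpow_right i
    have h1 : v * (t * (v * t * v)) * v = t * (v * t * v) * z := by
      rw [hzdef, mul_inv_cancel_left]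
      calc v * (t * (v * t * v)) * v = v * t * v * (t * (v * v)) := by group
        _ = v * t * v * t := by rw [v2, mul_one]
    generalize hx : t * (v * t * v) = x at h1 hvT ⊢
    have h2 : x = x * (z * z) := by
      calc x = (v * v) * x * (v * v) := by rw [v2, one_mul, mul_one]
        _ = v * (v * x * v) * v := by group
        _ = v * (x * z) * v := by rw [h1]
        _ = (v * x * v) * (v⁻¹ * z * v) := by group
        _ = (x * z) * z := by
            rw [h1, hzv.inv_left.eq, inv_mul_cancel_right]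
        _ = _ := mul_assoc _ _ _
    have hz3 : z ^ 3 = 1 := by
      obtain ⟨i, hi⟩ := mem_zpowers_iff.mp hzm
      rw [← hi, ← zpow_natCast, ← zpow_mul, mul_comm, zpow_mul, zpow_natCast, H.u3, one_zpow]
    have hz1 : z = 1 := eq_one_of_sq_cube H (mul_left_cancel (h2.symm.trans (mul_one x).symm)) hz3
    rw [hz1, mul_one] at h1
    show x * v = v * x
    calc x * v = (v * x * v) * v := by rw [h1]
      _ = v * x * (v * v) := by group
      _ = v * x := by rw [v2, mul_one]
  have hall : T ≤ zpowers u := by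
    intro t ht
    have hst := hs t ht
    have hdt := hd t ht
    have hsdt : s * d * t * (s * d) ∈ T := by
      have := hs _ hdt
      rwa [show s * (d * t * d) * s = s * d * t * (d * s) by group, ← H.sd.eq] at this
    have e1 := hinv s (Or.inl rfl) t ht hst
    have e2 := hinv d (Or.inr (Or.inl rfl)) t ht hdt
    have e3 := hinv (s * d) (Or.inr (Or.inr rfl)) t ht hsdt
    -- modulo `⟨u⟩`, both `s` and `d` invert `t`
    let m : ∀ a, a ∈ T → ↥T ⧸ N := fun a ha => QuotientGroup.mk ⟨a, ha⟩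
    have key : ∀ a (ha : a ∈ T) b (hb : b ∈ T), a * b ∈ zpowers u → m a ha = (m b hb)⁻¹ := by
      intro a ha b hb h
      rw [← mul_eq_one_iff_eq_inv]
      exact (QuotientGroup.eq_one_iff _).mpr ((hN _).mpr h)
    have k3 := key t ht _ hsdt e3
    have k2 := key t ht _ hdt e2
    have k1 := key (d * t * d) hdt (s * (d * t * d) * s) (hs _ hdt) (hinv s (Or.inl rfl) _ hdt (hs _ hdt))
    have k4 : s * (d * t * d) * s = s * d * t * (s * d) := by
      rw [show s * (d * t * d) * s = s * d * t * (d * s) by group, ← H.sd.eq]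
    have k5 : m (s * (d * t * d) * s) (hs _ hdt) = m (s * d * t * (s * d)) hsdt := by
      simp only [m, k4]
    rw [k5] at k1
    rw [k1, inv_inv] at k2
    have k6 : m t ht * m t ht = 1 := by
      nth_rewrite 1 [k2]
      rw [k3, mul_inv_cancel]
    have k7 : t * t ∈ zpowers u := (hN _).mp ((QuotientGroup.eq_one_iff _).mp k6)
    obtain ⟨i, hi⟩ : ∃ i : ℕ, orderOf t = 2 * i + 1 := by
      obtain ⟨j, -, hj⟩ := (Nat.dvd_prime_pow Nat.prime_three).mp
        (hk ▸ Subgroup.orderOf_dvd_natCard T ht)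
      obtain ⟨i, hi⟩ : Odd (orderOf t) := hj ▸ (Odd.pow (by decide))
      exact ⟨i, hi⟩
    have : t = (t * t) ^ (i + 1) := by
      rw [← pow_two, ← pow_mul, show 2 * (i + 1) = orderOf t + 1 by omega, pow_succ,
        pow_orderOf_eq_one, one_mul]
    rw [this]
    exact pow_mem k7 _
  have := Subgroup.card_dvd_of_le hall
  rw [Nat.card_zpowers, u_order H] at this
  exact absurd (h9.trans this) (by norm_num)

theorem exists_mover (hcard : Nat.card G = 95040) :
    ∃ n : G, Commute n u ∧ (∀ v, InV s d v → InV s d (n * v * n⁻¹)) ∧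
      ¬ (Commute n s ∧ Commute n d) := by
  classical
  haveI : Fact (Nat.Prime 2) := ⟨Nat.prime_two⟩
  haveI : Fact (Nat.Prime 3) := ⟨Nat.prime_three⟩
  by_contra hcon
  obtain ⟨P, hPmem, hP4⟩ := exists_sylow H
  have hP : normalizer ((P : Subgroup ↥(centralizer ({u} : Set G))) : Set ↥(centralizer ({u} : Set G))) ≤ centralizer ((P : Subgroup ↥(centralizer ({u} : Set G))) : Set ↥(centralizer ({u} : Set G))) := by
    intro n hn
    by_cases h : Commute (n : G) s ∧ Commute (n : G) d
    · rw [mem_centralizer_iff]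
      intro a ha
      apply Subtype.ext
      rcases (hPmem a).mp ha with h' | h' | h' | h' <;> push_cast <;> rw [h']
      · rw [one_mul, mul_one]
      · exact h.1.eq.symm
      · exact h.2.eq.symm
      · exact (h.1.mul_right h.2).eq.symm
    · exfalso
      refine hcon ⟨n, mem_cent.mp n.2, fun v hv => ?_, h⟩
      have := (Subgroup.mem_normalizer_iff.mp hn ⟨v, mem_cent.mpr (inV_commute_u H hv)⟩).mp
        ((hPmem _).mpr hv)
      exact (hPmem _).mp this
  set K := (MonoidHom.transferSylow P hP).ker with hK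
  have hKcard : Nat.card ↥K * 4 = Nat.card ↥(centralizer ({u} : Set G)) := by
    rw [← hP4]; exact (MonoidHom.ker_transferSylow_isComplement' P hP).card_mul
  have hodd : ¬ 2 ∣ Nat.card ↥K := by
    intro h2
    have h8 : 2 ^ 3 ∣ Nat.card ↥(centralizer ({u} : Set G)) := by
      obtain ⟨j, hj⟩ := h2; exact ⟨j, by rw [← hKcard, hj]; ring⟩
    obtain ⟨Q, hQ⟩ := Sylow.exists_subgroup_card_pow_prime 2 h8
    obtain ⟨Q', hQ'⟩ := (IsPGroup.of_card hQ).exists_le_sylow
    have := Subgroup.card_dvd_of_le hQ'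
    rw [hQ, Sylow.card_eq_multiplicity, ← Sylow.card_eq_multiplicity P, hP4] at this
    exact absurd this (by norm_num)
  have hX9 : 9 ∣ Nat.card ↥(centralizer ({u} : Set G)) := by
    obtain ⟨P3, hP3⟩ := (IsPGroup.of_card (p := 3) (n := 1) (G := ↥(zpowers u))
      (by rw [Nat.card_zpowers, u_order H, pow_one])).exists_le_sylow
    have hu3 : u ∈ (P3 : Subgroup G) := hP3 (mem_zpowers u)
    have h27 : Nat.card ↥(P3 : Subgroup G) = 27 := by
      have h := P3.pow_dvd_card_of_pow_dvd_card (n := 3) (by rw [hcard]; norm_num)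
      obtain ⟨k, hk⟩ := IsPGroup.iff_card.mp P3.isPGroup'
      have h' := Subgroup.card_subgroup_dvd_card (P3 : Subgroup G)
      rw [hcard, hk] at h'
      rcases Nat.lt_or_ge k 4 with hk' | hk'
      · rw [hk] at h ⊢; interval_cases k <;> omega
      · exact absurd ((pow_dvd_pow 3 hk').trans h') (by norm_num)
    by_contra h9
    let A : Subgroup G := (P3 : Subgroup G) ⊓ centralizer ({u} : Set G)
    have huA : zpowers u ≤ A := zpowers_le.mpr ⟨hu3, mem_cent.mpr (Commute.refl u)⟩
    obtain ⟨j, -, hj⟩ := (Nat.dvd_prime_pow Nat.prime_three (m := 3)).mp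
      (show Nat.card ↥A ∣ 3 ^ 3 by
        rw [show (3 : ℕ) ^ 3 = 27 from rfl, ← h27]; exact Subgroup.card_dvd_of_le inf_le_left)
    have hle : Nat.card ↥A ≤ 3 := by
      rcases Nat.lt_or_ge j 2 with h | h
      · rw [hj]; calc (3 : ℕ) ^ j ≤ 3 ^ 1 := Nat.pow_le_pow_right (by norm_num) (by omega)
          _ = 3 := by norm_num
      · exact absurd (((pow_dvd_pow 3 h).trans (dvd_of_eq hj.symm)).trans
          (Subgroup.card_dvd_of_le (inf_le_right : A ≤ _))) h9
    have hA : zpowers u = A := eq_of_le_of_card_ge huA (by rw [Nat.card_zpowers, u_order H]; exact hle)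
    haveI : Nontrivial ↥(P3 : Subgroup G) :=
      Finite.one_lt_card_iff_nontrivial.mp (by rw [h27]; norm_num)
    haveI := P3.isPGroup'.center_nontrivial
    obtain ⟨z, hz⟩ := exists_ne (1 : ↥(center ↥(P3 : Subgroup G)))
    have hzc : ∀ a ∈ (P3 : Subgroup G), Commute a ((z : ↥(P3 : Subgroup G)) : G) := fun a ha =>
      congrArg Subtype.val (Subgroup.mem_center_iff.mp z.2 ⟨a, ha⟩)
    have hzA : ((z : ↥(P3 : Subgroup G)) : G) ∈ A :=
      ⟨(z : ↥(P3 : Subgroup G)).2, mem_cent.mpr (hzc u hu3).symm⟩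
    rw [← hA] at hzA
    have hgen : zpowers ((z : ↥(P3 : Subgroup G)) : G) = zpowers u :=
      eq_of_le_of_card_ge (zpowers_le.mpr hzA) (by
        rw [Nat.card_zpowers, Nat.card_zpowers]
        have h1 : orderOf ((z : ↥(P3 : Subgroup G)) : G) ∣ orderOf u := by
          rw [← Nat.card_zpowers u]; exact Subgroup.orderOf_dvd_natCard _ hzA
        rw [u_order H] at h1 ⊢
        rcases (Nat.dvd_prime Nat.prime_three).mp h1 with h | h
        · exact absurd (Subtype.ext (Subtype.ext (orderOf_eq_one_iff.mp h))) hz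
        · omega)
    have hle' : (P3 : Subgroup G) ≤ centralizer ({u} : Set G) := fun a ha => mem_cent.mpr (by
      obtain ⟨i, hi⟩ := mem_zpowers_iff.mp (hgen ▸ mem_zpowers u :
        u ∈ zpowers ((z : ↥(P3 : Subgroup G)) : G))
      rw [← hi]; exact (hzc a ha).zpow_right i)
    exact h9 ((show 9 ∣ 27 by norm_num).trans (h27 ▸ Subgroup.card_dvd_of_le hle'))
  have hK9 : 3 ^ 2 ∣ Nat.card ↥K := by
    rw [← hKcard] at hX9
    exact (Nat.Coprime.dvd_of_dvd_mul_right (by norm_num) hX9)
  let R : Sylow 3 ↥K := default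
  have hR : 9 ∣ Nat.card ↥(R : Subgroup ↥K) := R.pow_dvd_card_of_pow_dvd_card hK9
  let R' : Subgroup ↥(centralizer ({u} : Set G)) := (R : Subgroup ↥K).map K.subtype
  let N : Subgroup ↥(centralizer ({u} : Set G)) := normalizer (R' : Set ↥(centralizer ({u} : Set G)))
  have hN4 : 2 ^ 2 ∣ Nat.card ↥N := by
    let φ : ↥N →* ↥(centralizer ({u} : Set G)) ⧸ K := (QuotientGroup.mk' K).comp N.subtype
    have hφ : Function.Surjective φ := by
      rw [← MonoidHom.range_eq_top, MonoidHom.range_comp, Subgroup.range_subtype]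
      have h1 : N ⊔ K = ⊤ := Sylow.normalizer_sup_eq_top R
      have h2 := congrArg (Subgroup.map (QuotientGroup.mk' K)) h1
      rwa [Subgroup.map_sup, QuotientGroup.map_mk'_self, sup_bot_eq,
        Subgroup.map_top_of_surjective _ (QuotientGroup.mk'_surjective K)] at h2
    have hq : Nat.card (↥(centralizer ({u} : Set G)) ⧸ K) = 4 := by
      have h := Subgroup.card_eq_card_quotient_mul_card_subgroup K
      rw [← hKcard, mul_comm] at h
      exact (Nat.eq_of_mul_eq_mul_right Nat.card_pos h).symm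
    have := Subgroup.card_dvd_of_surjective φ hφ
    rwa [hq] at this
  obtain ⟨Q, hQ⟩ := Sylow.exists_subgroup_card_pow_prime 2 hN4
  obtain ⟨Q', hQ'⟩ := (IsPGroup.of_card (p := 2) (n := 2) (G := ↥(Q.map N.subtype))
    (by rw [Subgroup.card_map_of_injective N.subtype_injective, hQ])).exists_le_sylow
  have hQeq : Q.map N.subtype = (Q' : Subgroup ↥(centralizer ({u} : Set G))) := eq_of_le_of_card_ge hQ' (by
    rw [Subgroup.card_map_of_injective N.subtype_injective, hQ, Sylow.card_eq_multiplicity,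
      ← Sylow.card_eq_multiplicity P, hP4]; norm_num)
  obtain ⟨c, hc⟩ := MulAction.exists_smul_eq ↥(centralizer ({u} : Set G)) P Q'
  have hconj : ∀ a : ↥(centralizer ({u} : Set G)), a ∈ (P : Subgroup ↥(centralizer ({u} : Set G))) → c * a * c⁻¹ ∈ N := by
    intro a ha
    have : c * a * c⁻¹ ∈ (Q' : Subgroup ↥(centralizer ({u} : Set G))) := by
      rw [← hc]
      show c * a * c⁻¹ ∈ MulAut.conj c • (P : Subgroup ↥(centralizer ({u} : Set G)))
      exact Subgroup.smul_mem_pointwise_smul a (MulAut.conj c) _ ha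
    rw [← hQeq] at this
    obtain ⟨q, -, hq⟩ := this
    exact hq ▸ q.2
  let T0 : Subgroup ↥(centralizer ({u} : Set G)) := R'.map (MulAut.conj c⁻¹).toMonoidHom
  have hT0mem : ∀ b, b ∈ T0 ↔ c * b * c⁻¹ ∈ R' := by
    intro b
    simp only [T0, Subgroup.mem_map, MulEquiv.coe_toMonoidHom, MulAut.conj_apply, inv_inv]
    exact ⟨fun ⟨r, hr, h⟩ => by
      rwa [← h, show c * (c⁻¹ * r * c) * c⁻¹ = r by group], fun h => ⟨_, h, by group⟩⟩
  have hinvT : ∀ v, InV s d v → ∀ b : G, b ∈ T0.map (centralizer ({u} : Set G)).subtype →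
      v * b * v ∈ T0.map (centralizer ({u} : Set G)).subtype := by
    intro v hv b hb
    obtain ⟨b', hb', rfl⟩ := hb
    let a : ↥(centralizer ({u} : Set G)) := ⟨v, mem_cent.mpr (inV_commute_u H hv)⟩
    refine ⟨a * b' * a, ?_, rfl⟩
    have ha2 : a⁻¹ = a := inv_eq_of_mul_eq_one_right (Subtype.ext (inV_sq H hv))
    show a * b' * a ∈ T0
    have h1 := (Subgroup.mem_normalizer_iff.mp (hconj a ((hPmem a).mpr hv))
      (c * b' * c⁻¹)).mp ((hT0mem b').mp hb')
    rw [hT0mem]
    convert h1 using 1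
    conv_lhs => rw [show c * (a * b' * a) * c⁻¹ = c * a * b' * a * c⁻¹ by group]
    nth_rewrite 2 [← ha2]
    group
  let T1 : Subgroup G := T0.map (centralizer ({u} : Set G)).subtype
  have hT1 : Nat.card ↥T1 = Nat.card ↥(R : Subgroup ↥K) := by
    rw [Subgroup.card_map_of_injective (Subgroup.subtype_injective _),
      Subgroup.card_map_of_injective (MulEquiv.injective _),
      Subgroup.card_map_of_injective K.subtype_injective]
  have hT1p : IsPGroup 3 ↥T1 := by
    obtain ⟨k, hk⟩ := IsPGroup.iff_card.mp R.isPGroup'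
    exact IsPGroup.of_card (n := k) (hT1.trans hk)
  have hT1u : ∀ t ∈ T1, Commute t u := by
    rintro t ⟨t', -, rfl⟩
    exact mem_cent.mp t'.2
  have hU : IsPGroup 3 ↥(zpowers u) :=
    IsPGroup.of_card (n := 1) (by rw [Nat.card_zpowers, u_order H, pow_one])
  have hTp : IsPGroup 3 ↥(T1 ⊔ zpowers u) := hT1p.to_sup_of_normal_right' hU (fun t ht => by
    rw [Subgroup.mem_normalizer_iff]
    intro z
    constructor
    · intro hz
      obtain ⟨i, hi⟩ := mem_zpowers_iff.mp hz
      rw [← hi, ((hT1u t ht).zpow_right i).eq, mul_inv_cancel_right]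
      exact zpow_mem (mem_zpowers u) i
    · intro hz
      obtain ⟨i, hi⟩ := mem_zpowers_iff.mp hz
      have : z = u ^ i := by
        have h := ((hT1u t ht).zpow_right i).eq
        calc z = t⁻¹ * (t * z * t⁻¹) * t := by group
          _ = t⁻¹ * (u ^ i * t) := by rw [← hi, mul_assoc]
          _ = u ^ i := by rw [← h, inv_mul_cancel_left]
      rw [this]; exact zpow_mem (mem_zpowers u) i)
  have hconjU : ∀ v, InV s d v → (T1 ⊔ zpowers u).map (MulAut.conj v).toMonoidHom ≤ T1 ⊔ zpowers u := by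
    intro v hv
    have hvi : v⁻¹ = v := inv_eq_of_mul_eq_one_right (inV_sq H hv)
    rw [Subgroup.map_sup, sup_le_iff]
    constructor
    · rintro _ ⟨t, ht, rfl⟩
      apply Subgroup.mem_sup_left
      simp only [MulEquiv.coe_toMonoidHom, MulAut.conj_apply, hvi]
      exact hinvT v hv t ht
    · rintro _ ⟨z, hz, rfl⟩
      apply Subgroup.mem_sup_right
      obtain ⟨i, hi⟩ := mem_zpowers_iff.mp hz
      simp only [MulEquiv.coe_toMonoidHom, MulAut.conj_apply]
      rw [← hi, ((inV_commute_u H hv).zpow_right i).eq, mul_inv_cancel_right]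
      exact zpow_mem (mem_zpowers u) i
  have hinv' : ∀ v, InV s d v → ∀ t ∈ T1 ⊔ zpowers u, v * t * v ∈ T1 ⊔ zpowers u := by
    intro v hv t ht
    have hvi : v⁻¹ = v := inv_eq_of_mul_eq_one_right (inV_sq H hv)
    have := hconjU v hv ⟨t, ht, rfl⟩
    simpa [MulAut.conj_apply, hvi] using this
  refine not_invariant H (T1 ⊔ zpowers u) (IsPGroup.iff_card.mp hTp) (fun h => ?_)
    ((hT1 ▸ hR).trans (Subgroup.card_dvd_of_le le_sup_left)) (Subgroup.mem_sup_right (mem_zpowers u))
    (fun t ht => ?_) (hinv' s (Or.inr (Or.inl rfl))) (hinv' d (Or.inr (Or.inr (Or.inl rfl))))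
  · exact absurd (h.trans (Subgroup.card_subgroup_dvd_card _)) (by rw [hcard]; norm_num)
  · exact mem_cent.mp ((sup_le (fun a ha => mem_cent.mpr (hT1u a ha))
      (zpowers_le.mpr (mem_cent.mpr (Commute.refl u)))) ht)

theorem exists_cycle (hcard : Nat.card G = 95040) :
    ∃ g : G, Commute g u ∧ g * s * g⁻¹ = d ∧ g * d * g⁻¹ = s * d ∧ Odd (orderOf g) := by
  classical
  haveI : Fact (Nat.Prime 2) := ⟨Nat.prime_two⟩
  obtain ⟨n, hnu, hnV, hnC⟩ := exists_mover H hcard
  obtain ⟨P, hPmem, -⟩ := exists_sylow H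
  obtain ⟨a, o, ho, hno⟩ := Nat.exists_eq_two_pow_mul_odd (orderOf_pos n).ne'
  let N : Subgroup ↥(centralizer ({u} : Set G)) := normalizer ((P : Subgroup ↥(centralizer ({u} : Set G))) : Set ↥(centralizer ({u} : Set G)))
  let ν : ↥(centralizer ({u} : Set G)) := ⟨n, mem_cent.mpr hnu⟩
  have hconjeq : ∀ m : G, (∀ v, InV s d v → InV s d (m * v * m⁻¹)) →
      ∀ v, InV s d (m * v * m⁻¹) → InV s d v := by
    intro m hm v hv
    let φ : {v : G // InV s d v} → {v : G // InV s d v} := fun w => ⟨_, hm w.1 w.2⟩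
    have hφ : Function.Injective φ := fun w w' h => Subtype.ext (by
      have := congrArg Subtype.val h
      simpa [φ] using this)
    obtain ⟨w, hw⟩ := (Finite.injective_iff_surjective.mp hφ) ⟨_, hv⟩
    have : (w : G) = v := by
      have := congrArg Subtype.val hw
      simpa [φ] using this
    exact this ▸ w.2
  have hν : ν ∈ N := by
    rw [Subgroup.mem_normalizer_iff]
    intro b
    rw [hPmem, hPmem]
    exact ⟨hnV _, hconjeq n hnV _⟩
  have hC : ∀ {m : G}, (∃ i : ℕ, m = n ^ i) → ∀ v, InV s d v → InV s d (m * v * m⁻¹) := by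
    rintro m ⟨i, rfl⟩ v hv
    have := (Subgroup.mem_normalizer_iff.mp (pow_mem hν i)
      (⟨v, mem_cent.mpr (inV_commute_u H hv)⟩ : ↥(centralizer ({u} : Set G)))).mp ((hPmem _).mpr hv)
    simpa [ν] using (hPmem _).mp this
  let C : Subgroup G := centralizer ({s, d} : Set G)
  have hCmem : ∀ m : G, m ∈ C ↔ Commute m s ∧ Commute m d := fun m =>
    ⟨fun h => ⟨(mem_centralizer_iff.mp h s (Or.inl rfl)).symm,
      (mem_centralizer_iff.mp h d (Or.inr rfl)).symm⟩,
      fun h => mem_centralizer_iff.mpr (by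
        rintro x (rfl | rfl)
        · exact h.1.eq.symm
        · exact h.2.eq.symm)⟩
  have htwo : n ^ o ∈ C := by
    have hpg : IsPGroup 2 ↥(zpowers (ν ^ o)) := by
      refine IsPGroup.of_card (n := a) ?_
      rw [Nat.card_zpowers, ← Subgroup.orderOf_coe]
      show orderOf (n ^ o) = 2 ^ a
      rw [orderOf_pow_of_dvd ho.pos.ne' (by rw [hno]; exact dvd_mul_left o _), hno,
        Nat.mul_div_cancel _ ho.pos]
    have hsup := hpg.to_sup_of_normal_right' P.isPGroup' (zpowers_le.mpr (pow_mem hν o))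
    have hm : ν ^ o ∈ (P : Subgroup ↥(centralizer ({u} : Set G))) := by
      rw [← P.is_maximal' hsup le_sup_right]
      exact Subgroup.mem_sup_left (mem_zpowers _)
    have hv : InV s d (n ^ o) := by simpa [ν] using (hPmem _).mp hm
    exact (hCmem _).mpr ⟨inV_commute_s H hv, inV_commute_d H hv⟩
  let m := n ^ 2 ^ a
  have hm : m ∉ C := by
    intro hm
    apply hnC
    rw [← hCmem]
    have hg : Nat.gcd o (2 ^ a) = 1 := (Nat.Coprime.pow_right a ho.coprime_two_right)
    have h1 := Nat.gcd_eq_gcd_ab o (2 ^ a)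
    rw [hg] at h1
    have : n = (n ^ o) ^ Nat.gcdA o (2 ^ a) * m ^ Nat.gcdB o (2 ^ a) := by
      simp only [m]
      rw [← zpow_natCast n o, ← zpow_natCast n (2 ^ a), ← zpow_mul, ← zpow_mul, ← zpow_add, ← h1]
      simp
    rw [this]
    exact mul_mem (zpow_mem htwo _) (zpow_mem hm _)
  have hmodd : Odd (orderOf m) := by
    rw [show orderOf m = o from by
      rw [orderOf_pow_of_dvd (by positivity) (by rw [hno]; exact dvd_mul_right _ _), hno,
        Nat.mul_div_cancel_left _ (by positivity)]]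
    exact ho
  have hmu : Commute m u := hnu.pow_left _
  have hmV := hC ⟨2 ^ a, rfl⟩ (m := m)
  obtain ⟨r, hr⟩ := hmodd
  have hroot : m * m ∈ C → m ∈ C := by
    intro h
    have : m = (m * m) ^ (r + 1) := by
      rw [← pow_two, ← pow_mul, show 2 * (r + 1) = orderOf m + 1 by omega, pow_succ,
        pow_orderOf_eq_one, one_mul]
    rw [this]; exact pow_mem h _
  let c := MulAut.conj m
  have hcs : c s = s ∨ c s = d ∨ c s = s * d := (hmV s (Or.inr (Or.inl rfl))).resolve_left fun h =>
    H.s1 (by rw [← (MulAut.conj m).injective.eq_iff, map_one]; exact h)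
  have hcd : c d = s ∨ c d = d ∨ c d = s * d := (hmV d (Or.inr (Or.inr (Or.inl rfl)))).resolve_left
    fun h => H.d1 (by rw [← (MulAut.conj m).injective.eq_iff, map_one]; exact h)
  have hne : s ≠ d := fun h => H.sd1 (by rw [h, H.d2])
  have hnes : c s ≠ c d := fun h => hne (c.injective h)
  have k1 : s * (s * d) = d := by rw [← mul_assoc, H.s2, one_mul]
  have k2 : s * d * d = s := by rw [mul_assoc, H.d2, mul_one]
  have k3 : d * (s * d) = s := by rw [← mul_assoc, ← H.sd.eq, k2]
  have k4 : d * s = s * d := H.sd.eq.symm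
  have k5 : s * d * s = d := by rw [H.sd.eq, mul_assoc, H.s2, mul_one]
  have hfix : c s ≠ s ∧ c d ≠ d → (c s = d ∧ c d = s * d) ∨ (c s = s * d ∧ c d = s) ∨
      (c s = d ∧ c d = s) := by
    rintro ⟨h1, h2⟩
    rcases hcs with h | h | h <;> rcases hcd with h' | h' | h' <;> first
      | exact absurd h h1
      | exact absurd h' h2
      | exact absurd (h.trans h'.symm) hnes
      | exact Or.inl ⟨h, h'⟩
      | exact Or.inr (Or.inl ⟨h, h'⟩)
      | exact Or.inr (Or.inr ⟨h, h'⟩)
  have hsq : ∀ y : G, c (c y) = y → Commute (m * m) y := by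
    intro y hy
    simp only [c, MulAut.conj_apply] at hy
    show m * m * y = y * (m * m)
    conv_rhs => rw [← hy]
    group
  have hs' : c s ≠ s := by
    intro h
    apply hm
    obtain ⟨v, i, hv, hvi⟩ := H.cent m (by
      simp only [c, MulAut.conj_apply] at h
      show m * s = s * m
      conv_rhs => rw [← h]
      group) hmu
    rw [hCmem, hvi]
    exact ⟨(inV_commute_s H hv).mul_left (H.su.symm.pow_left i),
      (inV_commute_d H hv).mul_left (H.du.symm.pow_left i)⟩
  have hd' : c d ≠ d := by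
    intro h
    apply hm; apply hroot
    rw [hCmem]
    refine ⟨hsq s ?_, hsq d (by rw [h, h])⟩
    rcases hcs with h' | h' | h'
    · exact absurd h' hs'
    · exact absurd (h'.trans h.symm) hnes
    · rw [h', map_mul, h', h, k2]
  rcases hfix ⟨hs', hd'⟩ with ⟨h, h'⟩ | ⟨h, h'⟩ | ⟨h, h'⟩
  · exact ⟨m, hmu, h, h', ⟨r, hr⟩⟩
  · refine ⟨m⁻¹, hmu.inv_left, ?_, ?_, ?_⟩
    · rw [inv_inv]
      apply c.injective
      rw [h']
      simp only [c, MulAut.conj_apply]
      group
    · rw [inv_inv]
      apply c.injective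
      rw [map_mul c s d, h, h', k5]
      simp only [c, MulAut.conj_apply]
      group
    · rw [orderOf_inv]; exact ⟨r, hr⟩
  · exfalso
    exact hm (hroot ((hCmem _).mpr ⟨hsq s (by rw [h, h']), hsq d (by rw [h', h])⟩))

theorem exists_good (hcard : Nat.card G = 95040)
    (hne : ¬ IsConj s e) (hbad : ∀ v, v = s ∨ v = d ∨ v = s * d → IsConj s (v * e)) :
    ∃ g : G, g ^ 3 = 1 ∧ g * s * g⁻¹ = d ∧ g * d * g⁻¹ = s * d ∧ Commute g u ∧ Commute g e := by
  obtain ⟨g, hgu, hgs, hgd, ho⟩ := exists_cycle H hcard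
  have cyc : ∀ v, InV s d v → InV s d (g * v * g⁻¹) := by
    intro v hv
    rcases hv with h | h | h | h <;> rw [h]
    · left; group
    · rw [hgs]; exact Or.inr (Or.inr (Or.inl rfl))
    · rw [hgd]; exact Or.inr (Or.inr (Or.inr rfl))
    · right; left
      rw [show g * (s * d) * g⁻¹ = (g * s * g⁻¹) * (g * d * g⁻¹) by group, hgs, hgd,
        ← mul_assoc, ← H.sd.eq, mul_assoc, H.d2, mul_one]
  have prod3 : ∀ v, InV s d v → (g * v * g⁻¹) * (g * (g * v * g⁻¹) * g⁻¹) * v = 1 := by
    intro v hv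
    have hsd' : g * (s * d) * g⁻¹ = s := by
      rw [show g * (s * d) * g⁻¹ = (g * s * g⁻¹) * (g * d * g⁻¹) by group, hgs, hgd,
        ← mul_assoc, ← H.sd.eq, mul_assoc, H.d2, mul_one]
    rcases hv with h | h | h | h <;> rw [h]
    · group
    · rw [hgs, hgd, ← mul_assoc, ← H.sd.eq, mul_assoc s d d, H.d2, mul_one, H.s2]
    · rw [hgd, hsd']
      simpa only [mul_assoc] using sd2 H
    · rw [hsd', hgs]; exact sd2 H
  have h3s : Commute (g ^ 3) s := by
    have hsd' : g * (s * d) * g⁻¹ = s := by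
      rw [show g * (s * d) * g⁻¹ = (g * s * g⁻¹) * (g * d * g⁻¹) by group, hgs, hgd,
        ← mul_assoc, ← H.sd.eq, mul_assoc, H.d2, mul_one]
    show g ^ 3 * s = s * g ^ 3
    calc g ^ 3 * s = g * (g * (g * s * g⁻¹) * g⁻¹) * g⁻¹ * g ^ 3 := by
          simp only [pow_succ, pow_zero, one_mul]; group
      _ = _ := by rw [hgs, hgd, hsd']
  obtain ⟨v0, i, hv0, hg3⟩ := H.cent (g ^ 3) h3s (hgu.pow_left 3)
  have hv0' : v0 = 1 := by
    obtain ⟨r, hr⟩ := ho
    have h1 : (g ^ 3) ^ orderOf g = 1 := by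
      rw [← pow_mul, mul_comm, pow_mul, pow_orderOf_eq_one, one_pow]
    rw [hg3, ((inV_commute_u H hv0).pow_right i).mul_pow] at h1
    rw [hr, pow_succ v0, pow_mul v0, pow_two, inV_sq H hv0, one_pow, one_mul] at h1
    have h2 : (v0 ^ 1) ^ 3 = 1 := by
      rw [pow_one, mul_eq_one_iff_eq_inv.mp h1, inv_pow, ← pow_mul, mul_comm, pow_mul,
        pow_u_cube H, one_pow, inv_one]
    rw [pow_one] at h2
    exact eq_one_of_sq_cube H (inV_sq H hv0) h2
  rw [hv0', one_mul] at hg3
  have he' : e⁻¹ = e := inv_eq_of_mul_eq_one_right H.e2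
  have heu : ∀ j : ℕ, e * u ^ j * e = (u ^ j)⁻¹ := by
    intro j
    have := conj_pow (i := j) (a := e) (b := u)
    rw [he', H.eu, inv_pow] at this
    exact this.symm
  let k := g⁻¹ * (e * g * e)
  have hks : Commute k s := by
    show k * s = s * k
    have h1 : (e * g * e) * s * (e * g * e)⁻¹ = d := by
      rw [mul_inv_rev, mul_inv_rev, he']
      calc e * g * e * s * (e * (g⁻¹ * e)) = e * g * (e * s) * e * g⁻¹ * e := by group
        _ = e * g * (s * e) * e * g⁻¹ * e := by rw [H.es.eq]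
        _ = e * (g * s * (e * e) * g⁻¹) * e := by group
        _ = e * d * e := by rw [H.e2, mul_one, hgs]
        _ = d := by rw [H.ed.eq, mul_assoc, H.e2, mul_one]
    calc k * s = g⁻¹ * ((e * g * e) * s * (e * g * e)⁻¹) * (e * g * e) := by simp only [k]; group
      _ = g⁻¹ * d * (e * g * e) := by rw [h1]
      _ = s * k := by simp only [k]; rw [← hgs]; group
  have hku : Commute k u := by
    refine hgu.inv_left.mul_left ?_
    show e * g * e * u = u * (e * g * e)
    have h1 : e * u = u⁻¹ * e := by rw [← H.eu, mul_assoc, H.e2, mul_one]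
    have h2 : e * u⁻¹ = u * e := by
      have := congrArg (·⁻¹) H.eu
      simp only [mul_inv_rev, he', inv_inv] at this
      rw [← mul_assoc] at this
      calc e * u⁻¹ = e * u⁻¹ * e * e := by rw [mul_assoc _ e e, H.e2, mul_one]
        _ = _ := by rw [this]
    calc e * g * e * u = e * g * (e * u) := by group
      _ = e * (g * u⁻¹) * e := by rw [h1]; group
      _ = e * (u⁻¹ * g) * e := by rw [(hgu.inv_right).eq]
      _ = e * u⁻¹ * (g * e) := by group
      _ = _ := by rw [h2]; group
  obtain ⟨v, j, hv, hkv⟩ := H.cent k hks hku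
  have hege : e * g * e = g * v * u ^ j := by
    rw [mul_assoc g v, ← hkv]; simp only [k]; group
  have hgv : (g * v) ^ 3 = g ^ 3 := by
    have hc : Commute (g ^ 3) v := by
      rw [hg3]; exact ((inV_commute_u H hv).pow_right i).symm
    calc (g * v) ^ 3 = (g * v * g⁻¹) * (g * (g * v * g⁻¹) * g⁻¹) * (g ^ 3 * v) := by
          simp only [pow_succ, pow_zero, one_mul]; group
      _ = (g * v * g⁻¹) * (g * (g * v * g⁻¹) * g⁻¹) * v * g ^ 3 := by rw [hc.eq]; simp only [mul_assoc]
      _ = _ := by rw [prod3 v hv, one_mul]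
  have hui : u ^ i = 1 := by
    have h1 : (e * g * e) ^ 3 = (u ^ i)⁻¹ := by
      have := conj_pow (i := 3) (a := e) (b := g)
      rw [he'] at this
      rw [this, hg3, heu]
    rw [hege, ((hgu.pow_right j).mul_left ((inV_commute_u H hv).pow_right j)).mul_pow,
      hgv, hg3, pow_u_cube H, mul_one] at h1
    exact eq_one_of_sq_cube H (mul_eq_one_iff_eq_inv.mpr h1) (pow_u_cube H i)
  let g1 := g * u ^ (2 * j)
  have hg1u : Commute g1 u := hgu.mul_left ((Commute.refl u).pow_left _)
  have hconj : ∀ y, Commute u y → g1 * y * g1⁻¹ = g * y * g⁻¹ := by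
    intro y hy
    have := (hy.pow_left (2 * j)).eq
    calc g1 * y * g1⁻¹ = g * (u ^ (2 * j) * y) * (u ^ (2 * j))⁻¹ * g⁻¹ := by
          simp only [g1]; group
      _ = g * (y * u ^ (2 * j)) * (u ^ (2 * j))⁻¹ * g⁻¹ := by rw [this]
      _ = _ := by group
  have hg13 : g1 ^ 3 = 1 := by
    rw [(hgu.pow_right (2 * j)).mul_pow, hg3, hui, pow_u_cube H, one_mul]
  have he1 : e * g1 * e = g1 * v := by
    have h1 : u ^ j * (u ^ (2 * j))⁻¹ = u ^ (2 * j) := by
      rw [mul_inv_eq_iff_eq_mul, ← pow_add, show 2 * j + 2 * j = j + 3 * j by ring, pow_add,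
        pow_mul, H.u3, one_pow, mul_one]
    calc e * g1 * e = e * g * (e * e) * u ^ (2 * j) * e := by rw [H.e2]; simp only [g1]; group
      _ = (e * g * e) * (e * u ^ (2 * j) * e) := by group
      _ = g * v * (u ^ j * (u ^ (2 * j))⁻¹) := by rw [hege, heu, mul_assoc]
      _ = g * (v * u ^ (2 * j)) := by rw [h1, mul_assoc]
      _ = g1 * v := by rw [((inV_commute_u H hv).pow_right (2 * j)).eq]; simp only [g1]; group
  have hv1 : v = 1 := by
    rcases hv with h | h
    · exact h
    · exfalso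
      have h1 : g1⁻¹ * e * g1 = v * e := by
        calc g1⁻¹ * e * g1 = g1⁻¹ * (e * g1 * e) * e⁻¹ := by group
          _ = v * e := by rw [he1, he', inv_mul_cancel_left]
      have h2 : IsConj e (v * e) := by
        rw [← h1, isConj_iff]; exact ⟨g1⁻¹, by group⟩
      exact hne ((hbad v h).trans h2.symm)
  refine ⟨g1, hg13, (hconj s H.su.symm).trans hgs, (hconj d H.du.symm).trans hgd, hg1u, ?_⟩
  rw [hv1, mul_one] at he1
  show g1 * e = e * g1
  conv_lhs => rw [← he1]
  rw [mul_assoc _ e e, H.e2, mul_one]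

end PureFour

theorem card_centralizer_conj {G : Type*} [Group G] {a b : G} (h : IsConj a b) :
    Nat.card ↥(centralizer ({a} : Set G)) = Nat.card ↥(centralizer ({b} : Set G)) := by
  obtain ⟨c, hc⟩ := isConj_iff.mp h
  subst hc
  refine Nat.card_congr
    { toFun := fun x => ⟨c * x.1 * c⁻¹, PureFour.mem_cent.mpr ?_⟩
      invFun := fun y => ⟨c⁻¹ * y.1 * c, PureFour.mem_cent.mpr ?_⟩
      left_inv := fun x => by ext; simp only; group
      right_inv := fun y => by ext; simp only; group }
  · have := PureFour.mem_cent.mp x.2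
    show c * x.1 * c⁻¹ * (c * a * c⁻¹) = c * a * c⁻¹ * (c * x.1 * c⁻¹)
    calc c * x.1 * c⁻¹ * (c * a * c⁻¹) = c * (x.1 * a) * c⁻¹ := by group
      _ = c * (a * x.1) * c⁻¹ := by rw [this.eq]
      _ = _ := by group
  · have := PureFour.mem_cent.mp y.2
    show c⁻¹ * y.1 * c * a = a * (c⁻¹ * y.1 * c)
    calc c⁻¹ * y.1 * c * a = c⁻¹ * (y.1 * (c * a * c⁻¹)) * c := by group
      _ = c⁻¹ * ((c * a * c⁻¹) * y.1) * c := by rw [this.eq]
      _ = _ := by group

theorem Frame.card_centralizer {G : Type*} [Group G] [Finite G] (F : Frame G) :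
    Nat.card ↥(centralizer ({F.s} : Set G)) = 240 := by
  classical
  let φ : Bool × Equiv.Perm (Fin 5) → ↥(centralizer ({F.s} : Set G)) := fun bp =>
    ⟨(if bp.1 then F.s else 1) * F.f bp.2, PureFour.mem_cent.mpr (by
      rcases bp with ⟨b, p⟩
      refine Commute.mul_left ?_ (F.comm p).symm
      cases b
      · exact Commute.one_left _
      · exact Commute.refl _)⟩
  have hb : Function.Bijective φ := by
    constructor
    · rintro ⟨b, p⟩ ⟨b', q⟩ h
      have h' : (if b then F.s else 1) * F.f p = (if b' then F.s else 1) * F.f q :=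
        congrArg Subtype.val h
      cases b <;> cases b' <;> simp at h'
      · rw [F.inj h']
      · exfalso
        apply F.ne_s (p * q⁻¹)
        rw [map_mul, map_inv, h', mul_inv_cancel_right]
      · exfalso
        apply F.ne_s (q * p⁻¹)
        rw [map_mul, map_inv, ← h', mul_inv_cancel_right]
      · rw [F.inj h']
    · rintro ⟨g, hg⟩
      obtain ⟨p, hp | hp⟩ := F.cent g (PureFour.mem_cent.mp hg)
      · exact ⟨(false, p), Subtype.ext (by simp [φ, hp])⟩
      · exact ⟨(true, p), Subtype.ext (by simp [φ, hp])⟩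
  rw [← Nat.card_eq_of_bijective φ hb, Nat.card_eq_fintype_card, Fintype.card_prod, Fintype.card_perm,
    Fintype.card_fin, Fintype.card_bool]
  rfl

open PureFour in
theorem exists_amalgam_of_no_four {G : Type*} [Group G] [Finite G] [IsSimpleGroup G]
    (hcard : Nat.card G = 95040) (F : Frame G)
    (hCe : Nat.card ↥(Subgroup.centralizer ({F.f pe} : Set G)) = 192)
    (hse : IsConj F.s (F.s * F.f pe))
    (hne : ¬ IsConj F.s (F.f pe))
    (hinv : ∀ t : G, orderOf t = 2 → IsConj F.s t ∨ IsConj (F.f pe) t)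
    (h4 : ∀ a : G, Commute a (F.f pu) → orderOf a ≠ 4) :
    ∃ (f : Equiv.Perm (Fin 5) →* G) (g : G), Function.Injective f ∧ (∀ p, F.s * f p = f p * F.s) ∧
      (∀ p, f p ≠ F.s) ∧ g ^ 3 = 1 ∧ g * F.s * g⁻¹ = f pd ∧ g * f pd * g⁻¹ = F.s * f pd ∧
      g * f pu = f pu * g ∧ g * f pe = f pe * g ∧ (g * f px) ^ 3 = 1 := by
  have hf1 : ∀ p : Equiv.Perm (Fin 5), p ≠ 1 → F.f p ≠ 1 := fun p hp h =>
    hp (F.inj (by rw [h, map_one]))
  have hpu : ∀ p : Equiv.Perm (Fin 5), p * pu = pu * p →
      ∃ i : Fin 3, p = pu ^ (i : ℕ) ∨ p = pd * pu ^ (i : ℕ) := by decide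
  have hH : Pt F.s (F.f pd) (F.f pu) (F.f pe) := by
    refine ⟨F.s_sq, ?_, ?_, ?_, F.s_ne, hf1 _ (by decide), ?_, hf1 _ (by decide), F.comm pd,
      F.comm pu, ?_, (F.comm pe).symm, ?_, ?_, ?_, ?_, h4⟩
    · rw [← map_mul, show pd * pd = 1 by decide, map_one]
    · rw [← map_mul, show pe * pe = 1 by decide, map_one]
    · rw [← map_pow, show pu ^ 3 = 1 by decide, map_one]
    · intro h
      apply F.ne_s pd
      rw [← inv_eq_of_mul_eq_one_right h, inv_eq_of_mul_eq_one_right F.s_sq]
    · show F.f pd * F.f pu = F.f pu * F.f pd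
      rw [← map_mul, ← map_mul, show pd * pu = pu * pd by decide]
    · show F.f pe * F.f pd = F.f pd * F.f pe
      rw [← map_mul, ← map_mul, show pe * pd = pd * pe by decide]
    · rw [← map_mul, ← map_mul, ← map_inv, show pe * pu * pe = pu⁻¹ by decide]
    · intro g hgs hgu
      obtain ⟨p, hp | hp⟩ := F.cent g hgs
      · obtain ⟨i, hi | hi⟩ := hpu p (F.inj (by rw [map_mul, map_mul, ← hp]; exact hgu))
        · exact ⟨1, i, Or.inl rfl, by rw [hp, hi, map_pow, one_mul]⟩
        · exact ⟨F.f pd, i, Or.inr (Or.inr (Or.inl rfl)), by rw [hp, hi, map_mul, map_pow]⟩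
      · have hp' : F.f p = F.s * g := by rw [hp, ← mul_assoc, F.s_sq, one_mul]
        have hu' : Commute (F.s * g) (F.f pu) := Commute.mul_left (F.comm pu) hgu
        obtain ⟨i, hi | hi⟩ := hpu p (F.inj (by rw [map_mul, map_mul, hp']; exact hu'))
        · exact ⟨F.s, i, Or.inr (Or.inl rfl), by rw [hp, hi, map_pow]⟩
        · exact ⟨F.s * F.f pd, i, Or.inr (Or.inr (Or.inr rfl)),
            by rw [hp, hi, map_mul, map_pow, mul_assoc]⟩
    · intro v hv h9
      have hv2 : v * v = 1 := by
        rcases hv with h | h | h <;> subst h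
        · exact F.s_sq
        · rw [← map_mul, show pd * pd = 1 by decide, map_one]
        · rw [mul_assoc, ← mul_assoc (F.f pd), ← F.comm pd, mul_assoc, ← map_mul,
            show pd * pd = 1 by decide, map_one, mul_one, F.s_sq]
      have hv1 : v ≠ 1 := by
        rcases hv with h | h | h <;> subst h
        · exact F.s_ne
        · exact hf1 _ (by decide)
        · intro h
          apply F.ne_s pd
          rw [← inv_eq_of_mul_eq_one_right h, inv_eq_of_mul_eq_one_right F.s_sq]
      rcases hinv v (orderOf_eq_prime (by rw [pow_two]; exact hv2) hv1) with h | h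
      · rw [← card_centralizer_conj h, F.card_centralizer] at h9; norm_num at h9
      · rw [← card_centralizer_conj h, hCe] at h9; norm_num at h9
  obtain ⟨g0, -, hgs0, hgd0, -⟩ := exists_cycle hH hcard
  have hsd : IsConj F.s (F.f pd) := isConj_iff.mpr ⟨g0, hgs0⟩
  have hssd : IsConj F.s (F.s * F.f pd) := hsd.trans (isConj_iff.mpr ⟨g0, hgd0⟩)
  have hpx : F.f pd * F.f pe = F.f px * F.f pd * (F.f px)⁻¹ := by
    rw [← map_mul, ← map_inv, ← map_mul, ← map_mul, show px * pd * px⁻¹ = pd * pe by decide]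
  have hbad : ∀ v, v = F.s ∨ v = F.f pd ∨ v = F.s * F.f pd → IsConj F.s (v * F.f pe) := by
    rintro v (h | h | h) <;> subst h
    · exact hse
    · exact hsd.trans (isConj_iff.mpr ⟨F.f px, hpx.symm⟩)
    · refine hssd.trans (isConj_iff.mpr ⟨F.f px, ?_⟩)
      rw [mul_assoc F.s (F.f pd), hpx, ← mul_assoc (F.f px), ← F.comm px]
      group
  obtain ⟨g, hg3, hgs, hgd, hgu, hge⟩ := exists_good hH hcard hne hbad
  -- the cube of `g * x`
  set s := F.s
  set d := F.f pd
  set e := F.f pe
  set x := F.f px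
  have hxs : Commute x s := (F.comm px).symm
  have hds : Commute d s := (F.comm pd).symm
  have hes : Commute e s := (F.comm pe).symm
  have hd2 : d * d = 1 := hH.d2
  have he2 : e * e = 1 := hH.e2
  have hxe : Commute x e := by
    show F.f px * F.f pe = F.f pe * F.f px
    rw [← map_mul, ← map_mul, show px * pe = pe * px by decide]
  let c := MulAut.conj (g * x)
  have cs : c s = d := by
    show g * x * s * (g * x)⁻¹ = d
    rw [show g * x * s * (g * x)⁻¹ = g * (x * s) * x⁻¹ * g⁻¹ by group, hxs.eq]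
    rw [show g * (s * x) * x⁻¹ * g⁻¹ = g * s * g⁻¹ by group, hgs]
  have ce : c e = e := by
    have h := (hge : Commute g e).mul_left hxe
    show g * x * e * (g * x)⁻¹ = e
    rw [h.eq, mul_inv_cancel_right]
  have cd : c d = s * d * e := by
    show g * x * d * (g * x)⁻¹ = _
    rw [show g * x * d * (g * x)⁻¹ = g * (x * d * x⁻¹) * g⁻¹ by group, ← hpx,
      show g * (d * e) * g⁻¹ = (g * d * g⁻¹) * (g * e * g⁻¹) by group, hgd,
      show g * e * g⁻¹ = e from by rw [(hge : Commute g e).eq, mul_inv_cancel_right]]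
  have csde : c (s * d * e) = s := by
    rw [map_mul, map_mul, cs, cd, ce, mul_assoc, mul_assoc (s * d), he2, mul_one, ← mul_assoc,
      hds.eq, mul_assoc, hd2, mul_one]
  set h := (g * x) ^ 3 with hh
  have hconj : ∀ y, c (c (c y)) = y → Commute h y := by
    intro y hy
    simp only [c, MulAut.conj_apply] at hy
    show h * y = y * h
    rw [hh]
    nth_rewrite 2 [← hy]
    simp only [pow_succ, pow_zero, one_mul]
    group
  have hs : Commute h s := hconj s (by rw [cs, cd, csde])
  have hd : Commute h d := hconj d (by rw [cd, csde, cs])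
  have he : Commute h e := hconj e (by rw [ce, ce, ce])
  have hcen : ∀ p : Equiv.Perm (Fin 5), p * pd = pd * p → p * pe = pe * p →
      p = 1 ∨ p = pd ∨ p = pe ∨ p = pd * pe := by decide
  have hW : ∀ p : Equiv.Perm (Fin 5), ∀ a : G, (a = 1 ∨ a = s) → h = a * F.f p →
      (p = 1 ∨ p = pd ∨ p = pe ∨ p = pd * pe) := by
    intro p a ha hp
    have hp' : F.f p = a * h := by
      rw [hp, ← mul_assoc]
      rcases ha with h' | h' <;> rw [h']
      · rw [one_mul, one_mul]
      · rw [F.s_sq, one_mul]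
    have hd' : Commute (a * h) d := Commute.mul_left (by
      rcases ha with h' | h' <;> rw [h']
      · exact Commute.one_left _
      · exact hds.symm) hd
    have he' : Commute (a * h) e := Commute.mul_left (by
      rcases ha with h' | h' <;> rw [h']
      · exact Commute.one_left _
      · exact hes.symm) he
    exact hcen p (F.inj (by rw [map_mul, map_mul, hp']; exact hd'))
      (F.inj (by rw [map_mul, map_mul, hp']; exact he'))
  have hfix : c h = h := by
    have hp := (Commute.refl (g * x)).pow_right 3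
    show g * x * h * (g * x)⁻¹ = h
    rw [hp.eq, mul_inv_cancel_right]
  have key : ∀ p q : Equiv.Perm (Fin 5), s * F.f p ≠ F.f q := by
    intro p q hpq
    apply F.ne_s (q * p⁻¹)
    rw [map_mul, map_inv, ← hpq, mul_inv_cancel_right]
  have hdd : d * (s * d) = s := by
    rw [← mul_assoc, hds.eq, mul_assoc, hd2, mul_one]
  have hor : h = 1 ∨ h = e := by
    obtain ⟨p, hp | hp⟩ := F.cent h hs
    · rcases hW p 1 (Or.inl rfl) (by rw [hp, one_mul]) with h' | h' | h' | h' <;> subst h'
      · left; rw [hp, map_one]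
      · exfalso
        rw [hp, show F.f pd = d from rfl, cd, mul_assoc] at hfix
        exact key (pd * pe) pd (by rw [map_mul]; exact hfix)
      · right; exact hp
      · exfalso
        rw [hp, map_mul, show F.f pd = d from rfl, show F.f pe = e from rfl, map_mul, cd, ce,
          mul_assoc (s * d), he2, mul_one] at hfix
        exact key pd (pd * pe) (by rw [map_mul]; exact hfix)
    · rcases hW p s (Or.inr rfl) hp with h' | h' | h' | h' <;> subst h'
      · exfalso
        rw [hp, map_one, mul_one, cs] at hfix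
        exact F.ne_s pd hfix
      · exfalso
        rw [hp, show F.f pd = d from rfl, map_mul, cs, cd, ← mul_assoc, hdd] at hfix
        exact absurd (F.inj (mul_left_cancel hfix : e = d)) (by decide)
      · exfalso
        rw [hp, show F.f pe = e from rfl, map_mul, cs, ce] at hfix
        exact F.ne_s pd (mul_right_cancel hfix)
      · exfalso
        rw [hp, map_mul (f := F.f), show F.f pd = d from rfl, show F.f pe = e from rfl, map_mul,
          map_mul, cs, cd, ce, mul_assoc (s * d), he2, mul_one, hdd] at hfix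
        have h1 : s * 1 = s * (d * e) := by rw [mul_one]; exact hfix
        exact absurd (F.inj ((map_mul F.f pd pe).trans ((mul_left_cancel h1).symm.trans (map_one F.f).symm)))
          (by decide)
  rcases hor with hh1 | hhe
  · exact ⟨F.f, g, F.inj, F.comm, F.ne_s, hg3, hgs, hgd, hgu, hge, hh1⟩
  · let σ : Equiv.Perm (Fin 5) := Equiv.swap 0 1
    refine ⟨F.f.comp (MulAut.conj σ).toMonoidHom, g, F.inj.comp (MulAut.conj σ).injective,
      fun p => F.comm _, fun p => F.ne_s _, hg3, ?_, ?_, ?_, ?_, ?_⟩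
    all_goals simp only [MonoidHom.comp_apply, MulEquiv.coe_toMonoidHom, MulAut.conj_apply]
    · rw [show σ * pd * σ⁻¹ = pd by decide]; exact hgs
    · rw [show σ * pd * σ⁻¹ = pd by decide]; exact hgd
    · rw [show σ * pu * σ⁻¹ = pu by decide]; exact hgu
    · rw [show σ * pe * σ⁻¹ = pe by decide]; exact hge
    · rw [show σ * px * σ⁻¹ = px * pe by decide, map_mul, ← mul_assoc,
        ((hge : Commute g e).mul_left hxe).mul_pow, ← hh, hhe, pow_succ, pow_two, he2, one_mul, he2]

/-- The amalgam when no element has order 12. -/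
theorem exists_amalgam {G : Type*} [Group G] [Finite G] [IsSimpleGroup G]
    (hcard : Nat.card G = 95040) (F : Frame G)
    (hCe : Nat.card ↥(Subgroup.centralizer ({F.f pe} : Set G)) = 192)
    (hse : IsConj F.s (F.s * F.f pe))
    (hne : ¬ IsConj F.s (F.f pe))
    (hinv : ∀ t : G, orderOf t = 2 → IsConj F.s t ∨ IsConj (F.f pe) t)
    (h12 : ∀ w : G, orderOf w ≠ 12) :
    ∃ (f : Equiv.Perm (Fin 5) →* G) (g : G), Function.Injective f ∧ (∀ p, F.s * f p = f p * F.s) ∧
      (∀ p, f p ≠ F.s) ∧ g ^ 3 = 1 ∧ g * F.s * g⁻¹ = f pd ∧ g * f pd * g⁻¹ = F.s * f pd ∧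
      g * f pu = f pu * g ∧ g * f pe = f pe * g ∧ (g * f px) ^ 3 = 1 :=
  exists_amalgam_of_no_four hcard F hCe hse hne hinv fun a ha ha4 => by
    have hu : orderOf (F.f pu) = 3 := by
      haveI : Fact (Nat.Prime 3) := ⟨Nat.prime_three⟩
      exact orderOf_eq_prime (by rw [← map_pow, show pu ^ 3 = 1 by decide, map_one]) fun h =>
        absurd (F.inj (h.trans (map_one F.f).symm)) (by decide)
    refine h12 (a * F.f pu) ?_
    rw [ha.orderOf_mul_eq_mul_orderOf_of_coprime (by rw [ha4, hu]; norm_num), ha4, hu]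

end CfsgLib.M12Counts
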