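import Cfsg.Agent.Lib.M12Counts.Cov
import Cfsg.Agent.Lib.Solvable.Gaschutz

/-!
The covering `C(s) → Sym 5` splits exactly when the lifts of transpositions are involutions; the
elements of order 6 and 12 over `s`.
-/

set_option autoImplicit false
set_option maxRecDepth 100000
set_option linter.style.haveILetI false

open Subgroup

namespace CfsgLib.M12Counts

namespace Cov

variable {G : Type*} [Group G] (D : Cov G)

theorem sC_sq : D.sC * D.sC = 1 := Subtype.ext D.s_sq

theorem sC_central (g : ↥(centralizer ({D.s} : Set G))) : Commute g D.sC :=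
  Subtype.ext (D.comm g).eq

/-- Two elements with one image differ by a power of `sC`. -/
theorem lift_eq' {a b : ↥(centralizer ({D.s} : Set G))} (h : D.π a = D.π b) :
    a = b ∨ a = D.sC * b := by
  rcases D.lift_eq h with h | h
  · exact Or.inl (Subtype.ext h)
  · exact Or.inr (Subtype.ext h)

theorem sC_mul_sq (g : ↥(centralizer ({D.s} : Set G))) : (D.sC * g) * (D.sC * g) = g * g := by
  calc D.sC * g * (D.sC * g) = D.sC * (g * D.sC) * g := by group
    _ = D.sC * (D.sC * g) * g := by rw [(D.sC_central g).eq]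
    _ = (D.sC * D.sC) * (g * g) := by group
    _ = g * g := by rw [D.sC_sq, one_mul]

/-- The lifts of `pe` are involutions. -/
theorem sq_lift_pe (g : ↥(centralizer ({D.s} : Set G))) (h : D.π g = pe) : (g : G) ^ 2 = 1 := by
  have he : D.e * D.e = 1 := Subtype.ext D.e_sq
  have : g * g = 1 := by
    rcases D.lift_eq' (a := g) (b := D.e) (h.trans D.hπe.symm) with h' | h' <;> subst h'
    · exact he
    · rw [D.sC_mul_sq, he]
  rw [pow_two]
  exact congrArg Subtype.val this

theorem sq_lift_of_conj {p : Equiv.Perm (Fin 5)} (hp : ∀ g, D.π g = p → (g : G) ^ 2 = 1)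
    {g : ↥(centralizer ({D.s} : Set G))} {r : Equiv.Perm (Fin 5)} (hg : r * D.π g * r⁻¹ = p) :
    (g : G) ^ 2 = 1 := by
  obtain ⟨h, rfl⟩ := D.surj r
  have := hp (h * g * h⁻¹) (by rw [map_mul, map_mul, map_inv]; exact hg)
  simp only [Subgroup.coe_mul, Subgroup.coe_inv] at this
  rwa [conj_pow, conj_eq_one_iff] at this

/-- If the lifts of `pd` are involutions, so are the lifts of every involution. -/
theorem sq_lift (hd : ∀ g, D.π g = pd → (g : G) ^ 2 = 1) (g : ↥(centralizer ({D.s} : Set G)))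
    (h1 : D.π g * D.π g = 1) : (g : G) ^ 2 = 1 := by
  have key : ∀ p : Equiv.Perm (Fin 5), p * p = 1 →
      p = 1 ∨ ∃ r, r * p * r⁻¹ = pd ∨ r * p * r⁻¹ = pe := by decide +kernel
  rcases key _ h1 with h | ⟨r, h | h⟩
  · rcases D.ker g h with h' | h' <;> rw [h', pow_two]
    · exact one_mul 1
    · exact D.s_sq
  · exact D.sq_lift_of_conj hd h
  · exact D.sq_lift_of_conj D.sq_lift_pe h

/-- The centraliser splits. -/
theorem exists_frame [Finite G] (hd : ∀ g, D.π g = pd → (g : G) ^ 2 = 1) :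
    ∃ F : Frame G, F.s = D.s ∧ F.f pe = (D.e : G) := by
  classical
  have hsq : ∀ g, D.π g * D.π g = 1 → g * g = 1 := fun g hg =>
    Subtype.ext (by
      have := D.sq_lift hd g hg
      rwa [pow_two] at this)
  set K := D.π.ker with hK
  have hKmem : ∀ g, g ∈ K → g = 1 ∨ g = D.sC := fun g hg => by
    rcases D.ker g hg with h | h
    · exact Or.inl (Subtype.ext h)
    · exact Or.inr (Subtype.ext h)
  haveI : IsMulCommutative ↥K := ⟨⟨fun a b => Subtype.ext (by
    rcases hKmem a a.2 with h | h <;> simp only [Subgroup.coe_mul] <;> rw [h]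
    · rw [one_mul, mul_one]
    · exact (D.sC_central b.1).eq.symm)⟩⟩
  have hK2 : Nat.card ↥K ∣ 2 := by
    have h := Subgroup.card_eq_card_quotient_mul_card_subgroup K
    rw [D.card, Nat.card_congr (QuotientGroup.quotientKerEquivOfSurjective D.π D.surj).toEquiv,
      Nat.card_eq_fintype_card, Fintype.card_perm, Fintype.card_fin] at h
    have : Nat.card ↥K = 2 := by norm_num [Nat.factorial] at h; omega
    rw [this]
  obtain ⟨a, ha⟩ := D.surj pd
  obtain ⟨b, hb⟩ := D.surj px
  have ha2 : a * a = 1 := hsq a (by rw [ha]; decide)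
  have hb2 : b * b = 1 := hsq b (by rw [hb]; decide)
  set c := a * b with hc
  have hπc : D.π c = pd * px := by rw [map_mul, ha, hb]
  have hc4 : c ^ 4 = 1 := by
    have : c ^ 2 * c ^ 2 = 1 := hsq (c ^ 2) (by rw [map_pow, hπc]; decide)
    rw [← this, ← pow_add]
  have hai : a⁻¹ = a := inv_eq_of_mul_eq_one_right ha2
  have hbi : b⁻¹ = b := inv_eq_of_mul_eq_one_right hb2
  let A : Subgroup ↥(centralizer ({D.s} : Set G)) :=
    { carrier := {g | ∃ i j : ℕ, g = c ^ i * a ^ j}
      one_mem' := ⟨0, 0, by simp⟩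
      mul_mem' := by
        rintro _ _ ⟨i, j, rfl⟩ ⟨k, l, rfl⟩
        have hswap : ∀ k : ℕ, a * c ^ k = c ^ (3 * k) * a := by
          intro k
          have h3 : c ^ 3 = c⁻¹ := eq_inv_of_mul_eq_one_left (by rw [← pow_succ, hc4])
          have h1 : a * c * a⁻¹ = c⁻¹ := by
            rw [hc, mul_inv_rev, hbi, hai, ← mul_assoc, ha2, one_mul]
          have h2 := conj_pow (i := k) (a := a) (b := c)
          rw [h1] at h2
          rw [pow_mul, h3, h2, inv_mul_cancel_right]
        induction j generalizing k l with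
        | zero => exact ⟨i + k, l, by rw [pow_zero, mul_one, ← mul_assoc, pow_add]⟩
        | succ j ih =>
          obtain ⟨i', j', h⟩ := ih (3 * k) (1 + l)
          refine ⟨i', j', ?_⟩
          rw [← h]
          calc c ^ i * a ^ (j + 1) * (c ^ k * a ^ l) = c ^ i * a ^ j * (a * c ^ k) * a ^ l := by
                rw [pow_succ]; group
            _ = c ^ i * a ^ j * (c ^ (3 * k) * a) * a ^ l := by rw [hswap]
            _ = _ := by rw [pow_add, pow_one]; group
      inv_mem' := by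
        rintro _ ⟨i, j, rfl⟩
        have h3 : (c ^ i)⁻¹ = c ^ (3 * i) := by
          apply inv_eq_of_mul_eq_one_right
          rw [← pow_add, show i + 3 * i = 4 * i by ring, pow_mul, hc4, one_pow]
        have hj : (a ^ j)⁻¹ = a ^ j := by rw [← inv_pow, hai]
        have h1 : a * c * a⁻¹ = c⁻¹ := by
          rw [hc, mul_inv_rev, hbi, hai, ← mul_assoc, ha2, one_mul]
        rcases Nat.even_or_odd' j with ⟨r, hr | hr⟩ <;> subst hr
        · refine ⟨3 * i, 0, ?_⟩
          rw [mul_inv_rev, h3, pow_mul a, pow_two, ha2, one_pow, inv_one, one_mul, pow_zero, mul_one]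
        · refine ⟨i, 1, ?_⟩
          have h2 := conj_pow (i := i) (a := a) (b := c)
          rw [h1, inv_pow, h3, hai] at h2
          rw [mul_inv_rev, h3, hj, pow_succ, pow_mul, pow_two, ha2, one_pow, one_mul, pow_one, h2,
            ← mul_assoc, ← mul_assoc, ha2, one_mul] }
  have hπA : ∀ i j : ℕ, D.π (c ^ i * a ^ j) = (pd * px) ^ i * pd ^ j := fun i j => by
    rw [map_mul, map_pow, map_pow, hπc, ha]
  have hAK : A ⊓ K = ⊥ := by
    rw [eq_bot_iff]
    rintro _ ⟨⟨i, j, rfl⟩, hk⟩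
    have hk' : (pd * px) ^ i * pd ^ j = 1 := by rw [← hπA]; exact hk
    have key : ∀ (i : Fin 4) (j : Fin 2), (pd * px) ^ (i : ℕ) * pd ^ (j : ℕ) = 1 →
        (i : ℕ) = 0 ∧ (j : ℕ) = 0 := by decide +kernel
    have e1 : c ^ i = c ^ (i % 4) := pow_eq_pow_mod i hc4
    have e2 : a ^ j = a ^ (j % 2) := pow_eq_pow_mod j (by rw [pow_two, ha2])
    rw [pow_eq_pow_mod i (show (pd * px) ^ 4 = 1 by decide),
      pow_eq_pow_mod j (show pd ^ 2 = 1 by decide)] at hk'
    obtain ⟨h1, h2⟩ := key ⟨i % 4, Nat.mod_lt _ (by norm_num)⟩ ⟨j % 2, Nat.mod_lt _ (by norm_num)⟩ hk'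
    rw [mem_bot, e1, e2]
    simp only at h1 h2
    rw [h1, h2, pow_zero, pow_zero, one_mul]
  let U := (centralizer ({pe} : Set (Equiv.Perm (Fin 5)))).comap D.π
  have hKU : K ≤ U := fun g hg => Subgroup.mem_comap.2 (by
    rw [show D.π g = 1 from hg]; exact one_mem _)
  have hKA : K ⊔ A = U := by
    apply le_antisymm (sup_le hKU ?_) ?_
    · rintro _ ⟨i, j, rfl⟩
      rw [Subgroup.mem_comap, hπA]
      refine mul_mem (pow_mem ?_ _) (pow_mem ?_ _) <;> rw [mem_centralizer_singleton_iff] <;> decide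
    · intro g hg
      have key : ∀ p : Equiv.Perm (Fin 5), p * pe = pe * p →
          ∃ (i : Fin 4) (j : Fin 2), p = (pd * px) ^ (i : ℕ) * pd ^ (j : ℕ) := by decide +kernel
      obtain ⟨i, j, hij⟩ := key _ (mem_centralizer_singleton_iff.1 (Subgroup.mem_comap.1 hg))
      have hmem : g * (c ^ (i : ℕ) * a ^ (j : ℕ))⁻¹ ∈ K := by
        rw [hK, MonoidHom.mem_ker, map_mul, map_inv, hπA, ← hij, mul_inv_cancel]
      rw [← inv_mul_cancel_right g (c ^ (i : ℕ) * a ^ (j : ℕ))]
      exact mul_mem_sup hmem ⟨i, j, rfl⟩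
  have hUi : U.index = 15 := by
    rw [Subgroup.index_comap_of_surjective _ D.surj]
    have h := (centralizer ({pe} : Set (Equiv.Perm (Fin 5)))).card_mul_index
    have h8 : Nat.card ↥(centralizer ({pe} : Set (Equiv.Perm (Fin 5)))) = 8 := by
      rw [Nat.card_congr (Equiv.subtypeEquivRight (p := (· ∈ centralizer ({pe} : Set _)))
        (q := fun p : Equiv.Perm (Fin 5) => p * pe = pe * p)
        (fun p => mem_centralizer_singleton_iff)), Nat.card_eq_fintype_card]
      decide +kernel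
    rw [h8, Nat.card_eq_fintype_card, Fintype.card_perm, Fintype.card_fin] at h
    norm_num [Nat.factorial] at h
    omega
  obtain ⟨H, hH⟩ := CfsgLib.Solvable.exists_isComplement'_of_le (K := K) (A := A) hKU
    (Nat.Coprime.coprime_dvd_left hK2 (by rw [hUi]; norm_num)) hAK hKA
  have hinj : Function.Injective (D.π.comp H.subtype) := by
    rw [injective_iff_map_eq_one]
    intro x hx
    exact Subtype.ext (Subgroup.disjoint_def.1 hH.disjoint hx x.2)
  have hsur : Function.Surjective (D.π.comp H.subtype) := by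
    intro p
    obtain ⟨g, rfl⟩ := D.surj p
    obtain ⟨k, h, hk⟩ := (hH.existsUnique g).exists.elim fun x hx =>
      (⟨x.1, x.2, hx⟩ : ∃ (k : ↥K) (h : ↥H), (k : ↥(centralizer ({D.s} : Set G))) * h = g)
    refine ⟨h, ?_⟩
    rw [← hk, map_mul, show D.π (k : ↥(centralizer ({D.s} : Set G))) = 1 from k.2, one_mul]
    rfl
  let ε := MulEquiv.ofBijective (D.π.comp H.subtype) ⟨hinj, hsur⟩
  let f : Equiv.Perm (Fin 5) →* G :=
    ((centralizer ({D.s} : Set G)).subtype.comp H.subtype).comp ε.symm.toMonoidHom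
  have hπf : ∀ p, D.π (ε.symm p : ↥H) = p := fun p => ε.apply_symm_apply p
  refine ⟨⟨D.s, f, ?_, D.s_sq, D.s_ne, fun p => (D.comm _).eq.symm, ?_, ?_⟩, rfl, ?_⟩
  · exact Subtype.val_injective.comp (Subtype.val_injective.comp ε.symm.injective)
  · intro p hp
    have h1 : ((ε.symm p : ↥H) : ↥(centralizer ({D.s} : Set G))) = D.sC := Subtype.ext hp
    have h2 := hπf p
    rw [h1, D.π_s] at h2
    subst h2
    rw [map_one] at hp
    exact D.s_ne hp.symm
  · intro g hg
    let g' : ↥(centralizer ({D.s} : Set G)) := ⟨g, mem_centralizer_singleton_iff.2 hg⟩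
    refine ⟨D.π g', ?_⟩
    rcases D.lift_eq (a := g') (b := (ε.symm (D.π g') : ↥H)) (hπf _).symm with h | h
    · exact Or.inl h
    · exact Or.inr h
  · rcases D.lift_eq (a := (ε.symm pe : ↥H)) (b := D.e) ((hπf pe).trans D.hπe.symm) with h | h
    · exact h
    · exfalso
      obtain ⟨g, hg⟩ := isConj_iff.1 D.hse
      have hsq2 : f (pd * px) * f (pd * px) = D.s * D.e := by
        rw [← map_mul, show pd * px * (pd * px) = pe by decide]; exact h
      set w := f (pd * px)
      have hw : g⁻¹ * w * g ∈ centralizer ({D.s} : Set G) := by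
        rw [mem_centralizer_singleton_iff]
        calc g⁻¹ * w * g * D.s = g⁻¹ * (w * (g * D.s * g⁻¹)) * g := by group
          _ = g⁻¹ * (w * (w * w)) * g := by rw [hg, hsq2]
          _ = g⁻¹ * ((w * w) * w) * g := by rw [mul_assoc w w w]
          _ = g⁻¹ * ((g * D.s * g⁻¹) * w) * g := by rw [hg, hsq2]
          _ = _ := by group
      have hw2 : (g⁻¹ * w * g) * (g⁻¹ * w * g) = D.s := by
        calc g⁻¹ * w * g * (g⁻¹ * w * g) = g⁻¹ * (w * w) * g := by group
          _ = g⁻¹ * (g * D.s * g⁻¹) * g := by rw [hsq2, hg]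
          _ = D.s := by group
      let v : ↥(centralizer ({D.s} : Set G)) := ⟨_, hw⟩
      have hv : v * v = D.sC := Subtype.ext hw2
      have := hsq v (by rw [← map_mul, hv, D.π_s])
      rw [hv] at this
      exact D.s_ne (congrArg Subtype.val this)

/-- The elements of order 6 whose cube is `s`. -/
theorem card_six [Finite G] :
    Nat.card {w : G // orderOf w = 6 ∧ w ^ 3 = D.s} = 20 := by
  classical
  have h20 : Nat.card {p : Equiv.Perm (Fin 5) // p ^ 3 = 1 ∧ p ≠ 1} = 20 := by
    rw [Nat.card_eq_fintype_card]; decide +kernel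
  rw [← h20]
  have hmem : ∀ w : {w : G // orderOf w = 6 ∧ w ^ 3 = D.s}, w.1 ∈ centralizer ({D.s} : Set G) :=
    fun w => mem_centralizer_singleton_iff.2 ((congrArg (w.1 * ·) w.2.2.symm).trans
      (((Commute.refl w.1).pow_right 3).eq.trans (congrArg (· * w.1) w.2.2)))
  let φ : {w : G // orderOf w = 6 ∧ w ^ 3 = D.s} → {p : Equiv.Perm (Fin 5) // p ^ 3 = 1 ∧ p ≠ 1} :=
    fun w => ⟨D.π ⟨w.1, hmem w⟩, by
      constructor
      · rw [← map_pow, show (⟨w.1, hmem w⟩ : ↥(centralizer ({D.s} : Set G))) ^ 3 = D.sC from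
          Subtype.ext w.2.2, D.π_s]
      · intro h
        rcases D.ker _ h with h' | h'
        · have h1 := w.2.1
          rw [show w.1 = 1 from h', orderOf_one] at h1
          omega
        · have h1 := w.2.1
          rw [show w.1 = D.s from h', D.hs] at h1
          omega⟩
  refine Nat.card_eq_of_bijective φ ⟨?_, ?_⟩
  · intro w w' h
    rcases D.lift_eq (congrArg Subtype.val h) with h' | h'
    · exact Subtype.ext h'
    · exfalso
      have h1 := w.2.2
      simp only at h'
      rw [h', ((D.comm ⟨w'.1, hmem w'⟩).symm : Commute D.s w'.1).mul_pow, w'.2.2, pow_succ, pow_two,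
        D.s_sq, one_mul, D.s_sq] at h1
      exact D.s_ne h1.symm
  · rintro ⟨p, hp3, hp1⟩
    obtain ⟨g, hg⟩ := D.surj p
    have hkey : ∀ g : ↥(centralizer ({D.s} : Set G)), D.π g = p → (g : G) ^ 3 = D.s →
        ∃ w, φ w = ⟨p, hp3, hp1⟩ := by
      intro g hg hg3
      refine ⟨⟨g, ?_, hg3⟩, Subtype.ext hg⟩
      apply Nat.dvd_antisymm
      · apply orderOf_dvd_of_pow_eq_one
        rw [show (6 : ℕ) = 3 * 2 from rfl, pow_mul, hg3, pow_two, D.s_sq]
      · have h3 : ¬ orderOf (g : G) ∣ 3 := fun h => D.s_ne (by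
          rw [← hg3]; exact orderOf_dvd_iff_pow_eq_one.1 h)
        have h2 : ¬ orderOf (g : G) ∣ 2 := fun h => by
          have h2' : g ^ 2 = 1 := Subtype.ext (orderOf_dvd_iff_pow_eq_one.1 h)
          have h3' := hp3
          rw [pow_succ, ← hg, ← map_pow, h2', map_one, one_mul, hg] at h3'
          exact hp1 h3'
        have h6 : orderOf (g : G) ∣ 6 := orderOf_dvd_of_pow_eq_one (by
          rw [show (6 : ℕ) = 3 * 2 from rfl, pow_mul, hg3, pow_two, D.s_sq])
        have hle := Nat.le_of_dvd (by norm_num) h6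
        interval_cases orderOf (g : G) <;> simp_all
    rcases D.ker (g ^ 3) (by rw [map_pow, hg, hp3]) with h | h <;>
      rw [SubmonoidClass.coe_pow] at h
    · refine hkey (D.sC * g) (by rw [map_mul, D.π_s, one_mul, hg]) ?_
      show (D.s * (g : G)) ^ 3 = D.s
      rw [((D.comm g).symm).mul_pow, h, mul_one, pow_succ, pow_two, D.s_sq, one_mul]
    · exact hkey g hg h

/-- The elements of order 12 whose sixth power is `s`, in the non-split case. -/
theorem card_twelve [Finite G] (hd : ∃ g, D.π g = pd ∧ (g : G) ^ 2 ≠ 1) :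
    Nat.card {w : G // orderOf w = 12 ∧ w ^ 6 = D.s} = 40 := by
  classical
  obtain ⟨g0, hg0, hg02⟩ := hd
  have hg0s : g0 * g0 = D.sC := by
    rcases D.ker (g0 * g0) (by rw [map_mul, hg0]; decide) with h | h
    · exact absurd (by rw [pow_two]; exact h) hg02
    · exact Subtype.ext h
  have hpd : ∀ g, D.π g = pd → g * g = D.sC := fun g hg => by
    rcases D.lift_eq' (a := g) (b := g0) (hg.trans hg0.symm) with h | h <;> subst h
    · exact hg0s
    · rw [D.sC_mul_sq, hg0s]
  have h40 : Nat.card (Bool × {p : Equiv.Perm (Fin 5) // p ^ 6 = 1 ∧ p ^ 2 ≠ 1 ∧ p ^ 3 ≠ 1}) = 40 := by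
    rw [Nat.card_eq_fintype_card]; decide +kernel
  rw [← h40]
  symm
  choose l hl using D.surj
  have hcomm : ∀ g : ↥(centralizer ({D.s} : Set G)), Commute D.sC g := fun g => (D.sC_central g).symm
  let β : Bool → ↥(centralizer ({D.s} : Set G)) := fun b => if b then D.sC else 1
  have hβπ : ∀ b, D.π (β b) = 1 := by
    intro b; cases b <;> simp [β, D.π_s]
  have key6 : ∀ p : Equiv.Perm (Fin 5), p ^ 6 = 1 → p ^ 2 ≠ 1 → p ^ 3 ≠ 1 →
      ∃ r, r * p ^ 3 * r⁻¹ = pd := by decide +kernel
  have h6 : ∀ g, D.π g ^ 6 = 1 → D.π g ^ 2 ≠ 1 → D.π g ^ 3 ≠ 1 →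
      g ^ 6 = D.sC ∧ orderOf (g : G) = 12 := by
    intro g a b c
    obtain ⟨r, hr⟩ := key6 _ a b c
    obtain ⟨h, rfl⟩ := D.surj r
    have h1 := hpd (h * g ^ 3 * h⁻¹) (by rw [map_mul, map_mul, map_inv, map_pow]; exact hr)
    have h6 : g ^ 6 = D.sC := by
      calc g ^ 6 = h⁻¹ * (h * g ^ 3 * h⁻¹ * (h * g ^ 3 * h⁻¹)) * h := by
            rw [show (6 : ℕ) = 3 + 3 from rfl, pow_add]; group
        _ = h⁻¹ * D.sC * h := by rw [h1]
        _ = D.sC := by rw [mul_assoc, (hcomm h).eq, inv_mul_cancel_left]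
    refine ⟨h6, ?_⟩
    rw [Subgroup.orderOf_coe]
    have h12 : orderOf g ∣ 12 := orderOf_dvd_of_pow_eq_one (by
      rw [show (12 : ℕ) = 6 * 2 from rfl, pow_mul, h6, pow_two, D.sC_sq])
    have n6 : ¬ orderOf g ∣ 6 := fun hh => D.s_ne (by
      have := congrArg Subtype.val ((orderOf_dvd_iff_pow_eq_one.1 hh).symm.trans h6)
      exact this.symm)
    have n4 : ¬ orderOf g ∣ 4 := fun hh => b (by
      have h4 : D.π g ^ 4 = 1 := by rw [← map_pow, orderOf_dvd_iff_pow_eq_one.1 hh, map_one]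
      have := a
      rw [show (6 : ℕ) = 4 + 2 from rfl, pow_add, h4, one_mul] at this
      exact this)
    have hle := Nat.le_of_dvd (by norm_num) h12
    interval_cases orderOf g <;> simp_all
  let φ : Bool × {p : Equiv.Perm (Fin 5) // p ^ 6 = 1 ∧ p ^ 2 ≠ 1 ∧ p ^ 3 ≠ 1} →
      {w : G // orderOf w = 12 ∧ w ^ 6 = D.s} := fun bp => ⟨((β bp.1 * l bp.2.1 : ↥(centralizer ({D.s} : Set G))) : G), by
    have hp : D.π (β bp.1 * l bp.2.1) = bp.2.1 := by rw [map_mul, hβπ, hl, one_mul]
    obtain ⟨h1, h2⟩ := h6 _ (by rw [hp]; exact bp.2.2.1) (by rw [hp]; exact bp.2.2.2.1)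
      (by rw [hp]; exact bp.2.2.2.2)
    exact ⟨h2, (SubmonoidClass.coe_pow _ 6).symm.trans (congrArg Subtype.val h1)⟩⟩
  refine Nat.card_eq_of_bijective φ ⟨?_, ?_⟩
  · rintro ⟨b, p, hp⟩ ⟨b', q, hq⟩ h
    have h0 : ((β b * l p : ↥(centralizer ({D.s} : Set G))) : G) =
        ((β b' * l q : ↥(centralizer ({D.s} : Set G))) : G) := congrArg (fun x => x.1) h
    have h' : β b * l p = β b' * l q := Subtype.ext h0
    have hpq : p = q := by
      have := congrArg D.π h'
      rwa [map_mul, map_mul, hβπ, hβπ, hl, hl, one_mul, one_mul] at this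
    subst hpq
    have h1 := mul_right_cancel h'
    have hne : D.sC ≠ 1 := fun hh => D.s_ne (congrArg Subtype.val hh)
    cases b <;> cases b' <;> first | rfl | exact absurd h1 (by simp [β, hne, hne.symm])
  · rintro ⟨w, hw12, hw6⟩
    have hmem : w ∈ centralizer ({D.s} : Set G) :=
      mem_centralizer_singleton_iff.2 (by rw [← hw6, ← pow_succ, ← pow_succ'])
    let g : ↥(centralizer ({D.s} : Set G)) := ⟨w, hmem⟩
    have hg6 : g ^ 6 = D.sC := Subtype.ext hw6
    have a : D.π g ^ 6 = 1 := by rw [← map_pow, hg6, D.π_s]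
    have hker : ∀ n, D.π g ^ n = 1 → w ^ (2 * n) = 1 := fun n hn => by
      rcases D.ker (g ^ n) (by rw [map_pow, hn]) with h | h <;>
        rw [SubmonoidClass.coe_pow] at h <;> rw [mul_comm, pow_mul, h, pow_two]
      · exact one_mul 1
      · exact D.s_sq
    have nd : ∀ n, w ^ n = 1 → 12 ∣ n := fun n hn => hw12 ▸ orderOf_dvd_of_pow_eq_one hn
    have b : D.π g ^ 2 ≠ 1 := fun hh => by have := nd _ (hker 2 hh); norm_num at this
    have c : D.π g ^ 3 ≠ 1 := fun hh => by have := nd _ (hker 3 hh); norm_num at this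
    rcases D.lift_eq' (a := g) (b := l (D.π g)) (hl _).symm with h | h
    · exact ⟨(false, ⟨D.π g, a, b, c⟩), Subtype.ext (by
        show ((β false * l (D.π g) : ↥(centralizer ({D.s} : Set G))) : G) = w
        simp only [β, Bool.false_eq_true, if_false, one_mul, ← h]; rfl)⟩
    · exact ⟨(true, ⟨D.π g, a, b, c⟩), Subtype.ext (by
        show ((β true * l (D.π g) : ↥(centralizer ({D.s} : Set G))) : G) = w
        simp only [β, if_true, ← h]; rfl)⟩

/-- In the split case no element of order 12 has sixth power `s`. -/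
theorem orderOf_ne_twelve (hd : ∀ g, D.π g = pd → (g : G) ^ 2 = 1) (w : G) (_hw : orderOf w = 12) :
    w ^ 6 ≠ D.s := by
  intro h6
  have hmem : w ∈ centralizer ({D.s} : Set G) :=
    mem_centralizer_singleton_iff.2 (by rw [← h6, ← pow_succ, ← pow_succ'])
  let g : ↥(centralizer ({D.s} : Set G)) := ⟨w, hmem⟩
  have h := D.sq_lift hd (g ^ 3) (by
    rw [← map_mul, ← pow_add, show g ^ (3 + 3) = D.sC from Subtype.ext h6, D.π_s])
  rw [SubmonoidClass.coe_pow, ← pow_mul] at h
  exact D.s_ne (h6.symm.trans h)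

end Cov

end CfsgLib.M12Counts
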