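import Cfsg.Agent.Lib.M12Counts.CentS
import Cfsg.Agent.Lib.M12Counts.Classes
import Cfsg.Agent.Lib.M12Counts.Split
import Cfsg.Agent.Lib.M12Counts.PureFour
import Cfsg.Agent.Lib.M12Counts.IndexSixtySix
import Cfsg.Agent.Lib.M12Counts.Amalgam

/-!
A group of order 95040 with the element-order counts of M12 is M12.
-/

set_option autoImplicit false
set_option linter.style.haveILetI false

namespace CfsgLib.M12Counts

open Subgroup CfsgLib.Recog.OrderCounts

theorem nonempty_equiv_M12 {G : Type*} [Group G] [Finite G] (H : Hyp G) :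
    Nonempty (G ≃* ↥Cfsg.Spor.M12) := by
  classical
  haveI := isSimpleGroup H
  obtain ⟨x, s, P⟩ := exists_pair H
  obtain ⟨n, hcard, hsub, h6 | h36⟩ := five_data H P
  · subst h6
    obtain ⟨D, hDs⟩ := exists_cov H P hcard hsub
    subst hDs
    have a6 := D.card_six
    have hd : ∀ g, D.π g = pd → (g : G) ^ 2 = 1 := fun g hg => by
      by_contra h
      exact false_of_card_twelve H D P a6 (D.card_twelve ⟨g, hg, h⟩)
    obtain ⟨F, hFs, hFe⟩ := D.exists_frame hd
    obtain ⟨f, g, hf, hsf, _, hg, hgs, hgd, hgu, hge, hx⟩ := exists_amalgam H.card F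
      (by rw [hFe]; exact centralizer_e H D P) (by rw [hFs, hFe]; exact D.hse)
      (by rw [hFs, hFe]; exact not_isConj_s_e H D P)
      (fun t ht => by rw [hFs, hFe]; exact invol_cases H D P t ht)
      (orderOf_ne_twelve H D P a6 (D.orderOf_ne_twelve hd))
    exact nonempty_equiv_of_amalgam H.card F.s g f hf F.s_sq hsf hg hgs hgd hgu hge hx
  · subst h36
    exact (false_of_card_1440 H.card (cnt_two H) (sylow_five H).2 x s P.hx (centralizer_five H P.hx)
      (normalizer_five H P.hx) P.hs P.comm hcard).elim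

end CfsgLib.M12Counts
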