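import Mathlib.Data.Fin.VecNotation

/-!
Transversals along the base `0, 1, 2, 3, 4` and class representatives of M12. Generated file.
-/

set_option autoImplicit false

namespace CfsgLib.M12Counts

/-- Transversals. -/
def trans : List (List ℕ) := [
  [0x17161514131211100f0e0d0c0b0a09080706050403020100,
   0x17160f131408110d1505100c0b0706120a090e0403020001,
   0x5130b16140611121517090c0f0a080d07100e0403010002,
   0x5150b160f0917101311060c14070d080a120e0402010003,
   0xf0e171605100b0913110d0c140a06120708150302010004,
   0x1505110a0e120704141710090f0b0c08160d130302010006,
   0xa170e141104150d070506100b1312090f0c160302010008,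
   0x140511070e0d0a0c15170806131604100b120f0302010009,
   0x130e170b050816060f1112041507090d0a1014030201000c,
   0xb11050f17061310160e0c120714080415090a030201000d,
   0x7170e15110c14120a050908160f0d0613040b0302010010,
   0x1611051317090f080b0e040d0a15100c1406070302010012],
  [0x17161514131211100f0e0d0c0b0a09080706050403020100,
   0x5131514160d11090b0e120c0f0710060a08170403010200,
   0x515130f160817060b0e100c140a1209070d110402010300,
   0xf0e130516120b0d1715090c140708100a06110302010400,
   0x1505140e0a080710111304090f160d120b0c170302010600,
   0xa170711140915060e160d100b0f0c041312050302010800,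
   0x1405150e07100a08110f0c06130b120d1604170302010900,
   0x130e0f050b0d161217140604150a10080709110302010c00,
   0xb1116170f04130c050a10120715090614080e0302010d00,
   0x7170a11150614090e0b12081613040c0f0d050302011000,
   0x16110b17130c0f040507080d0a14060915100e0302011200],
  [0x17161514131211100f0e0d0c0b0a09080706050403020100,
   0x1116130f15101712140e080c0b07060d0a09050402030100,
   0x111613050e090b081415120c170a0d0607100f0302040100,
   0x170a140e0504070d0f130809110b100c1612150302060100,
   0x5140711170d150c0b1609100e1306120f040a0302080100,
   0x1707150e050c0a12130f1006111608040b0d140302090100,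
   0x110b0f050e06161015140d04170712090a081303020c0100,
   0xe0f161711101309070a041205140c0815060b03020d0100,
   0x5150a1117121404160b06080e0f090d130c070302100100,
   0xe130b1711080f060a070c0d051504101409160302120100],
  [0x17161514131211100f0e0d0c0b0a09080706050403020100,
   0xb160e14130811090515060c170710120a0d0f0304020100,
   0x70a050f140d17040e130c09111612080b10150306020100,
   0x1514170b070c050d111612100e0f040913060a0308020100,
   0xa0705131512170c0e0f0406110b0d101608140309020100,
   0x160b0e150f10110605140904170a080d071213030c020100,
   0x130f110716090e10170a081205150604140c0b030d020100,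
   0x141517160a040512110b0d080e130c060f09070310020100,
   0xf13110a0b060e081707100d0514090c1504160312020100],
  [0x17161514131211100f0e0d0c0b0a09080706050403020100,
   0x110a130f1408171215051009070b040d160c0e0603020100,
   0xe14160b070905040a17061015130d0c0f12110803020100,
   0x11070f131510170d140508060a160c120b040e0903020100,
   0x170b14150f0d1108130e1204160706100a09050c03020100,
   0x50f0a0716040e060b110c12131410091508170d03020100,
   0xe150b160a06050c07170908140f1204130d111003020100,
   0x513070a0b0c0e091611040d0f1508061410171203020100]]

/-- Representatives: code, order, order of the centraliser. -/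
def reps : List (ℕ × ℕ × ℕ) := [
  (0x17161514131211100f0e0d0c0b0a09080706050403020100, 1, 95040),
  (0x5140b160a060e0c0711091015130d040f12170802030001, 2, 240),
  (0x111614150f0d17081305120c0b0a091007060e0402030001, 2, 192),
  (0x150e130517121110160f0903140a080d07060b0c04000201, 3, 54),
  (0x110a1716050d1512130b100807140c090e030f0604000201, 3, 36),
  (0x1114160b0f060e101305090c150712080a0d170400030201, 4, 32),
  (0x11150b1613090e080f050604140a0d100712170c00030201, 4, 32),
  (0x1514050b0f080e1217160d0c110a10060709130004030201, 5, 10),
  (0xe0a0f170b061508051312100711000d140c160904030201, 6, 12),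
  (0x15110b05170d0e060f160800140709120a10130c04030201, 6, 6),
  (0xe07170f0512150d0b1306090a140c081100161004030201, 8, 8),
  (0x160511140a09130c071510060b1708000f0d0e1204030201, 8, 8),
  (0x160b1411071013000a150912050f0d0c17080e0604030201, 10, 10),
  (0x130f070a110c1610140e000d170506090b12150804030201, 11, 11),
  (0x13170a0714001609110e0c080f0b12100506150d04030201, 11, 11)]

end CfsgLib.M12Counts
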