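import Cfsg.Agent.Lib.M12Recog.Check
import Cfsg.Agent.Lib.M12Counts.ModelData
import Mathlib.GroupTheory.GroupAction.ConjAct
import Mathlib.GroupTheory.GroupAction.Quotient

/-!
The numbers of elements of each order in the Mathieu group M12.

The centraliser of each of the fifteen representatives is bounded by a search along the base
`0, 1, 2, 3, 4` of the dodecad, and two representatives of equal order are shown not to be conjugate
by the same search. Since the class sizes obtained add up to `95040`, all bounds are exact.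
-/

set_option autoImplicit false
set_option maxRecDepth 100000
set_option linter.style.haveILetI false

namespace CfsgLib.M12Counts

open Cfsg CfsgLib.Comp CfsgLib.Golay CfsgLib.M24Elt CfsgLib.M12Recog

/-! ### The search -/

/-- The conditions for `g r = s g` visible on the first `k + 1` base points, where `g = h c`. -/
noncomputable def pcheck (r s k h c : ℕ) : Bool :=
  PermCode.allLt (k + 1) fun i => !(Nat.ble (PermCode.get r i) k) ||
    Nat.beq (PermCode.get h (PermCode.get c (PermCode.get r i)))
      (PermCode.get s (PermCode.get h (PermCode.get c i)))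

/-- One step of the search. -/
noncomputable def next (r s k : ℕ) (Ts : List ℕ) (lev : List ℕ) : List ℕ :=
  lev.flatMap fun h => (Ts.filter (pcheck r s k h)).map (PermCode.mul 24 h)

/-- The candidates after `k` steps. -/
noncomputable def lev (r s : ℕ) : ℕ → List ℕ
  | 0 => [PermCode.one 24]
  | k + 1 => next r s k (trans.getD k []) (lev r s k)

/-- All solutions of `g r = s g`. -/
noncomputable def sols (r s : ℕ) : List ℕ :=
  (lev r s 5).filter fun g => eqc (PermCode.mul 24 g r) (PermCode.mul 24 s g)

/-- The points of the dodecad. -/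
def dod : List ℕ := [0, 1, 2, 3, 4, 6, 8, 9, 12, 13, 16, 18]

theorem dod_spec : ∀ x : GolayPt, x ∈ Spor.squareDodecad ↔ bit x ∈ dod := by decide +kernel

/-- The transversals are as claimed. -/
noncomputable def transCheck : Bool :=
  PermCode.allLt 5 fun k => (trans.getD k []).all (fun c => inM12 c &&
      PermCode.allLt k fun i => Nat.beq (PermCode.get c i) i) &&
    dod.all fun x => Nat.blt x k || (trans.getD k []).any fun c => Nat.beq (PermCode.get c k) x

theorem trans_ok : transCheck = true := by decide +kernel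

theorem trans_spec {k : ℕ} (hk : k < 5) :
    (∀ c ∈ trans.getD k [], inM12 c = true ∧ ∀ i < k, PermCode.get c i = i) ∧
      ∀ x ∈ dod, k ≤ x → ∃ c ∈ trans.getD k [], PermCode.get c k = x := by
  have h := PermCode.allLt_spec trans_ok k hk
  simp only [Bool.and_eq_true, List.all_eq_true, Bool.or_eq_true, List.any_eq_true, Nat.blt_eq] at h
  refine ⟨fun c hc => ⟨(h.1 c hc).1,
    fun i hi => Nat.eq_of_beq_eq_true (PermCode.allLt_spec (h.1 c hc).2 i hi)⟩, fun x hx hkx => ?_⟩
  obtain ⟨c, hc, e⟩ := (h.2 x hx).resolve_left (by omega)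
  exact ⟨c, hc, Nat.eq_of_beq_eq_true e⟩

theorem bit_pm_pt {c : ℕ} (h : PermCode.Ok 24 c) {i : ℕ} (hi : i < 24) :
    bit (pm c (Golay.pt i)) = PermCode.get c i := by
  rw [bit_pm h, bit_pt hi]

/-- A solution is reached by the search. -/
theorem exists_lev {r s : ℕ} (hr : PermCode.Ok 24 r) (hs : PermCode.Ok 24 s)
    {g : Equiv.Perm GolayPt} (hg : g ∈ Spor.M12) (he : g * pm r = pm s * g) :
    ∀ k ≤ 5, ∃ h ∈ lev r s k, PermCode.Ok 24 h ∧ (pm h)⁻¹ * g ∈ Spor.M12 ∧
      ∀ i < k, g (Golay.pt i) = pm h (Golay.pt i) := by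
  intro k
  induction k with
  | zero =>
    exact fun _ => ⟨_, List.mem_singleton_self _, ok_code_one, by rwa [pm_one, inv_one, one_mul],
      fun i hi => absurd hi (by omega)⟩
  | succ k ih =>
    intro hk
    obtain ⟨h, hh, hok, hrest, hfix⟩ := ih (by omega)
    have hk24 : k < 24 := by omega
    set w := (pm h)⁻¹ * g with hw
    have hgw : g = pm h * w := by rw [hw, mul_inv_cancel_left]
    have hwfix : ∀ i < k, w (Golay.pt i) = Golay.pt i := fun i hi => by
      rw [hw, Equiv.Perm.mul_apply, hfix i hi]
      exact (pm h).symm_apply_apply _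
    -- the image of the next base point
    have hbase : Golay.pt k ∈ Spor.squareDodecad := by
      rw [dod_spec, bit_pt hk24]
      exact (by decide : ∀ j < 5, j ∈ dod) k (by omega)
    have hxD : bit (w (Golay.pt k)) ∈ dod :=
      (dod_spec _).1 ((M12_apply_mem hrest _).2 hbase)
    have hxk : k ≤ bit (w (Golay.pt k)) := by
      by_contra hlt
      have e := hwfix _ (Nat.lt_of_not_le hlt)
      have hpt : Golay.pt (bit (w (Golay.pt k))) = w (Golay.pt k) := pt_bit _
      rw [hpt] at e
      have := congrArg bit (w.injective e)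
      rw [bit_pt hk24] at this
      omega
    obtain ⟨hT, hT'⟩ := trans_spec (k := k) (by omega)
    obtain ⟨c, hc, hck⟩ := hT' _ hxD hxk
    obtain ⟨hcM, hcfix⟩ := hT c hc
    have hcok := ok_of_inM12 hcM
    have hmul := pm_mul hok hcok
    have hval : ∀ i ≤ k, g (Golay.pt i) = pm h (pm c (Golay.pt i)) := by
      intro i hi
      have : w (Golay.pt i) = pm c (Golay.pt i) := by
        apply bit_injective
        rw [bit_pm_pt hcok (by omega)]
        rcases lt_or_eq_of_le hi with h' | rfl
        · rw [hwfix i h', bit_pt (by omega), hcfix i h']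
        · exact hck.symm
      rw [hgw, Equiv.Perm.mul_apply, this]
    have hgi : ∀ i ≤ k, bit (g (Golay.pt i)) = PermCode.get h (PermCode.get c i) := fun i hi => by
      rw [hval i hi, bit_pm hok, bit_pm_pt hcok (by omega)]
    have hp : pcheck r s k h c = true := by
      refine PermCode.allLt_of fun i hi => ?_
      cases hle : Nat.ble (PermCode.get r i) k
      · rfl
      · rw [Nat.ble_eq] at hle
        rw [Bool.not_true, Bool.false_or]
        have hj : PermCode.get r i < 24 := hr.1 i (by omega)
        have e := congrArg (fun σ : Equiv.Perm GolayPt => bit (σ (Golay.pt i))) he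
        simp only [Equiv.Perm.mul_apply] at e
        rw [show pm r (Golay.pt i) = Golay.pt (PermCode.get r i) from
          bit_injective (by rw [bit_pm_pt hr (by omega), bit_pt hj]), hgi _ hle, bit_pm hs,
          hgi i (by omega)] at e
        rw [e]; exact Nat.beq_refl _
    refine ⟨PermCode.mul 24 h c, List.mem_flatMap.2 ⟨h, hh, List.mem_map.2
      ⟨c, List.mem_filter.2 ⟨hc, hp⟩, rfl⟩⟩, ok_pm_mul hok hcok, ?_, fun i hi => ?_⟩
    · rw [hmul, show (pm h * pm c)⁻¹ * g = (pm c)⁻¹ * w by rw [hw]; group]
      exact mul_mem (inv_mem (pm_mem_M12 hcM)) hrest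
    · rw [hmul, Equiv.Perm.mul_apply]
      exact hval i (by omega)

/-- The search finds every solution. -/
theorem mem_sols {r s : ℕ} (hr : PermCode.Ok 24 r) (hs : PermCode.Ok 24 s)
    {g : Equiv.Perm GolayPt} (hg : g ∈ Spor.M12) (he : g * pm r = pm s * g) :
    ∃ c ∈ sols r s, pm c = g := by
  obtain ⟨c, hc, hok, hrest, hfix⟩ := exists_lev hr hs hg he 5 le_rfl
  have hbot : (pm c)⁻¹ * g ∈ fixPts Spor.M12 [some 4, some 3, some 2, some 1, some 0] := by
    refine mem_fixPts.2 ⟨hrest, fun z hz => ?_⟩
    obtain ⟨i, hi, rfl⟩ : ∃ i < 5, Golay.pt i = z :=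
      (by decide +kernel : ∀ z : GolayPt, z ∈ [(some 4 : GolayPt), some 3, some 2, some 1, some 0] →
        ∃ i < 5, Golay.pt i = z) z hz
    rw [Equiv.Perm.mul_apply, hfix i hi]
    exact (pm c).symm_apply_apply _
  rw [fixPts_base12, Subgroup.mem_bot, inv_mul_eq_one] at hbot
  refine ⟨c, List.mem_filter.2 ⟨hc, eqc_of_pm_eq (ok_pm_mul hok hr) (ok_pm_mul hs hok) ?_⟩, hbot⟩
  rw [pm_mul hok hr, pm_mul hs hok, hbot, he]

/-! ### The representatives -/

/-- The representative with index `i`. -/
noncomputable def rc (i : ℕ) : ℕ := (reps.getD i (0, 0, 0)).1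

/-- Its order. -/
noncomputable def ro (i : ℕ) : ℕ := (reps.getD i (0, 0, 0)).2.1

/-- The order of its centraliser. -/
noncomputable def rz (i : ℕ) : ℕ := (reps.getD i (0, 0, 0)).2.2

/-- The representatives lie in M12 and have the stated orders. -/
noncomputable def repCheck : Bool :=
  PermCode.allLt 15 fun i => inM12 (rc i) && Nat.blt 0 (ro i) && isOne (powc (rc i) (ro i)) &&
    PermCode.allLt (ro i) fun m => Nat.beq m 0 || !isOne (powc (rc i) m)

theorem rep_ok : repCheck = true := by decide +kernel

/-- The centralisers are at most as large as stated. -/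
noncomputable def centCheck : Bool :=
  PermCode.allLt 15 fun i => Nat.beq i 0 || Nat.ble (sols (rc i) (rc i)).length (rz i)

theorem cent_ok : centCheck = true := by decide +kernel

/-- Representatives of equal order are not conjugate. -/
noncomputable def sepCheck : Bool :=
  PermCode.allLt 15 fun j => PermCode.allLt j fun i =>
    !(Nat.beq (ro i) (ro j)) || Nat.beq (sols (rc i) (rc j)).length 0

theorem sep_ok : sepCheck = true := by decide +kernel

theorem rep_spec (i : Fin 15) :
    inM12 (rc i) = true ∧ 0 < ro i ∧ isOne (powc (rc i) (ro i)) = true ∧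
      ∀ m < ro i, m ≠ 0 → isOne (powc (rc i) m) = false := by
  have h := PermCode.allLt_spec rep_ok i i.2
  simp only [Bool.and_eq_true, Nat.blt_eq] at h
  refine ⟨h.1.1.1, h.1.1.2, h.1.2, fun m hm hm0 => ?_⟩
  have h' := PermCode.allLt_spec h.2 m hm
  cases hb : isOne (powc (rc i) m)
  · rfl
  · rw [hb, Bool.not_true, Bool.or_false] at h'
    exact absurd (Nat.eq_of_beq_eq_true h') hm0

/-- The representative as an element of M12. -/
noncomputable def rep (i : Fin 15) : ↥Spor.M12 := ⟨pm (rc i), pm_mem_M12 (rep_spec i).1⟩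

theorem orderOf_rep (i : Fin 15) : orderOf (rep i) = ro i := by
  obtain ⟨hM, h0, h1, h2⟩ := rep_spec i
  have hok := ok_of_inM12 hM
  rw [← Subgroup.orderOf_coe]
  show orderOf (pm (rc i)) = ro i
  refine (orderOf_eq_iff h0).2 ⟨by rw [← pm_powc hok, pm_eq_one (powc_ok hok _) h1], fun m hm hm0 => ?_⟩
  rw [← pm_powc hok]
  exact pm_ne_one (powc_ok hok _) (h2 m hm hm0.ne')

theorem card_cent_le (i : Fin 15) :
    Nat.card (Subgroup.centralizer ({rep i} : Set ↥Spor.M12)) ≤ rz i := by
  haveI : Finite ↥Spor.M12 := Nat.finite_of_card_ne_zero (by rw [card_M12]; norm_num)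
  have h := PermCode.allLt_spec cent_ok i i.2
  simp only [Bool.or_eq_true, Nat.ble_eq] at h
  rcases h with h | h
  · have hi : i = 0 := Fin.ext (Nat.eq_of_beq_eq_true h)
    rw [hi, show rz ((0 : Fin 15) : ℕ) = 95040 by decide +kernel, ← card_M12]
    exact Subgroup.card_le_card_group _
  · have hok := ok_of_inM12 (rep_spec i).1
    classical
    have hf : ∀ x : Subgroup.centralizer ({rep i} : Set ↥Spor.M12),
        ∃ c ∈ sols (rc i) (rc i), pm c = ((x : ↥Spor.M12) : Equiv.Perm GolayPt) := fun x =>
      mem_sols hok hok x.1.2 (congrArg Subtype.val (Subgroup.mem_centralizer_singleton_iff.1 x.2))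
    let f : Subgroup.centralizer ({rep i} : Set ↥Spor.M12) → (sols (rc i) (rc i)).toFinset :=
      fun x => ⟨(hf x).choose, List.mem_toFinset.2 (hf x).choose_spec.1⟩
    have hfi : Function.Injective f := fun x y e => Subtype.ext (Subtype.ext
      ((hf x).choose_spec.2.symm.trans ((congrArg pm (congrArg Subtype.val e : (hf x).choose = (hf y).choose)).trans
        (hf y).choose_spec.2)))
    refine (Nat.card_le_card_of_injective f hfi).trans ?_
    rw [Nat.card_eq_fintype_card, Fintype.card_coe]
    exact (List.toFinset_card_le _).trans h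

theorem not_isConj_rep {i j : Fin 15} (hne : i ≠ j) : ¬ IsConj (rep i) (rep j) := by
  suffices h : ∀ a b : Fin 15, a < b → ¬ IsConj (rep a) (rep b) by
    rcases lt_or_gt_of_ne hne with hl | hl
    exacts [h i j hl, fun e => h j i hl e.symm]
  intro a b hab hc
  obtain ⟨g, hg⟩ := isConj_iff.1 hc
  have ho : ro a = ro b := by
    rw [← orderOf_rep, ← orderOf_rep, ← hg, ← MulAut.conj_apply, MulEquiv.orderOf_eq]
  have h := PermCode.allLt_spec (PermCode.allLt_spec sep_ok b b.2) a hab
  rw [ho, Nat.beq_refl, Bool.not_true, Bool.false_or] at h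
  have he : g * rep a = rep b * g := by rw [← hg]; group
  obtain ⟨c, hc', -⟩ := mem_sols (ok_of_inM12 (rep_spec a).1) (ok_of_inM12 (rep_spec b).1) g.2
    (congrArg Subtype.val he)
  have := Nat.eq_of_beq_eq_true h
  rw [List.length_eq_zero_iff] at this
  rw [this] at hc'
  exact List.not_mem_nil hc'

/-! ### The counts -/

/-- The size of a class. -/
noncomputable def sz (i : Fin 15) : ℕ := 95040 / rz i

theorem sz_facts : (∀ i : Fin 15, sz i * rz i = 95040) ∧ ∑ i : Fin 15, sz i = 95040 ∧
    ∀ i : Fin 15, (∑ j ∈ Finset.univ.filter fun j : Fin 15 => ro j = ro i, sz j) ∈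
      ([1, 891, 4400, 5940, 9504, 17280, 23760] : List ℕ) := by
  decide +kernel

theorem card_conj_mul {G : Type*} [Group G] [Finite G] (a : G) :
    Nat.card {x : G // IsConj a x} * Nat.card (Subgroup.centralizer ({a} : Set G)) = Nat.card G := by
  have h := Subgroup.card_mul_index (MulAction.stabilizer (ConjAct G) a)
  rw [MulAction.index_stabilizer] at h
  have e1 : (MulAction.orbit (ConjAct G) a).ncard = Nat.card {x : G // IsConj a x} := by
    rw [← Nat.card_coe_set_eq]
    exact Nat.card_congr (Equiv.subtypeEquivRight fun x => by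
      rw [← isConj_comm, ← ConjAct.mem_orbit_conjAct])
  have e2 : Nat.card (MulAction.stabilizer (ConjAct G) a) =
      Nat.card (Subgroup.centralizer ({a} : Set G)) := by
    rw [ConjAct.stabilizer_eq_centralizer]
    rfl
  rw [e1, e2, Nat.card_congr ConjAct.ofConjAct.toEquiv] at h
  rwa [mul_comm]

/-- The possible numbers of elements of a given order in M12. -/
theorem count_mem_model (n : Nat) (h : Nat.card {g : ↥Cfsg.Spor.M12 // orderOf g = n} ≠ 0) :
    Nat.card {g : ↥Cfsg.Spor.M12 // orderOf g = n} ∈
      ([1, 891, 4400, 5940, 9504, 17280, 23760] : List Nat) := by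
  classical
  haveI : Finite ↥Spor.M12 := Nat.finite_of_card_ne_zero (by rw [card_M12]; norm_num)
  haveI : Fintype ↥Spor.M12 := Fintype.ofFinite _
  obtain ⟨hmul, hsum, hval⟩ := sz_facts
  let K : Fin 15 → Finset ↥Spor.M12 := fun i => Finset.univ.filter fun x => IsConj (rep i) x
  have hK : ∀ i, sz i ≤ (K i).card := fun i => by
    have h1 := card_conj_mul (rep i)
    rw [card_M12, ← hmul i] at h1
    have h2 : Nat.card {x // IsConj (rep i) x} = (K i).card := by
      rw [Nat.card_eq_fintype_card]
      exact Fintype.card_subtype _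
    rw [← h2]
    by_contra hlt
    have hz : 0 < rz i := Nat.pos_of_ne_zero fun e => by
      have := hmul i
      rw [e, mul_zero] at this
      exact absurd this (by norm_num)
    have := Nat.mul_lt_mul_of_lt_of_le (Nat.lt_of_not_le hlt) (card_cent_le i) hz
    omega
  have hdis : ((Finset.univ : Finset (Fin 15)) : Set (Fin 15)).PairwiseDisjoint K := by
    intro i _ j _ hij
    rw [Function.onFun, Finset.disjoint_left]
    intro x hx hx'
    simp only [K, Finset.mem_filter] at hx hx'
    exact not_isConj_rep hij (hx.2.trans hx'.2.symm)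
  have hU := Finset.card_biUnion hdis
  have hle : ∑ i, (K i).card ≤ ∑ i, sz i := by
    rw [← hU, hsum, ← card_M12, Nat.card_eq_fintype_card]
    exact Finset.card_le_univ _
  have hex : ∀ i, (K i).card = sz i := fun i =>
    ((Finset.sum_eq_sum_iff_of_le fun i _ => hK i).1
      (le_antisymm (Finset.sum_le_sum fun i _ => hK i) hle) i (Finset.mem_univ i)).symm
  have hcov : Finset.univ.biUnion K = Finset.univ := by
    refine Finset.eq_univ_of_card _ ?_
    rw [hU, Finset.sum_congr rfl fun i _ => hex i, hsum, ← Nat.card_eq_fintype_card, card_M12]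
  have hord : ∀ i x, x ∈ K i → orderOf x = ro i := fun i x hx => by
    simp only [K, Finset.mem_filter] at hx
    obtain ⟨g, hg⟩ := isConj_iff.1 hx.2
    rw [← hg, ← MulAut.conj_apply, MulEquiv.orderOf_eq, orderOf_rep]
  have hcount : (Finset.univ.filter fun x : ↥Spor.M12 => orderOf x = n) =
      (Finset.univ.filter fun i : Fin 15 => ro i = n).biUnion K := by
    ext x
    simp only [Finset.mem_filter, Finset.mem_univ, true_and, Finset.mem_biUnion]
    refine ⟨fun hx => ?_, fun ⟨i, hi, hxi⟩ => (hord i x hxi).trans hi⟩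
    have hx' : x ∈ Finset.univ.biUnion K := hcov ▸ Finset.mem_univ x
    obtain ⟨i, -, hxi⟩ := Finset.mem_biUnion.1 hx'
    exact ⟨i, (hord i x hxi).symm.trans hx, hxi⟩
  have hn : Nat.card {g : ↥Spor.M12 // orderOf g = n} =
      ∑ i ∈ Finset.univ.filter (fun i : Fin 15 => ro i = n), sz i := by
    rw [Nat.card_eq_fintype_card, Fintype.card_subtype, hcount,
      Finset.card_biUnion (hdis.subset (by simp)), Finset.sum_congr rfl fun i _ => hex i]
  obtain ⟨⟨g, hg⟩⟩ := (Nat.card_pos_iff.1 (Nat.pos_of_ne_zero h)).1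
  have hg' : g ∈ Finset.univ.biUnion K := hcov ▸ Finset.mem_univ g
  obtain ⟨i, -, hgi⟩ := Finset.mem_biUnion.1 hg'
  rw [hn]
  subst hg
  rw [hord i g hgi]
  exact hval i

end CfsgLib.M12Counts
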