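import Mathlib
import Cfsg.Agent.Lib.SmallOrder.Auto

/-!
A group of order 720 in which an element of order five is self-centralising and has normaliser of order 20
has a simple normal subgroup of index two with trivial centraliser.
-/

set_option autoImplicit false
set_option linter.style.haveILetI false
set_option linter.unusedSimpArgs false

namespace CfsgLib.M12Counts

open Subgroup

variable {L : Type*} [Group L] [Finite L]

/-- A subgroup of order prime to five normalised by an element of order five with no fixed point. -/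
theorem card_mod_five {K : Subgroup L} {y : L} (hy : orderOf y = 5)
    (hK : y ∈ Subgroup.normalizer (K : Set L)) (hfix : ∀ k ∈ K, k * y = y * k → k = 1) :
    Nat.card K % 5 = 1 := by
  haveI : Fact (Nat.Prime 5) := ⟨by norm_num⟩
  let act : ↥(zpowers y) →* MulAut ↥K :=
    K.normalizerMonoidHom.comp (Subgroup.inclusion (zpowers_le.2 hK))
  letI : MulAction ↥(zpowers y) ↥K := MulAction.compHom ↥K act
  have hP : IsPGroup 5 ↥(zpowers y) := IsPGroup.of_card (n := 1) (by rw [Nat.card_zpowers, hy, pow_one])
  have h := hP.card_modEq_card_fixedPoints ↥K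
  have h1 : MulAction.fixedPoints ↥(zpowers y) ↥K = {1} := by
    ext k
    simp only [MulAction.mem_fixedPoints, Set.mem_singleton_iff]
    refine ⟨fun hk => Subtype.ext (hfix k k.2 ?_), fun hk z => ?_⟩
    · have := congrArg Subtype.val (hk ⟨y, mem_zpowers y⟩)
      change y * (k : L) * y⁻¹ = (k : L) at this
      exact (mul_inv_eq_iff_eq_mul.1 this).symm
    · subst hk
      exact map_one (act z)
  rw [h1, show Nat.card ↥({1} : Set ↥K) = 1 from Nat.card_unique] at h
  exact h

/-- The data. -/
structure SevenTwenty (x : L) : Prop where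
  card : Nat.card L = 720
  order : orderOf x = 5
  cent : Nat.card (centralizer ({x} : Set L)) = 5
  norm : Nat.card (Subgroup.normalizer (zpowers x : Set L)) = 20

variable {x : L} (H : SevenTwenty x)
include H

theorem SevenTwenty.sylow_zpowers {y : L} (hy : orderOf y = 5) :
    ∃ P : Sylow 5 L, (P : Subgroup L) = zpowers y := by
  haveI : Fact (Nat.Prime 5) := ⟨by norm_num⟩
  have hP : IsPGroup 5 ↥(zpowers y) := IsPGroup.of_card (n := 1) (by rw [Nat.card_zpowers, hy, pow_one])
  obtain ⟨P, hP'⟩ := hP.exists_le_sylow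
  refine ⟨P, (Subgroup.eq_of_le_of_card_ge hP' ?_).symm⟩
  rw [Nat.card_zpowers, hy, P.card_eq_multiplicity, H.card]
  have : (720 : ℕ).factorization 5 = 1 := by
    rw [show (720 : ℕ) = 5 * 144 by norm_num, Nat.factorization_mul (by norm_num) (by norm_num),
      Finsupp.add_apply, Nat.Prime.factorization_self (by norm_num),
      Nat.factorization_eq_zero_of_not_dvd (by norm_num)]
  rw [this, pow_one]

theorem SevenTwenty.exists_conj {y : L} (hy : orderOf y = 5) :
    ∃ g : L, (zpowers x).map (MulAut.conj g).toMonoidHom = zpowers y := by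
  haveI : Fact (Nat.Prime 5) := ⟨by norm_num⟩
  obtain ⟨P, hP⟩ := H.sylow_zpowers hy
  obtain ⟨Q, hQ⟩ := H.sylow_zpowers H.order
  obtain ⟨g, hg⟩ := MulAction.exists_smul_eq L Q P
  refine ⟨g, ?_⟩
  rw [← hQ, ← hP, ← hg]
  rfl

theorem SevenTwenty.cent_five {y : L} (hy : orderOf y = 5) {k : L} (hk : k * y = y * k)
    (h5 : ¬ 5 ∣ orderOf k) : k = 1 := by
  obtain ⟨g, hg⟩ := H.exists_conj hy
  have hyx : y ∈ (zpowers x).map (MulAut.conj g).toMonoidHom := hg ▸ mem_zpowers y
  have hxy : MulAut.conj g x ∈ zpowers y := hg ▸ Subgroup.mem_map_of_mem _ (mem_zpowers x)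
  obtain ⟨n, hn⟩ := mem_zpowers_iff.1 hxy
  have hc : Commute k (MulAut.conj g x) := by rw [← hn]; exact Commute.zpow_right hk n
  have hc' : g⁻¹ * k * g ∈ centralizer ({x} : Set L) := by
    rw [mem_centralizer_singleton_iff]
    have := hc.eq
    rw [MulAut.conj_apply] at this
    calc g⁻¹ * k * g * x = g⁻¹ * (k * (g * x * g⁻¹)) * g := by group
      _ = g⁻¹ * (g * x * g⁻¹ * k) * g := by rw [this]
      _ = x * (g⁻¹ * k * g) := by group
  have hd := (centralizer ({x} : Set L)).orderOf_dvd_natCard hc'
  rw [H.cent, show g⁻¹ * k * g = MulAut.conj g⁻¹ k by simp [MulAut.conj_apply], MulEquiv.orderOf_eq] at hd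
  rcases (Nat.dvd_prime (by norm_num)).1 hd with h | h
  · exact orderOf_eq_one_iff.1 h
  · exact absurd (by rw [h]) h5

/-- For a normal subgroup `M`, the normaliser of `zpowers y` meets `M` in index `M.index`. -/
theorem card_eq_of_sup_eq_top {M N : Subgroup L} [M.Normal] (h : N ⊔ M = ⊤) :
    Nat.card N * Nat.card M = 720 * Nat.card ↥(M ⊓ N : Subgroup L) := by
  have h1 : M.index = M.relIndex N := by
    rw [← Subgroup.relIndex_top_right, ← h, sup_comm, Subgroup.relIndex_sup_left]
  have h2 := (M.subgroupOf N).card_mul_index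
  rw [← Subgroup.relIndex, ← h1] at h2
  have h3 : Nat.card ↥(M.subgroupOf N) = Nat.card ↥(M ⊓ N : Subgroup L) := by
    rw [← Subgroup.inf_subgroupOf_right]
    exact Nat.card_congr (Subgroup.subgroupOfEquivOfLe inf_le_right).toEquiv
  rw [← h2, h3, ← H.card, ← M.card_mul_index]
  ring

theorem SevenTwenty.five_dvd {M : Subgroup L} [M.Normal] (hM : M ≠ ⊥) : 5 ∣ Nat.card M := by
  by_contra h5
  haveI : Fact (Nat.Prime 5) := ⟨by norm_num⟩
  haveI : Fact (Nat.Prime 3) := ⟨by norm_num⟩
  have hfix : ∀ {y : L} {K : Subgroup L}, orderOf y = 5 → K ≤ M → ∀ k ∈ K, k * y = y * k → k = 1 :=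
    fun {y K} hy hKM k hk hc => H.cent_five hy hc fun hd =>
      h5 (hd.trans (M.orderOf_dvd_natCard (hKM hk)))
  have hmod := card_mod_five H.order (M.normalizer_eq_top ▸ mem_top x) (hfix H.order le_rfl)
  have hdvd : Nat.card M ∣ 144 := by
    have := M.card_subgroup_dvd_card
    rw [H.card, show 720 = 5 * 144 by norm_num] at this
    exact ((Nat.Prime.coprime_iff_not_dvd (by norm_num)).2 h5).symm.dvd_of_dvd_mul_left this
  have hne : Nat.card M ≠ 1 := fun h => hM (Subgroup.card_eq_one.1 h)
  have hlist : Nat.card M = 6 ∨ Nat.card M = 16 ∨ Nat.card M = 36 := by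
    have hle := Nat.le_of_dvd (by norm_num) hdvd
    interval_cases hc : Nat.card M <;> omega
  rcases hlist with h6 | h16 | h36
  rotate_left
  · -- order 16: the quotient has a normal subgroup of order five
    have hq : Nat.card (L ⧸ M) = 45 := by
      have := M.card_eq_card_quotient_mul_card_subgroup
      rw [H.card, h16] at this
      omega
    obtain ⟨Y⟩ := (inferInstance : Nonempty (Sylow 5 (L ⧸ M)))
    have hY : Nat.card (Y : Subgroup (L ⧸ M)) = 5 := by
      rw [Y.card_eq_multiplicity, hq]
      have : (45 : ℕ).factorization 5 = 1 := by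
        rw [show (45 : ℕ) = 5 * 9 by norm_num, Nat.factorization_mul (by norm_num) (by norm_num),
          Finsupp.add_apply, Nat.Prime.factorization_self (by norm_num),
          Nat.factorization_eq_zero_of_not_dvd (by norm_num)]
      rw [this, pow_one]
    have hn : Nat.card (Sylow 5 (L ⧸ M)) = 1 := by
      have h1 := card_sylow_modEq_one 5 (L ⧸ M)
      have h2 := Y.card_dvd_index
      have h3 := (Y : Subgroup (L ⧸ M)).card_mul_index
      rw [hq, hY] at h3
      rw [show (Y : Subgroup (L ⧸ M)).index = 9 by omega] at h2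
      have h4 := Nat.le_of_dvd (by norm_num) h2
      unfold Nat.ModEq at h1
      interval_cases hc : Nat.card (Sylow 5 (L ⧸ M)) <;> omega
    haveI : (Y : Subgroup (L ⧸ M)).Normal := by
      haveI := (Nat.card_eq_one_iff_unique.1 hn).1
      exact Y.normal_of_subsingleton
    have hx : QuotientGroup.mk' M x ∈ (Y : Subgroup (L ⧸ M)) := by
      have hp : IsPGroup 5 ↥(zpowers (QuotientGroup.mk' M x)) := by
        refine IsPGroup.of_card (n := 1) ?_
        rw [Nat.card_zpowers, pow_one]
        rcases (Nat.dvd_prime (by norm_num : Nat.Prime 5)).1 (H.order ▸ orderOf_map_dvd (QuotientGroup.mk' M) x)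
          with h | h
        · exfalso
          have hxM : x ∈ M := (QuotientGroup.eq_one_iff x).1 (orderOf_eq_one_iff.1 h)
          exact h5 (H.order ▸ M.orderOf_dvd_natCard hxM)
        · exact h
      obtain ⟨P, hP⟩ := hp.exists_le_sylow
      haveI := (Nat.card_eq_one_iff_unique.1 hn).1
      exact Subsingleton.elim P Y ▸ hP (mem_zpowers _)
    set K := (Y : Subgroup (L ⧸ M)).comap (QuotientGroup.mk' M) with hK
    have hKc : Nat.card K = 80 := by
      have h1 := K.card_mul_index
      rw [hK, Subgroup.index_comap_of_surjective _ (QuotientGroup.mk'_surjective M)] at h1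
      have h3 := (Y : Subgroup (L ⧸ M)).card_mul_index
      rw [hq, hY] at h3
      rw [show (Y : Subgroup (L ⧸ M)).index = 9 by omega, H.card, ← hK] at h1
      omega
    obtain ⟨P, hP⟩ := H.sylow_zpowers H.order
    have hsup : Subgroup.normalizer (zpowers x : Set L) ⊔ K = ⊤ := by
      rw [← hP]
      exact P.normalizer_sup_eq_top' (hP ▸ zpowers_le.2 hx)
    have h := card_eq_of_sup_eq_top H hsup
    rw [hKc, H.norm] at h
    omega
  all_goals
    obtain ⟨P⟩ := (inferInstance : Nonempty (Sylow 3 ↥M))
    set P' := (P : Subgroup ↥M).map M.subtype with hP'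
    have hcard : Nat.card P' = Nat.card (P : Subgroup ↥M) :=
      Nat.card_congr ((P : Subgroup ↥M).equivMapOfInjective M.subtype M.subtype_injective).symm.toEquiv
    have hsup : Subgroup.normalizer (P' : Set L) ⊔ M = ⊤ := Sylow.normalizer_sup_eq_top P
    have h := card_eq_of_sup_eq_top H hsup
    have h5N : 5 ∣ Nat.card (Subgroup.normalizer (P' : Set L)) := by
      have : 5 ∣ Nat.card (Subgroup.normalizer (P' : Set L)) * Nat.card M := by
        rw [h]; exact dvd_mul_of_dvd_left (by norm_num) _
      exact ((Nat.Prime.dvd_mul (by norm_num)).1 this).resolve_right h5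
    obtain ⟨y, hy⟩ := exists_prime_orderOf_dvd_card' 5 h5N
    have hmod' := card_mod_five (K := P') (y := (y : L)) (by rw [Subgroup.orderOf_coe, hy]) y.2
      (hfix (by rw [Subgroup.orderOf_coe, hy]) (Subgroup.map_subtype_le _))
    rw [hcard, P.card_eq_multiplicity] at hmod'
    first
      | (have e : (6 : ℕ).factorization 3 = 1 := by
          rw [show (6 : ℕ) = 3 * 2 by norm_num, Nat.factorization_mul (by norm_num) (by norm_num),
            Finsupp.add_apply, Nat.Prime.factorization_self (by norm_num),
            Nat.factorization_eq_zero_of_not_dvd (by norm_num)]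
         rw [h6, e] at hmod'
         norm_num at hmod')
      | (have e : (36 : ℕ).factorization 3 = 2 := by
          rw [show (36 : ℕ) = 3 ^ 2 * 4 by norm_num, Nat.factorization_mul (by norm_num) (by norm_num),
            Finsupp.add_apply, Nat.factorization_pow, Finsupp.smul_apply,
            Nat.Prime.factorization_self (by norm_num), Nat.factorization_eq_zero_of_not_dvd (by norm_num)]
          norm_num
         rw [h36, e] at hmod'
         norm_num at hmod')

/-- A nontrivial normal subgroup has order 360 or 720. -/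
theorem SevenTwenty.card_normal {M : Subgroup L} [M.Normal] (hM : M ≠ ⊥) :
    Nat.card M = 360 ∨ Nat.card M = 720 := by
  haveI : Fact (Nat.Prime 5) := ⟨by norm_num⟩
  obtain ⟨y, hy⟩ := exists_prime_orderOf_dvd_card' 5 (H.five_dvd hM)
  have hy' : orderOf (y : L) = 5 := by rw [Subgroup.orderOf_coe, hy]
  obtain ⟨g, hg⟩ := H.exists_conj hy'
  have hxM : x ∈ M := by
    have hxy : MulAut.conj g x ∈ zpowers (y : L) := hg ▸ Subgroup.mem_map_of_mem _ (mem_zpowers x)
    have := (inferInstance : M.Normal).conj_mem _ (zpowers_le.2 y.2 hxy) g⁻¹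
    simpa [MulAut.conj_apply, mul_assoc] using this
  obtain ⟨P, hP⟩ := H.sylow_zpowers H.order
  have hsup : Subgroup.normalizer (zpowers x : Set L) ⊔ M = ⊤ := by
    rw [← hP]
    exact P.normalizer_sup_eq_top' (hP ▸ zpowers_le.2 hxM)
  have h := card_eq_of_sup_eq_top H hsup
  rw [H.norm] at h
  set MN : Subgroup L := M ⊓ Subgroup.normalizer (zpowers x : Set L) with hMN
  have hd20 : Nat.card MN ∣ 20 := H.norm ▸ Subgroup.card_dvd_of_le inf_le_right
  have h5 : 5 ∣ Nat.card MN := H.order ▸ Subgroup.orderOf_dvd_natCard MN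
    (show x ∈ MN from ⟨hxM, Subgroup.le_normalizer (mem_zpowers x)⟩)
  have hle := Nat.le_of_dvd (by norm_num) hd20
  by_cases hfive : Nat.card MN = 5
  · exfalso
    have hM180 : Nat.card M = 180 := by omega
    have hx' : IsPGroup 5 ↥(zpowers (⟨x, hxM⟩ : ↥M)) :=
      IsPGroup.of_card (n := 1) (by rw [Nat.card_zpowers, Subgroup.orderOf_mk, H.order, pow_one])
    obtain ⟨Q, hQ⟩ := hx'.exists_le_sylow
    have hQeq : zpowers (⟨x, hxM⟩ : ↥M) = (Q : Subgroup ↥M) := by
      refine Subgroup.eq_of_le_of_card_ge hQ ?_
      rw [Nat.card_zpowers, Subgroup.orderOf_mk, H.order, Q.card_eq_multiplicity, hM180]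
      have : (180 : ℕ).factorization 5 = 1 := by
        rw [show (180 : ℕ) = 5 * 36 by norm_num, Nat.factorization_mul (by norm_num) (by norm_num),
          Finsupp.add_apply, Nat.Prime.factorization_self (by norm_num),
          Nat.factorization_eq_zero_of_not_dvd (by norm_num)]
      rw [this, pow_one]
    have hMNx : MN = zpowers x := (Subgroup.eq_of_le_of_card_ge
      (zpowers_le.2 (show x ∈ MN from ⟨hxM, Subgroup.le_normalizer (mem_zpowers x)⟩))
      (by rw [hfive, Nat.card_zpowers, H.order])).symm
    have hcond : Subgroup.normalizer ((Q : Subgroup ↥M) : Set ↥M) ≤ centralizer ((Q : Subgroup ↥M) : Set ↥M) := by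
      rw [← hQeq]
      intro n hn
      have hnMN : (n : L) ∈ MN := by
        refine ⟨n.2, Subgroup.mem_normalizer_iff.2 fun z => ?_⟩
        have hn' := Subgroup.mem_normalizer_iff.1 hn
        constructor
        · intro hz
          have := (hn' ⟨z, (zpowers_le.2 hxM) hz⟩).1 (by
            obtain ⟨m, hm⟩ := mem_zpowers_iff.1 hz
            exact mem_zpowers_iff.2 ⟨m, Subtype.ext (by simp [← hm])⟩)
          obtain ⟨m, hm⟩ := mem_zpowers_iff.1 this
          exact mem_zpowers_iff.2 ⟨m, by simpa using congrArg Subtype.val hm⟩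
        · intro hz
          have hzM : z ∈ M := by
            have := (inferInstance : M.Normal).conj_mem _ (zpowers_le.2 hxM hz) (n : L)⁻¹
            simpa [mul_assoc] using this
          have := (hn' ⟨z, hzM⟩).2 (by
            obtain ⟨m, hm⟩ := mem_zpowers_iff.1 hz
            exact mem_zpowers_iff.2 ⟨m, Subtype.ext (by simp [← hm])⟩)
          obtain ⟨m, hm⟩ := mem_zpowers_iff.1 this
          exact mem_zpowers_iff.2 ⟨m, by simpa using congrArg Subtype.val hm⟩
      rw [hMNx] at hnMN
      rw [Subgroup.mem_centralizer_iff]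
      intro z hz
      obtain ⟨m, hm⟩ := mem_zpowers_iff.1 hnMN
      obtain ⟨m', hm'⟩ := mem_zpowers_iff.1 hz
      refine Subtype.ext ?_
      simp only [Subgroup.coe_mul, ← hm', ← hm, Subgroup.coe_zpow]
      rw [← zpow_add, ← zpow_add, add_comm]
    have hcompl := MonoidHom.ker_transferSylow_isComplement' Q hcond
    set f := MonoidHom.transferSylow Q hcond with hf
    have hQc : Nat.card (Q : Subgroup ↥M) = 5 := by
      rw [← hQeq, Nat.card_zpowers, Subgroup.orderOf_mk, H.order]
    have hker : Nat.card f.ker = 36 := by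
      have := hcompl.card_mul
      rw [hQc, hM180] at this
      omega
    set K := f.ker.map M.subtype with hK
    have hKc : Nat.card K = 36 := by
      rw [← hker]
      exact Nat.card_congr (f.ker.equivMapOfInjective M.subtype M.subtype_injective).symm.toEquiv
    haveI hKn : K.Normal := by
      refine ⟨fun a ha g => ?_⟩
      obtain ⟨a, ha', rfl⟩ := Subgroup.mem_map.1 ha
      refine Subgroup.mem_map.2 ⟨⟨g * a * g⁻¹, (inferInstance : M.Normal).conj_mem _ a.2 g⟩, ?_, rfl⟩
      have h36 : a ^ 36 = 1 := by
        have := congrArg Subtype.val (pow_card_eq_one' (x := (⟨a, ha'⟩ : f.ker)))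
        rwa [hker] at this
      set b : ↥M := ⟨g * a * g⁻¹, (inferInstance : M.Normal).conj_mem _ a.2 g⟩ with hb
      have hb36 : b ^ 36 = 1 := Subtype.ext (by
        rw [hb, Subgroup.coe_pow, conj_pow, ← Subgroup.coe_pow, h36]; simp)
      rw [MonoidHom.mem_ker, ← orderOf_eq_one_iff]
      have h1 : orderOf (f b) ∣ 36 := orderOf_dvd_of_pow_eq_one (by rw [← map_pow, hb36, map_one])
      have h2 : orderOf (f b) ∣ 5 := by
        have := orderOf_dvd_natCard (f b)
        rwa [hQc] at this
      exact Nat.eq_one_of_dvd_coprimes (by norm_num) h1 h2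
    have := H.five_dvd (M := K) (fun h => by rw [h, Subgroup.card_bot] at hKc; omega)
    rw [hKc] at this
    omega
  · interval_cases hc : Nat.card MN <;> omega

theorem SevenTwenty.exists_simple : ∃ M : Subgroup L, M.Normal ∧ M.index = 2 ∧ Nat.card M = 360 ∧
    IsSimpleGroup ↥M ∧ centralizer (M : Set L) = ⊥ := by
  have hns : ¬ IsSimpleGroup L := by
    intro hs
    have hnc : ¬ IsMulCommutative L := fun hcomm => by
      have h20 := H.cent
      rw [show centralizer ({x} : Set L) = ⊤ from eq_top_iff.2 fun g _ =>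
        mem_centralizer_singleton_iff.2 (hcomm.is_comm.comm g x), Subgroup.card_top, H.card] at h20
      omega
    have := CfsgLib.SmallOrder.card_mem_of_rangeExcluded hnc (a := 720) (len := 1) (exc := [])
      (by decide +kernel) H.card.ge (by rw [H.card]; norm_num)
    simp at this
  haveI : Nontrivial L := Finite.one_lt_card_iff_nontrivial.1 (by rw [H.card]; norm_num)
  obtain ⟨M, hMn, hM1, hM2⟩ : ∃ M : Subgroup L, M.Normal ∧ M ≠ ⊥ ∧ M ≠ ⊤ := by
    by_contra hcon
    push Not at hcon
    exact hns ⟨fun K hK => (em (K = ⊥)).imp_right fun h => hcon K hK h⟩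
  have hM : Nat.card M = 360 := by
    rcases H.card_normal hM1 with h | h
    · exact h
    · exact absurd (Subgroup.eq_top_of_le_card M (by rw [H.card, h])) hM2
  have hidx : M.index = 2 := by
    have := M.card_mul_index
    rw [hM, H.card] at this
    omega
  refine ⟨M, hMn, hidx, hM, ?_, ?_⟩
  · haveI : Nontrivial ↥M := Finite.one_lt_card_iff_nontrivial.1 (by rw [hM]; norm_num)
    refine ⟨fun K hK => ?_⟩
    by_contra hcon
    push Not at hcon
    obtain ⟨g, hg⟩ : ∃ g, g ∉ M := by
      by_contra hall
      push Not at hall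
      exact hM2 (eq_top_iff.2 fun g _ => hall g)
    let c : L →* MulAut ↥M := MulAut.conjNormal
    have hcM : ∀ (A : Subgroup ↥M), A.Normal → ∀ m ∈ M, A.map (c m).toMonoidHom = A := by
      intro A hA m hm
      refine Subgroup.eq_of_le_of_card_ge ?_ ?_
      · rintro _ ⟨a, ha, rfl⟩
        have := hA.conj_mem a ha ⟨m, hm⟩
        convert this using 1
        exact Subtype.ext (by simp [c])
      · exact le_of_eq (Nat.card_congr (A.equivMapOfInjective _ (c m).injective).toEquiv)
    have hgm : ∀ (A : Subgroup ↥M) (a b : L),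
        A.map (c (a * b)).toMonoidHom = (A.map (c b).toMonoidHom).map (c a).toMonoidHom := by
      intro A a b
      rw [Subgroup.map_map]
      congr 1
      ext m
      simp [map_mul]
    set K2 := K.map (c g).toMonoidHom with hK2
    haveI hK2n : K2.Normal := hK.map _ (c g).surjective
    have hback : K2.map (c g).toMonoidHom = K := by
      rw [hK2, ← hgm]
      exact hcM K hK _ (by
        have := Subgroup.mul_mem_iff_of_index_two hidx (a := g) (b := g)
        exact this.2 Iff.rfl)
    have hnorm : ∀ A : Subgroup ↥M, A.Normal → A.map (c g).toMonoidHom = A → (A.map M.subtype).Normal := by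
      intro A hA hAg
      refine ⟨fun a ha l => ?_⟩
      obtain ⟨a, ha', rfl⟩ := Subgroup.mem_map.1 ha
      refine Subgroup.mem_map.2 ⟨c l a, ?_, by simp [c]⟩
      have hl : A.map (c l).toMonoidHom = A := by
        by_cases hl : l ∈ M
        · exact hcM A hA l hl
        · have hlg : g⁻¹ * l ∈ M := (Subgroup.mul_mem_iff_of_index_two hidx).2 (by simp [inv_mem_iff, hg, hl])
          rw [show l = g * (g⁻¹ * l) by group, hgm, hcM A hA _ hlg, hAg]
      exact hl ▸ Subgroup.mem_map_of_mem _ ha'
    have hcase : ∀ A : Subgroup ↥M, A.Normal → A.map (c g).toMonoidHom = A → A ≠ ⊥ → A = ⊤ := by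
      intro A hA hAg hA1
      haveI := hnorm A hA hAg
      have hc : Nat.card (A.map M.subtype) = Nat.card A :=
        Nat.card_congr (A.equivMapOfInjective M.subtype M.subtype_injective).symm.toEquiv
      have hne : A.map M.subtype ≠ ⊥ := fun h => hA1 ((Subgroup.map_eq_bot_iff_of_injective _ M.subtype_injective).1 h)
      have hle := A.card_subgroup_dvd_card
      rw [hM] at hle
      have hle' := Nat.le_of_dvd (by norm_num) hle
      rcases H.card_normal hne with h | h
      · exact Subgroup.eq_top_of_le_card A (by rw [hM, ← hc, h])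
      · omega
    have hinf : K ⊓ K2 = ⊥ := by
      by_contra hne
      have hsym : (K ⊓ K2).map (c g).toMonoidHom = K ⊓ K2 := by
        rw [Subgroup.map_inf _ _ (c g).toMonoidHom (c g).injective, ← hK2, hback, inf_comm]
      exact hcon.2 (eq_top_iff.2 ((hcase _ inferInstance hsym hne) ▸ inf_le_left))
    have htop : K ⊔ K2 = ⊤ := hcase _ inferInstance (by rw [Subgroup.map_sup, ← hK2, hback, sup_comm])
      (fun h => hcon.1 (le_bot_iff.1 (h ▸ le_sup_left)))
    have hcard : Nat.card K * Nat.card K2 = 360 := by
      have h1 : K.index = K.relIndex K2 := by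
        rw [← Subgroup.relIndex_top_right, ← htop, Subgroup.relIndex_sup_left]
      have h2 : K.relIndex K2 = Nat.card K2 := by
        rw [← Subgroup.inf_relIndex_right, hinf, Subgroup.relIndex_bot_left]
      rw [← hM, ← K.card_mul_index, h1, h2]
    have hKK2 : Nat.card K2 = Nat.card K :=
      Nat.card_congr (K.equivMapOfInjective _ (c g).injective).symm.toEquiv
    rw [hKK2] at hcard
    have : Nat.card K ≤ 18 := by nlinarith
    interval_cases Nat.card K <;> omega
  · by_contra hne
    haveI hCn : (centralizer (M : Set L)).Normal := inferInstance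
    rcases H.card_normal hne with h | h
    · have hle : M ≤ centralizer ({x} : Set L) → False := fun hle => by
        have := Subgroup.card_le_of_le hle
        rw [hM, H.cent] at this
        omega
      have h5 := H.five_dvd (M := centralizer (M : Set L)) hne
      haveI : Fact (Nat.Prime 5) := ⟨by norm_num⟩
      obtain ⟨y, hy⟩ := exists_prime_orderOf_dvd_card' 5 h5
      obtain ⟨gg, hgg⟩ := H.exists_conj (y := (y : L)) (by rw [Subgroup.orderOf_coe, hy])
      refine hle fun m hm => mem_centralizer_singleton_iff.2 ?_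
      have hxy : MulAut.conj gg x ∈ zpowers (y : L) := hgg ▸ Subgroup.mem_map_of_mem _ (mem_zpowers x)
      have hxC : x ∈ centralizer (M : Set L) := by
        have := hCn.conj_mem _ (zpowers_le.2 y.2 hxy) gg⁻¹
        simpa [MulAut.conj_apply, mul_assoc] using this
      exact mem_centralizer_iff.1 hxC m hm
    · have := Subgroup.eq_top_of_le_card _ (show Nat.card L ≤ Nat.card (centralizer (M : Set L)) by rw [H.card, h])
      have hxC : x ∈ centralizer (M : Set L) := this ▸ mem_top x
      have hle : M ≤ centralizer ({x} : Set L) := fun m hm =>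
        mem_centralizer_singleton_iff.2 (mem_centralizer_iff.1 hxC m hm)
      have := Subgroup.card_le_of_le hle
      rw [hM, H.cent] at this
      omega

end CfsgLib.M12Counts
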