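import Cfsg.Agent.Lib.Recog.OrderCounts
import Cfsg.Agent.Lib.Leech.Simple.Engine
import Cfsg.Agent.Lib.Order175560.Count
import Cfsg.Agent.Lib.SmallOrder.Basic

/-!
Groups of order 95040 whose element-order counts are those of M12: the primes 11 and 5, simplicity.
-/

set_option autoImplicit false
set_option linter.style.haveILetI false

namespace CfsgLib.M12Counts

open Subgroup CfsgLib.Recog.OrderCounts

/-- The possible numbers of elements of a given order. -/
def vals : List ℕ := [1, 891, 4400, 5940, 9504, 17280, 23760]

/-- The hypothesis. -/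
structure Hyp (G : Type*) [Group G] : Prop where
  card : Nat.card G = 95040
  mem : ∀ n, cnt G n ≠ 0 → cnt G n ∈ vals

variable {G : Type*} [Group G] [Finite G] (H : Hyp G)
include H

theorem cnt_prime_pos {p : ℕ} (hp : p.Prime) (h : p ∣ 95040) : cnt G p ≠ 0 :=
  (cnt_pos_of_prime_dvd hp (by rw [H.card]; exact h)).ne'

theorem cnt_mod {p : ℕ} (hp : p.Prime) (h : p ∣ 95040) : (1 + cnt G p) % p = 0 := by
  have := dvd_sum (G := G) hp.ne_zero (by rw [H.card]; exact h)
  rw [hp.sum_divisors, cnt_one, add_comm] at this
  exact Nat.mod_eq_zero_of_dvd (by rwa [add_comm] at this ⊢)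

theorem cnt_three : cnt G 3 = 4400 := by
  have h1 := cnt_mod H Nat.prime_three (by norm_num)
  have h2 := totient_dvd (G := G) 3
  rw [Nat.totient_prime Nat.prime_three] at h2
  have h3 := H.mem 3 (cnt_prime_pos H Nat.prime_three (by norm_num))
  simp only [vals, List.mem_cons, List.not_mem_nil, or_false] at h3
  rcases h3 with h | h | h | h | h | h | h <;> rw [h] at h1 h2 <;> first | exact h | omega

theorem sylow_eleven : Nat.card (Sylow 11 G) = 1728 ∧ cnt G 11 = 17280 := by
  haveI : Fact (Nat.Prime 11) := ⟨by norm_num⟩
  have he : cnt G 11 = Nat.card (Sylow 11 G) * (11 - 1) :=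
    cnt_prime_eq (by rw [H.card]; norm_num) (by rw [H.card]; norm_num)
  have hd : Nat.card (Sylow 11 G) ∣ 95040 := by
    rw [← H.card, ← SmallOrder.card_normalizer_mul (default : Sylow 11 G)]
    exact dvd_mul_left _ _
  have hm := card_sylow_modEq_one 11 G
  rw [Nat.ModEq] at hm
  have h3 := H.mem 11 (cnt_prime_pos H (by norm_num) (by norm_num))
  simp only [vals, List.mem_cons, List.not_mem_nil, or_false] at h3
  generalize hn : Nat.card (Sylow 11 G) = n at *
  rcases h3 with h | h | h | h | h | h | h <;> rw [h] at he <;> norm_num at he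
  all_goals
    first
      | omega
      | (have : n = 440 := by omega
         subst this; norm_num at hd)
      | (have : n = 1728 := by omega
         subst this; exact ⟨rfl, h⟩)
      | (have : n = 594 := by omega
         subst this; norm_num at hm)
      | (have : n = 2376 := by omega
         subst this; norm_num at hm)

theorem sylow_five : Nat.card (Sylow 5 G) = 2376 ∧ cnt G 5 = 9504 := by
  haveI : Fact (Nat.Prime 5) := ⟨by norm_num⟩
  have he : cnt G 5 = Nat.card (Sylow 5 G) * (5 - 1) :=
    cnt_prime_eq (by rw [H.card]; norm_num) (by rw [H.card]; norm_num)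
  have hd : Nat.card (Sylow 5 G) ∣ 95040 := by
    rw [← H.card, ← SmallOrder.card_normalizer_mul (default : Sylow 5 G)]
    exact dvd_mul_left _ _
  have hm := card_sylow_modEq_one 5 G
  rw [Nat.ModEq] at hm
  have h3 := H.mem 5 (cnt_prime_pos H (by norm_num) (by norm_num))
  simp only [vals, List.mem_cons, List.not_mem_nil, or_false] at h3
  generalize hn : Nat.card (Sylow 5 G) = n at *
  rcases h3 with h | h | h | h | h | h | h <;> rw [h] at he <;> norm_num at he
  all_goals
    first
      | omega
      | (have : n = 2376 := by omega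
         subst this; exact ⟨rfl, h⟩)
      | (have : n = 1100 := by omega
         subst this; norm_num at hm)
      | (have : n = 1485 := by omega
         subst this; norm_num at hm)
      | (have : n = 4320 := by omega
         subst this; norm_num at hm)
      | (have : n = 5940 := by omega
         subst this; norm_num at hm)

omit H in
theorem card_lt_of_injective {α β : Type*} [Finite α] [Finite β] (f : α → β) (hf : Function.Injective f)
    (hs : ¬ Function.Surjective f) : Nat.card α < Nat.card β := by
  have := Fintype.ofFinite α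
  have := Fintype.ofFinite β
  rw [Nat.card_eq_fintype_card, Nat.card_eq_fintype_card]
  exact Fintype.card_lt_of_injective_not_surjective f hf hs

omit H [Finite G] in
theorem card_zp {p : ℕ} {g : G} (hg : orderOf g = p) : Nat.card ↥(zpowers g) = p := by
  rw [Nat.card_zpowers, hg]

theorem normalizer_prime {p : ℕ} [Fact p.Prime] (h1 : p ∣ 95040) (h2 : ¬ p ^ 2 ∣ 95040) {g : G}
    (hg : orderOf g = p) :
    Nat.card ↥(normalizer ((zpowers g : Subgroup G) : Set G)) * Nat.card (Sylow p G) = 95040 := by
  obtain ⟨m, hm⟩ := h1
  have hpm : ¬ p ∣ m := fun h => h2 (by rw [pow_two, hm]; exact mul_dvd_mul_left p h)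
  obtain ⟨T, hT⟩ := (IsPGroup.of_card (n := 1) (by rw [card_zp hg, pow_one]) :
    IsPGroup p ↥(zpowers g)).exists_le_sylow
  have he : zpowers g = (T : Subgroup G) := eq_of_le_of_card_ge hT (by
    rw [card_zp hg, SmallOrder.card_sylow_eq (e := 1) (m := m) (by rw [H.card, pow_one, hm]) hpm T, pow_one])
  rw [he, SmallOrder.card_normalizer_mul T, H.card]

omit H [Finite G] in
theorem centralizer_le_normalizer_zp (g : G) :
    centralizer ({g} : Set G) ≤ normalizer ((zpowers g : Subgroup G) : Set G) := by
  rw [← Subgroup.centralizer_closure, ← Subgroup.zpowers_eq_closure]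
  exact centralizer_le_normalizer _

theorem normalizer_five {x : G} (hx : orderOf x = 5) :
    Nat.card ↥(normalizer ((zpowers x : Subgroup G) : Set G)) = 40 := by
  haveI : Fact (Nat.Prime 5) := ⟨by norm_num⟩
  have h := normalizer_prime H (p := 5) (by norm_num) (by norm_num) hx
  rw [(sylow_five H).1] at h
  omega

/-- The centraliser of an element of order 11. -/
theorem centralizer_eleven {a : G} (ha : orderOf a = 11) :
    Nat.card ↥(centralizer ({a} : Set G)) = 11 := by
  haveI : Fact (Nat.Prime 11) := ⟨by norm_num⟩
  haveI : Fact (Nat.Prime 5) := ⟨by norm_num⟩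
  have hN : Nat.card ↥(normalizer ((zpowers a : Subgroup G) : Set G)) = 55 := by
    have h := normalizer_prime H (p := 11) (by norm_num) (by norm_num) ha
    rw [(sylow_eleven H).1] at h
    omega
  have hd := card_dvd_of_le (centralizer_le_normalizer_zp a)
  rw [hN] at hd
  have h11 : 11 ∣ Nat.card ↥(centralizer ({a} : Set G)) := by
    rw [← ha]
    exact orderOf_dvd_natCard _ (mem_centralizer_singleton_iff.2 rfl)
  have h5 : ¬ 5 ∣ Nat.card ↥(centralizer ({a} : Set G)) := by
    intro h
    obtain ⟨⟨y, hy⟩, hyo⟩ := exists_prime_orderOf_dvd_card' 5 h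
    rw [Subgroup.orderOf_mk] at hyo
    have hmem : a ∈ normalizer ((zpowers y : Subgroup G) : Set G) :=
      centralizer_le_normalizer_zp y (mem_centralizer_singleton_iff.2 (mem_centralizer_singleton_iff.1 hy).symm)
    have := orderOf_dvd_natCard _ hmem
    rw [normalizer_five H hyo, ha] at this
    norm_num at this
  have : ∀ c : ℕ, c ∣ 55 → 11 ∣ c → ¬ 5 ∣ c → c = 11 := by
    intro c hc
    have : c ≤ 55 := Nat.le_of_dvd (by norm_num) hc
    interval_cases c <;> omega
  exact this _ hd h11 h5

theorem not_commute_eleven {a y : G} (ha : orderOf a = 11) (h : y * a = a * y) : orderOf y ∣ 11 := by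
  rw [← centralizer_eleven H ha]
  exact orderOf_dvd_natCard _ (mem_centralizer_singleton_iff.2 h)

/-- There is no non-trivial proper normal subgroup. -/
theorem normal_eq (K : Subgroup G) [K.Normal] : K = ⊥ ∨ K = ⊤ := by
  haveI : Fact (Nat.Prime 11) := ⟨by norm_num⟩
  obtain ⟨a, ha⟩ := exists_prime_orderOf_dvd_card' (G := G) 11 (by rw [H.card]; norm_num)
  by_cases h11 : 11 ∣ Nat.card K
  · right
    -- all elements of order 11 lie in K
    obtain ⟨⟨k, hkK⟩, hk⟩ := exists_prime_orderOf_dvd_card' (G := K) 11 h11
    rw [Subgroup.orderOf_mk] at hk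
    have h2 : ¬ 11 ^ 2 ∣ Nat.card G := by rw [H.card]; norm_num
    have all11 : ∀ g : G, orderOf g = 11 → g ∈ K := by
      intro g hg
      have hkey : ∀ b : G, orderOf b = 11 → ∃ T : Sylow 11 G, (T : Subgroup G) = zpowers b := fun b hb =>
        ⟨Sylow.ofCard (zpowers b) (by
          rw [card_zp hb, H.card]
          have e : (95040 : ℕ) = 11 ^ 1 * 8640 := by norm_num
          rw [e, Nat.factorization_mul (by norm_num) (by norm_num), Finsupp.add_apply,
            (by norm_num : Nat.Prime 11).factorization_pow, Finsupp.single_eq_same,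
            Nat.factorization_eq_zero_of_not_dvd (by norm_num : ¬ 11 ∣ 8640)]
          norm_num), rfl⟩
      obtain ⟨T, hT⟩ := hkey k hk
      obtain ⟨U, hU⟩ := hkey g hg
      obtain ⟨c, hc⟩ := MulAction.exists_smul_eq G T U
      have hgU : g ∈ ((c • T : Sylow 11 G) : Subgroup G) := by rw [hc, hU]; exact mem_zpowers g
      rw [Sylow.coe_subgroup_smul, hT] at hgU
      obtain ⟨y, hy, rfl⟩ := hgU
      exact Subgroup.Normal.conj_mem inferInstance _ (zpowers_le.2 hkK hy) c
    have hbig : 17280 < Nat.card K := by
      rw [← (sylow_eleven H).2]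
      refine card_lt_of_injective (fun g : {g : G // orderOf g = 11} =>
        (⟨g.1, all11 _ g.2⟩ : K)) (fun a b e => Subtype.ext (congrArg Subtype.val e :)) fun hs => ?_
      obtain ⟨g, hg⟩ := hs ⟨1, one_mem K⟩
      have h1 : g.1 = 1 := congrArg Subtype.val hg
      have := g.2
      rw [h1, orderOf_one] at this
      omega
    have hdK : Nat.card K ∣ 95040 := H.card ▸ K.card_subgroup_dvd_card
    have hidx : K.index ≤ 5 := by
      have h := K.card_mul_index
      rw [H.card] at h
      by_contra hlt
      have h6 : Nat.card K * 6 ≤ Nat.card K * K.index := Nat.mul_le_mul_left _ (by omega)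
      omega
    -- elements of order prime to the index lie in K
    have hin : ∀ g : G, (orderOf g).Coprime K.index → g ∈ K := by
      intro g hg
      rw [← QuotientGroup.eq_one_iff (N := K), ← orderOf_eq_one_iff]
      exact Nat.eq_one_of_dvd_coprimes hg (orderOf_map_dvd (QuotientGroup.mk' K) g)
        (orderOf_dvd_natCard _)
    by_contra hne
    have hi1 : K.index ≠ 1 := fun e => hne (index_eq_one.1 e)
    have hd : 11 ∣ Nat.card K := h11
    have hKi := K.card_mul_index
    rw [H.card] at hKi
    -- the index is 5
    have hi5 : K.index = 5 := by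
      have hn : 1728 ∣ Nat.card K := by
        obtain ⟨T⟩ := (inferInstance : Nonempty (Sylow 11 K))
        have hc : cnt K 11 = 17280 := by
          rw [← (sylow_eleven H).2]
          exact Nat.card_congr
            { toFun := fun g => ⟨g.1.1, by rw [Subgroup.orderOf_coe]; exact g.2⟩
              invFun := fun g => ⟨⟨g.1, all11 _ g.2⟩, by rw [Subgroup.orderOf_mk]; exact g.2⟩
              left_inv := fun g => rfl
              right_inv := fun g => rfl }
        rw [cnt_prime_eq h11 (fun h => h2 (h.trans K.card_subgroup_dvd_card))] at hc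
        have : Nat.card (Sylow 11 K) = 1728 := by omega
        rw [← this, ← SmallOrder.card_normalizer_mul T]
        exact dvd_mul_left _ _
      obtain ⟨m, hm⟩ := hn
      obtain ⟨l, hl⟩ := hd
      have hcases : K.index = 2 ∨ K.index = 3 ∨ K.index = 4 ∨ K.index = 5 := by
        have := Subgroup.index_ne_zero_of_finite (H := K)
        omega
      rcases hcases with e | e | e | e <;> rw [e] at hKi
      all_goals omega
    -- involutions and elements of order three would not fit
    rw [hi5] at hKi
    have h23 : cnt G 3 + cnt G 11 < Nat.card K := by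
      rw [cnt, cnt, ← Nat.card_sum]
      refine card_lt_of_injective (fun g : _ ⊕ _ => (Sum.elim
        (fun g : {g : G // orderOf g = 3} => (⟨g.1, hin _ (by rw [g.2, hi5]; norm_num)⟩ : K))
        (fun g : {g : G // orderOf g = 11} => (⟨g.1, all11 _ g.2⟩ : K))) g) ?_ fun hs => ?_
      · rintro (u | u) (v | v) e <;>
          simp only [Sum.elim_inl, Sum.elim_inr, Subtype.mk.injEq] at e <;> have e' : u.1 = v.1 := e
        · exact congrArg Sum.inl (Subtype.ext e')
        · have := u.2; rw [e', v.2] at this; omega
        · have := u.2; rw [e', v.2] at this; omega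
        · exact congrArg Sum.inr (Subtype.ext e')
      · obtain ⟨g | g, hg⟩ := hs ⟨1, one_mem K⟩ <;>
          have h1 : g.1 = 1 := congrArg Subtype.val hg <;> have := g.2 <;>
          rw [h1, orderOf_one] at this <;> omega
    rw [cnt_three H, (sylow_eleven H).2] at h23
    omega
  · left
    have hc := centralizer_eleven H ha
    have hfac : ∀ p, p.Prime → p ∣ Nat.card G → p = 2 ∨ p = 11 ∨ ∃ v, (p, v) ∈ [(3, 3), (5, 1)] := by
      intro p hp hd
      rw [H.card, show (95040 : ℕ) = 2 ^ 6 * 3 ^ 3 * 5 * 11 by norm_num] at hd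
      have h2 : ∀ q : ℕ, q.Prime → p ∣ q → p = q := fun q hq h => (Nat.prime_dvd_prime_iff_eq hp hq).1 h
      rcases hp.dvd_mul.1 hd with h | h
      · rcases hp.dvd_mul.1 h with h | h
        · rcases hp.dvd_mul.1 h with h | h
          · exact Or.inl (h2 2 Nat.prime_two (hp.dvd_of_dvd_pow h))
          · obtain rfl := h2 3 Nat.prime_three (hp.dvd_of_dvd_pow h)
            exact Or.inr (Or.inr ⟨3, by simp⟩)
        · obtain rfl := h2 5 (by norm_num) h
          exact Or.inr (Or.inr ⟨1, by simp⟩)
      · exact Or.inr (Or.inl (h2 11 (by norm_num) h))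
    have hp2 : IsPGroup 2 K := Leech.Simple.isPGroup_two ha h11 [(3, 3), (5, 1)] hfac (by
      intro e he
      simp only [List.mem_cons, List.not_mem_nil, or_false] at he
      rcases he with rfl | rfl
      · refine ⟨by rw [H.card]; norm_num, fun i hi => ?_, by rw [hc]; norm_num⟩
        interval_cases i <;> norm_num
      · refine ⟨by rw [H.card]; norm_num, fun i hi => ?_, by rw [hc]; norm_num⟩
        interval_cases i
        norm_num)
    obtain ⟨n, hn⟩ := IsPGroup.iff_card.1 hp2
    have hn6 : n ≤ 6 := by
      by_contra hlt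
      have : 2 ^ 7 ∣ 95040 := (pow_dvd_pow 2 (by omega : 7 ≤ n)).trans
        (hn ▸ H.card ▸ K.card_subgroup_dvd_card)
      norm_num at this
    have hle : K ≤ centralizer ({a} : Set G) := Leech.Simple.le_centralizer_of_pGroup Nat.prime_two ha
      (by rw [normalizer_eq_top_iff.2 inferInstance]; exact mem_top a) hn hn6 (by norm_num) (by
        intro i hi
        interval_cases i <;> norm_num)
    have hd := card_dvd_of_le hle
    rw [hc, hn] at hd
    rcases n with _ | n
    · exact eq_bot_of_card_eq _ (by rw [hn, pow_zero])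
    · exact absurd ((dvd_pow_self 2 (Nat.succ_ne_zero n)).trans hd) (by norm_num)

theorem isSimpleGroup : IsSimpleGroup G := by
  haveI : Nontrivial G := Finite.one_lt_card_iff_nontrivial.1 (by rw [H.card]; norm_num)
  exact ⟨fun K hK => normal_eq H K⟩

theorem not_comm : ¬ IsMulCommutative G := by
  have := isSimpleGroup H
  exact SmallOrder.not_comm_of_not_prime (by rw [H.card]; norm_num)

/-- There are 891 involutions. -/
theorem cnt_two : cnt G 2 = 891 := by
  have := isSimpleGroup H
  have h1 := cnt_mod H Nat.prime_two (by norm_num)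
  have h3 := H.mem 2 (cnt_prime_pos H Nat.prime_two (by norm_num))
  simp only [vals, List.mem_cons, List.not_mem_nil, or_false] at h3
  rcases h3 with h | h | h | h | h | h | h
  · exfalso
    have hs := Nat.card_eq_one_iff_unique.1 h
    obtain ⟨⟨z, hz⟩⟩ := hs.2
    have hzc : z ∈ center G := by
      refine mem_center_iff.2 fun g => ?_
      have := congrArg Subtype.val (hs.1.allEq (⟨g * z * g⁻¹, by
        rw [← MulAut.conj_apply, MulEquiv.orderOf_eq, hz]⟩ : {g : G // orderOf g = 2}) ⟨z, hz⟩)
      exact mul_inv_eq_iff_eq_mul.1 this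
    rw [SmallOrder.center_eq_bot_of_not_comm (not_comm H), mem_bot] at hzc
    rw [hzc, orderOf_one] at hz
    norm_num at hz
  all_goals rw [h] at h1; norm_num at h1
  all_goals exact h

end CfsgLib.M12Counts
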