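import Mathlib
import Cfsg.Agent.Lib.Recog.OrderThreeSixty

/-!
Facts about the alternating group of degree six, checked by enumeration: the centraliser of an involution
`mE`, its two Klein subgroups and elements of order three normalising them.
-/

set_option autoImplicit false

namespace CfsgLib.M12Counts.Six

open Equiv

/-- The group. -/
abbrev A6 : Type := ↥(alternatingGroup (Fin 6))

/-- The involution `(12)(34)`. -/
def mE : A6 := ⟨swap 0 1 * swap 2 3, Equiv.Perm.mem_alternatingGroup.2 (by decide +kernel)⟩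

/-- An involution of the first Klein subgroup. -/
def mA : A6 := ⟨swap 0 1 * swap 4 5, Equiv.Perm.mem_alternatingGroup.2 (by decide +kernel)⟩

/-- An involution of the second Klein subgroup. -/
def mB : A6 := ⟨swap 0 2 * swap 1 3, Equiv.Perm.mem_alternatingGroup.2 (by decide +kernel)⟩

/-- An element of order three normalising the first Klein subgroup. -/
def mC : A6 := ⟨swap 0 4 * swap 0 2 * (swap 1 5 * swap 1 3), Equiv.Perm.mem_alternatingGroup.2 (by decide +kernel)⟩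

/-- An element of order three normalising the second Klein subgroup. -/
def mD : A6 := ⟨swap 0 2 * swap 0 1, Equiv.Perm.mem_alternatingGroup.2 (by decide +kernel)⟩

theorem basic : mE * mE = 1 ∧ mE ≠ 1 ∧ mA * mE = mE * mA ∧ mB * mE = mE * mB ∧ mA * mA = 1 ∧ mB * mB = 1 ∧
    mA ≠ 1 ∧ mB ≠ 1 ∧ mA ≠ mE ∧ mB ≠ mE ∧ mC ≠ 1 ∧ mC * mC * mC = 1 ∧ mD * mD * mD = 1 ∧
    mB * mC * mB = mC⁻¹ ∧ mA * mD * mA = mD⁻¹ := by
  decide +kernel

theorem conj_mem_cent :
    (mC * mE * mC⁻¹) * mE = mE * (mC * mE * mC⁻¹) ∧ (mC * mA * mC⁻¹) * mE = mE * (mC * mA * mC⁻¹) ∧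
    (mD * mE * mD⁻¹) * mE = mE * (mD * mE * mD⁻¹) ∧ (mD * mB * mD⁻¹) * mE = mE * (mD * mB * mD⁻¹) := by
  decide +kernel

theorem image_first : ∀ y : A6, y * mE * y⁻¹ = mC * mE * mC⁻¹ → y * mA * y⁻¹ = mC * mA * mC⁻¹ →
    mB * y * mB = y⁻¹ → y = mC ∨ y = mE * mC * mE := by
  decide +kernel

theorem image_second : ∀ y : A6, y * mE * y⁻¹ = mD * mE * mD⁻¹ → y * mB * y⁻¹ = mD * mB * mD⁻¹ →
    mA * y * mA = y⁻¹ → y = mD ∨ y = mE * mD * mE := by
  decide +kernel

theorem cent_invol : ∀ q : A6, q * mE = mE * q → q * q = 1 →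
    q = 1 ∨ q = mE ∨ (mC * mE * mC⁻¹ = q ∨ mC⁻¹ * mE * mC = q) ∨
      (mD * mE * mD⁻¹ = mE * q ∨ mD⁻¹ * mE * mD = mE * q) := by
  decide +kernel

theorem witness : (mD * mE * mD⁻¹ = mE * mB ∨ mD⁻¹ * mE * mD = mE * mB) ∧
    (mC * mE * mC⁻¹ = mE * mA ∨ mC⁻¹ * mE * mC = mE * mA) := by
  decide +kernel

theorem five_inverted : ∀ h : A6, h * h = 1 → h ≠ 1 →
    ∃ y : A6, y ≠ 1 ∧ y ^ 5 = 1 ∧ h * y * h = y⁻¹ := by
  decide +kernel

theorem card_A6 : Nat.card A6 = 360 := by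
  rw [nat_card_alternatingGroup, Nat.card_fin]; rfl

theorem card_cent : Nat.card (Subgroup.centralizer ({mE} : Set A6)) = 8 := by
  have h : (Finset.univ.filter fun q : A6 => q * mE = mE * q).card = 8 := by decide +kernel
  rw [← h]
  exact (Nat.card_congr (Equiv.subtypeEquivRight fun q => Subgroup.mem_centralizer_singleton_iff)).trans
    (by rw [Nat.card_eq_fintype_card, Fintype.card_subtype])

theorem five_elem : (mC * mD) ^ 5 = 1 ∧ mC * mD ≠ 1 ∨ (mC * mD⁻¹) ^ 5 = 1 ∧ mC * mD⁻¹ ≠ 1 ∨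
    (mC * mD * mA) ^ 5 = 1 ∧ mC * mD * mA ≠ 1 := by
  decide +kernel

/-- The centraliser of `mE` with the two elements of order three generates. -/
theorem eq_top {H : Subgroup A6} (hE : ∀ q : A6, q * mE = mE * q → q ∈ H) (hC : mC ∈ H) (hD : mD ∈ H) :
    H = ⊤ := by
  by_contra hne
  have h8 : 8 ∣ Nat.card H := card_cent ▸ Subgroup.card_dvd_of_le fun q hq =>
    hE q (Subgroup.mem_centralizer_singleton_iff.1 hq)
  have h3 : 3 ∣ Nat.card H := by
    have h : orderOf mC = 3 := orderOf_eq_prime (by rw [pow_three, ← mul_assoc]; exact basic.2.2.2.2.2.2.2.2.2.2.2.1)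
      basic.2.2.2.2.2.2.2.2.2.2.1
    have := H.orderOf_dvd_natCard hC
    rwa [h] at this
  have h5 : 5 ∣ Nat.card H := by
    haveI : Fact (Nat.Prime 5) := ⟨by norm_num⟩
    have key : ∀ y ∈ H, y ^ 5 = 1 → y ≠ 1 → 5 ∣ Nat.card H := fun y hy h1 h2 => by
      have := H.orderOf_dvd_natCard hy
      rwa [orderOf_eq_prime h1 h2] at this
    have hA : mA ∈ H := hE _ basic.2.2.1
    rcases five_elem with ⟨a, b⟩ | ⟨a, b⟩ | ⟨a, b⟩
    · exact key _ (mul_mem hC hD) a b
    · exact key _ (mul_mem hC (inv_mem hD)) a b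
    · exact key _ (mul_mem (mul_mem hC hD) hA) a b
  have h120 : 120 ∣ Nat.card H := Nat.Coprime.mul_dvd_of_dvd_of_dvd (m := 3 * 5) (n := 8) (by norm_num)
    (Nat.Coprime.mul_dvd_of_dvd_of_dvd (by norm_num) h3 h5) h8
  haveI : IsSimpleGroup A6 := alternatingGroup.isSimpleGroup (by simp)
  have h6 := CfsgLib.Recog.ThreeSixty.six_le_index card_A6 H hne
  have h := H.card_mul_index
  rw [card_A6] at h
  obtain ⟨k, hk⟩ := h120
  rw [hk] at h
  have : 0 < k := by
    rcases Nat.eq_zero_or_pos k with h0 | h0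
    · simp [h0] at h
    · exact h0
  nlinarith

end CfsgLib.M12Counts.Six
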